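import Cfsg.Agent.Lib.BCGraph.Transfer
import Cfsg.Agent.Lib.ClassicalIso.OddOrthInvolutions

/-!
Adjacency in the prime graphs of `PSp(2n,q)` and `PΩ(2n+1,q)`, `q` odd.
-/

set_option autoImplicit false
set_option linter.unusedSectionVars false

namespace Cfsg.Agent.Lib.BCGraph

open Module QuadraticMap
open Cfsg.Agent.Lib.Forms Cfsg.Agent.Lib.Symplectic

section Groups

variable {G : Type*} [Group G]

theorem mem_range_orderOf_iff [Finite G] {r s : ℕ} (hr : r.Prime) (hs : s.Prime) (hrs : r ≠ s) :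
    r * s ∈ Set.range (orderOf : G → ℕ) ↔ PrPair G r s := by
  constructor
  · rintro ⟨g, hg⟩
    have e : g ^ (r * s) = 1 := by rw [← hg, pow_orderOf_eq_one]
    have ne : ∀ k, k < r * s → 0 < k → g ^ k ≠ 1 := fun k hk hk0 h =>
      absurd (Nat.le_of_dvd hk0 (orderOf_dvd_of_pow_eq_one h)) (by omega)
    refine ⟨g ^ r, g ^ s, by rw [← pow_mul, e], ne r ?_ hr.pos, by rw [← pow_mul, mul_comm, e],
      ne s ?_ hs.pos, (Commute.refl g).pow_pow _ _⟩
    · exact lt_mul_of_one_lt_right hr.pos hs.one_lt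
    · exact lt_mul_of_one_lt_left hs.pos hr.one_lt
  · rintro ⟨h, y, hhs, h1, hyr, y1, hc⟩
    haveI := Fact.mk hr
    haveI := Fact.mk hs
    have oh := orderOf_eq_prime hhs h1
    have oy := orderOf_eq_prime hyr y1
    exact ⟨h * y, by
      rw [hc.orderOf_mul_eq_mul_orderOf_of_coprime (by
        rw [oh, oy]; exact (Nat.coprime_primes hs hr).2 (Ne.symm hrs)), oh, oy, mul_comm]⟩

theorem PrPair.symm {r s : ℕ} (h : PrPair G r s) : PrPair G s r := by
  obtain ⟨a, b, h1, h2, h3, h4, h5⟩ := h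
  exact ⟨b, a, h3, h4, h1, h2, h5.symm⟩

/-- An element of odd exponent is a square. -/
theorem exists_sq_of_odd {g : G} {k : ℕ} (hk : Odd k) (h : g ^ k = 1) : ∃ w, w * w = g := by
  obtain ⟨t, rfl⟩ := hk
  refine ⟨g ^ (t + 1), ?_⟩
  rw [← pow_add, show t + 1 + (t + 1) = 2 * t + 1 + 1 by ring, pow_succ, h, one_mul]

theorem prPair_subgroup_iff {H : Subgroup G} (hsq : ∀ g : G, g * g ∈ H) {r s : ℕ} (hr : Odd r)
    (hs : Odd s) : PrPair H r s ↔ PrPair G r s := by
  refine ⟨PrPair.map H.subtype H.subtype_injective, ?_⟩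
  rintro ⟨h, y, hhs, h1, hyr, y1, hc⟩
  obtain ⟨a, rfl⟩ := exists_sq_of_odd hs hhs
  obtain ⟨b, rfl⟩ := exists_sq_of_odd hr hyr
  exact ⟨⟨_, hsq a⟩, ⟨_, hsq b⟩, Subtype.ext hhs, fun e => h1 (congrArg Subtype.val e),
    Subtype.ext hyr, fun e => y1 (congrArg Subtype.val e), Subtype.ext hc.eq⟩

theorem prPair_subgroup_two_iff {H : Subgroup G} (hsq : ∀ g : G, g * g ∈ H) {s : ℕ}
    (hs : Odd s) : PrPair H 2 s ↔
      ∃ h y : G, h ^ s = 1 ∧ h ≠ 1 ∧ Commute h y ∧ y ∈ H ∧ y * y = 1 ∧ y ≠ 1 := by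
  constructor
  · rintro ⟨h, y, hhs, h1, hyr, y1, hc⟩
    exact ⟨h, y, congrArg Subtype.val hhs, fun e => h1 (Subtype.ext e),
      congrArg Subtype.val hc.eq, y.2, by simpa [pow_two] using congrArg Subtype.val hyr,
      fun e => y1 (Subtype.ext e)⟩
  · rintro ⟨h, y, hhs, h1, hc, hy, hyy, y1⟩
    obtain ⟨a, rfl⟩ := exists_sq_of_odd hs hhs
    exact ⟨⟨_, hsq a⟩, ⟨y, hy⟩, Subtype.ext hhs, fun e => h1 (congrArg Subtype.val e),
      Subtype.ext (by simpa [pow_two] using hyy), fun e => y1 (congrArg Subtype.val e),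
      Subtype.ext hc.eq⟩

variable (hZ : ∀ z ∈ Subgroup.center G, z * z = 1)
include hZ

/-- Lift to an element with the same odd exponent. -/
theorem exists_lift {a : G ⧸ Subgroup.center G} {k : ℕ} (hk : Odd k) (ha : a ^ k = 1) :
    ∃ g : G, g ^ k = 1 ∧ (QuotientGroup.mk g : G ⧸ Subgroup.center G) = a := by
  obtain ⟨g, rfl⟩ := QuotientGroup.mk_surjective a
  have hz : g ^ k ∈ Subgroup.center G := by
    rw [← QuotientGroup.eq_one_iff, QuotientGroup.mk_pow, ha]
  refine ⟨g ^ (k + 1), ?_, ?_⟩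
  · rw [← pow_mul, mul_comm, pow_mul]
    obtain ⟨t, rfl⟩ := hk
    rw [show 2 * t + 1 + 1 = 2 * (t + 1) by ring, pow_mul, pow_two, hZ _ hz, one_pow]
  · rw [QuotientGroup.mk_pow, pow_succ, ha, one_mul]

/-- An element of odd exponent commuting modulo the centre commutes. -/
theorem commute_of_mk {h y : G} {k : ℕ} (hk : Odd k) (hh : h ^ k = 1)
    (hc : Commute (QuotientGroup.mk h : G ⧸ Subgroup.center G) (QuotientGroup.mk y)) :
    Commute h y := by
  have hz : (y * h)⁻¹ * (h * y) ∈ Subgroup.center G := by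
    rw [← QuotientGroup.eq_one_iff]
    simp [hc.eq]
  obtain ⟨z, hz, e⟩ : ∃ z ∈ Subgroup.center G, h * y = y * h * z :=
    ⟨_, hz, by group⟩
  have key : ∀ j : ℕ, h ^ j * y = y * h ^ j * z ^ j := by
    intro j
    induction j with
    | zero => simp
    | succ j ih =>
      have hzc := fun g => Subgroup.mem_center_iff.1 ((Subgroup.center G).pow_mem hz j) g
      rw [pow_succ' h, mul_assoc, ih, ← mul_assoc, ← mul_assoc, e]
      calc y * h * z * h ^ j * z ^ j = y * h * (z * h ^ j) * z ^ j := by group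
        _ = y * h * (h ^ j * z) * z ^ j := by rw [← Subgroup.mem_center_iff.1 hz (h ^ j)]
        _ = y * (h * h ^ j) * z ^ (j + 1) := by rw [pow_succ' z]; group
  have h2 := key k
  rw [hh, one_mul, mul_one] at h2
  have h3 : z ^ k = 1 := mul_eq_left.1 h2.symm
  obtain ⟨t, rfl⟩ := hk
  rw [pow_succ, pow_mul, pow_two, hZ z hz, one_pow, one_mul] at h3
  show h * y = y * h
  rw [e, h3, mul_one]

theorem prPair_quotient_iff {r s : ℕ} (hr : Odd r) (hs : Odd s) :
    PrPair (G ⧸ Subgroup.center G) r s ↔ PrPair G r s := by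
  constructor
  · rintro ⟨a, b, has, a1, hbr, b1, hc⟩
    obtain ⟨h, hhs, rfl⟩ := exists_lift hZ hs has
    obtain ⟨y, hyr, rfl⟩ := exists_lift hZ hr hbr
    exact ⟨h, y, hhs, fun e => a1 (by rw [e]; rfl), hyr, fun e => b1 (by rw [e]; rfl),
      commute_of_mk hZ hs hhs hc⟩
  · rintro ⟨h, y, hhs, h1, hyr, y1, hc⟩
    have key : ∀ {g : G} {k : ℕ}, Odd k → g ^ k = 1 → g ≠ 1 →
        (QuotientGroup.mk g : G ⧸ Subgroup.center G) ≠ 1 := by
      intro g k hk hg g1 e
      obtain ⟨t, rfl⟩ := hk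
      rw [pow_succ, pow_mul, pow_two, hZ g ((QuotientGroup.eq_one_iff g).1 e), one_pow, one_mul] at hg
      exact g1 hg
    exact ⟨QuotientGroup.mk h, QuotientGroup.mk y, by rw [← QuotientGroup.mk_pow, hhs]; rfl,
      key hs hhs h1, by rw [← QuotientGroup.mk_pow, hyr]; rfl, key hr hyr y1,
      hc.map (QuotientGroup.mk' _)⟩

theorem prPair_quotient_two_iff {s : ℕ} (hs : Odd s) :
    PrPair (G ⧸ Subgroup.center G) 2 s ↔
      ∃ h y : G, h ^ s = 1 ∧ h ≠ 1 ∧ Commute h y ∧ y * y ∈ Subgroup.center G ∧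
        y ∉ Subgroup.center G := by
  constructor
  · rintro ⟨a, b, has, a1, hbr, b1, hc⟩
    obtain ⟨h, hhs, rfl⟩ := exists_lift hZ hs has
    obtain ⟨y, rfl⟩ := QuotientGroup.mk_surjective b
    exact ⟨h, y, hhs, fun e => a1 (by rw [e]; rfl), commute_of_mk hZ hs hhs hc,
      (QuotientGroup.eq_one_iff _).1 (by rw [← pow_two, QuotientGroup.mk_pow, hbr]),
      fun e => b1 ((QuotientGroup.eq_one_iff y).2 e)⟩
  · rintro ⟨h, y, hhs, h1, hc, hyy, hy⟩
    refine ⟨QuotientGroup.mk h, QuotientGroup.mk y, by rw [← QuotientGroup.mk_pow, hhs]; rfl, ?_,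
      ?_, fun e => hy ((QuotientGroup.eq_one_iff y).1 e), hc.map (QuotientGroup.mk' _)⟩
    · intro e
      obtain ⟨t, rfl⟩ := hs
      rw [pow_succ, pow_mul, pow_two, hZ h ((QuotientGroup.eq_one_iff h).1 e), one_pow, one_mul] at hhs
      exact h1 hhs
    · rw [← QuotientGroup.mk_pow, pow_two]
      exact (QuotientGroup.eq_one_iff _).2 hyy

end Groups

variable {F : Type*} [Field F] [Fintype F]

theorem mem_center_isom {n : ℕ} (g : Isom (stdForm n F)) :
    g ∈ Subgroup.center (Isom (stdForm n F)) ↔ g = 1 ∨ g = negIsom (stdForm n F) := by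
  have h := Set.ext_iff.1 (center_isom (B := stdForm n F) (isSympForm_stdForm n F)) g
  simpa using h

theorem center_sq {n : ℕ} : ∀ z ∈ Subgroup.center (Isom (stdForm n F)), z * z = 1 := by
  intro z hz
  rcases (mem_center_isom z).1 hz with rfl | rfl
  · exact one_mul 1
  · exact isom_ext fun x => by simp [mul_smul]

theorem spTwo_iff {n s : ℕ} (hs : Odd s) :
    PrPair (Isom (stdForm n F) ⧸ Subgroup.center (Isom (stdForm n F))) 2 s ↔ SpTwo n s F := by
  rw [prPair_quotient_two_iff center_sq hs]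
  simp only [SpTwo, mem_center_isom, not_or]

/-- The pair for the prime equal to the characteristic and the prime two. -/
theorem spTwo_char (hodd : Odd (Fintype.card F)) {n : ℕ} (hn : 2 ≤ n) {p : ℕ} (hp : p.Prime)
    [CharP F p] : SpTwo n p F := by
  have h2 := two_ne_zero' hodd
  have hBT := isSymp_prodForm (isSympForm_stdForm 1 F) (isSympForm_stdForm (n - 1) F)
  obtain ⟨e, he⟩ := exists_isometry hBT (isSympForm_stdForm n F)
    (by rw [finrank_prod, finrank_std, finrank_std, finrank_std]; omega)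
  let ι := (isomCongr e he).toMonoidHom.comp (spGlue (stdForm 1 F) (stdForm (n - 1) F))
  have hι : Function.Injective ι := (isomCongr e he).injective.comp (spGlue_injective _ _)
  have hιneg : ι (negIsom _, negIsom _) = negIsom (stdForm n F) := by
    refine isom_ext fun x => ?_
    obtain ⟨z, rfl⟩ := e.surjective x
    exact (isomCongr_smul e he _ z).trans (by
      show e (glueHom ((negIsom (stdForm 1 F)).1, (negIsom (stdForm (n - 1) F)).1) z) = -e z
      rw [← map_neg]; rfl)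
  have hpq : p ∣ Fintype.card F := by
    obtain ⟨k, -, hk⟩ := FiniteField.card F p
    rw [hk]; exact dvd_pow_self p k.ne_zero
  obtain ⟨g, g1, gp⟩ := exists_pow_of_dvd (G := Isom (stdForm (n - 1) F)) hp (by
    rw [card_isom_model (isSympForm_stdForm (n - 1) F) (finrank_std (n - 1) F)]
    exact (hpq.trans (dvd_pow_self _ (pow_ne_zero 2 (by omega)))).mul_right _)
  have hm1 : negIsom (stdForm 1 F) ≠ 1 := fun e0 => h2 (negIsom_eq_one_iff.1 e0)
  haveI : Nonempty (Fin (n - 1) ⊕ Fin (n - 1)) := ⟨Sum.inl ⟨0, by omega⟩⟩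
  have hm2 : negIsom (stdForm (n - 1) F) ≠ 1 := fun e0 => h2 (negIsom_eq_one_iff.1 e0)
  refine ⟨ι (1, g), ι (negIsom _, 1), ?_, (map_ne_one_iff ι hι).2 fun e0 => g1 (congrArg Prod.snd e0),
    (Commute.prod (Commute.one_left _) (Commute.one_right g)).map ι, Or.inl ?_,
    (map_ne_one_iff ι hι).2 fun e0 => hm1 (congrArg Prod.fst e0),
    fun e0 => hm2 (congrArg Prod.snd (hι (e0.trans hιneg.symm))).symm⟩
  · rw [← map_pow, Prod.pow_mk, gp, one_pow]; exact map_one ι
  · rw [← map_mul]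
    exact (congrArg ι (Prod.ext (isom_ext fun x => by simp [mul_smul]) (one_mul 1))).trans (map_one ι)

theorem oTwo_char (hodd : Odd (Fintype.card F)) {n : ℕ} (hn : 3 ≤ n) {p : ℕ} (hp : p.Prime)
    [CharP F p] : OTwo n p F := by
  have h2 := two_ne_zero' hodd
  obtain ⟨Θ⟩ := nonempty_orth_mulEquiv_odd
    (Q := (OrthStd.qOddC 1 F).prod (qPlus (F := F) (n - 1)))
    (prod_nondeg (qOddC_nondeg h2 1) (qPlus_nondeg _)) (n := n) (by
      rw [finrank_prod, finrank_qOddC, finrank_std]; omega)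
  let ι := Θ.toMonoidHom.comp (orthGlue (OrthStd.qOddC 1 F) (qPlus (F := F) (n - 1)))
  have hι : Function.Injective ι := Θ.injective.comp (orthGlue_injective _ _)
  have hpq : p ∣ Fintype.card F := by
    obtain ⟨k, -, hk⟩ := FiniteField.card F p
    rw [hk]; exact dvd_pow_self p k.ne_zero
  obtain ⟨g, g1, gp⟩ := exists_pow_of_dvd (G := orth (qPlus (F := F) (n - 1))) hp (by
    rw [← OrthStd.card_isometry (OrthStd.quadFormPlus_eq (n - 1)),
      OrthStd.card_orth_plus rfl (n - 1) (by omega)]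
    exact (((hpq.trans (dvd_pow_self _ (Nat.mul_ne_zero (by omega) (by omega)))).mul_left 2).mul_right
      _).mul_right _)
  obtain ⟨z, hz, hzz, hz1⟩ := exists_omega_involution (F := F) hodd le_rfl
  refine ⟨ι (1, g), ι (z, 1), ?_, (map_ne_one_iff ι hι).2 fun e0 => g1 (congrArg Prod.snd e0),
    (Commute.prod (Commute.one_left z) (Commute.one_right g)).map ι,
    map_mem_commutator (ι.comp (MonoidHom.inl _ _)) hz, ?_,
    (map_ne_one_iff ι hι).2 fun e0 => hz1 (congrArg Prod.fst e0)⟩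
  · rw [← map_pow, Prod.pow_mk, gp, one_pow]; exact map_one ι
  · rw [← map_mul]
    exact (congrArg ι (Prod.ext hzz (one_mul 1))).trans (map_one ι)

/-- `PΩ(2n+1,q)` is the commutator subgroup of the orthogonal group. -/
theorem nonempty_pOmega_equiv (hodd : Odd (Fintype.card F)) {n : ℕ} (hn : 3 ≤ n) :
    Nonempty (Cfsg.POmega F (Cfsg.quadFormOdd n F) ≃* commutator (orth (OrthStd.qOddC n F))) := by
  have h2 := two_ne_zero' hodd
  have hq : (Orth52.qOddFn (F := F) n) = OrthStd.qOddC n F :=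
    QuadraticMap.ext fun v => by rw [← Orth52.qOddFn_apply, OrthStd.quadFormOdd_eq]
  let iso := isoOrth (OrthStd.qOddC n F) (OrthStd.quadFormOdd_eq n)
  let e1 : Cfsg.Omega F (Cfsg.quadFormOdd n F) ≃* commutator (orth (OrthStd.qOddC n F)) :=
    (iso.subgroupMap _).trans (MulEquiv.subgroupCongr (map_commutator_equiv iso))
  have hbot : Subgroup.center (Cfsg.Omega F (Cfsg.quadFormOdd n F)) = ⊥ := by
    rw [Subgroup.eq_bot_iff_forall]
    intro w hw
    apply e1.injective
    rw [map_one]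
    refine Subtype.ext ?_
    have key : ∀ Q : QuadraticForm F (Unit ⊕ (Fin n ⊕ Fin n) → F), Orth52.qOddFn n = Q →
        ∀ z : orth Q, z ∈ commutator (orth Q) → (∀ g ∈ commutator (orth Q), g * z = z * g) →
          z = 1 := by
      rintro Q rfl z hz hc
      exact ClassicalIso.center_commutator_trivial h2 hn hz hc
    refine key _ hq _ (e1 w).2 fun g hg => ?_
    have h := congrArg e1 (Subgroup.mem_center_iff.1 hw (e1.symm ⟨g, hg⟩))
    rw [map_mul, map_mul, MulEquiv.apply_symm_apply] at h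
    exact congrArg Subtype.val h
  exact ⟨((QuotientGroup.quotientMulEquivOfEq hbot).trans QuotientGroup.quotientBot).trans e1⟩

theorem PrPair.congr {G H : Type*} [Group G] [Group H] (e : G ≃* H) {r s : ℕ} :
    PrPair G r s ↔ PrPair H r s :=
  ⟨PrPair.map e.toMonoidHom e.injective, PrPair.map e.symm.toMonoidHom e.symm.injective⟩

/-- The two prime graphs agree. -/
theorem prPair_iff (hodd : Odd (Fintype.card F)) {n : ℕ} (hn : 3 ≤ n) {r s : ℕ} (hr : r.Prime)
    (hs : s.Prime) (hrs : r ≠ s) :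
    PrPair (commutator (orth (OrthStd.qOddC n F))) r s ↔
      PrPair (Isom (stdForm n F) ⧸ Subgroup.center (Isom (stdForm n F))) r s := by
  have h2 := two_ne_zero' hodd
  have hQ := qOddC_nondeg h2 n
  have hn2 : 2 ≤ finrank F (Unit ⊕ (Fin n ⊕ Fin n) → F) := by rw [finrank_qOddC]; omega
  have hsq := sq_mem_commutator hQ h2 hn2
  obtain ⟨p, hp⟩ := CharP.exists F
  haveI := hp
  have hpp : p.Prime := CharP.char_is_prime F p
  have hp0 : ∀ {t : ℕ}, t.Prime → t ≠ p → (t : F) ≠ 0 := fun ht htp h0 =>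
    htp ((Nat.prime_dvd_prime_iff_eq hpp ht).1 ((CharP.cast_eq_zero_iff F p _).1 h0)).symm
  -- the two-prime
  have two : ∀ t : ℕ, t.Prime → t ≠ 2 →
      (PrPair (commutator (orth (OrthStd.qOddC n F))) 2 t ↔
        PrPair (Isom (stdForm n F) ⧸ Subgroup.center (Isom (stdForm n F))) 2 t) := by
    intro t ht ht2
    have hto : Odd t := ht.odd_of_ne_two ht2
    rw [prPair_subgroup_two_iff hsq hto, spTwo_iff hto]
    show OTwo n t F ↔ _
    by_cases htp : t = p
    · subst htp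
      exact iff_of_true (oTwo_char hodd hn ht) (spTwo_char hodd (by omega) ht)
    constructor
    · rintro ⟨h, y, hhs, h1, hc, hy, hyy, y1⟩
      exact (orth_to_sp hodd hQ (by omega) ht hto (hp0 ht htp) h y hhs h1 hc).2 hy hyy y1
    · rintro ⟨h, y, hhs, h1, hc, hyy, y1, yn⟩
      exact (sp_to_orth hodd (isSympForm_stdForm n F) ht hto (hp0 ht htp) h y hhs h1 hc).2 hyy y1 yn
  -- odd primes
  have oddp : ∀ a b : ℕ, a.Prime → b.Prime → a ≠ 2 → b ≠ 2 → b ≠ p →
      (PrPair (commutator (orth (OrthStd.qOddC n F))) a b ↔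
        PrPair (Isom (stdForm n F) ⧸ Subgroup.center (Isom (stdForm n F))) a b) := by
    intro a b ha hb ha2 hb2 hbp
    have hao : Odd a := ha.odd_of_ne_two ha2
    have hbo : Odd b := hb.odd_of_ne_two hb2
    rw [prPair_subgroup_iff hsq hao hbo, prPair_quotient_iff center_sq hao hbo]
    constructor
    · rintro ⟨h, y, hhs, h1, hyr, y1, hc⟩
      exact (orth_to_sp hodd hQ (by omega) hb hbo (hp0 hb hbp) h y hhs h1 hc).1 a ha hao hyr y1
    · rintro ⟨h, y, hhs, h1, hyr, y1, hc⟩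
      exact (sp_to_orth hodd (isSympForm_stdForm n F) hb hbo (hp0 hb hbp) h y hhs h1 hc).1 a ha hao hyr y1
  by_cases hr2 : r = 2
  · subst hr2
    exact two s hs (Ne.symm hrs)
  by_cases hs2 : s = 2
  · subst hs2
    exact ⟨fun h => ((two r hr hr2).1 h.symm).symm, fun h => ((two r hr hr2).2 h.symm).symm⟩
  by_cases hsp : s = p
  · have hrp : r ≠ p := fun e => hrs (e.trans hsp.symm)
    exact ⟨fun h => ((oddp s r hs hr hs2 hr2 hrp).1 h.symm).symm,
      fun h => ((oddp s r hs hr hs2 hr2 hrp).2 h.symm).symm⟩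
  · exact oddp r s hr hs hr2 hs2 hsp

end Cfsg.Agent.Lib.BCGraph
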