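import Cfsg.Agent.Lib.BCGraph.Adjacency
import Cfsg.Agent.Lib.LinearOrders.FieldModule

/-!
Which primes occur in linear and symplectic groups; commuting pairs `(r, p)` in `Sp(2n,q)`.
-/

set_option autoImplicit false
set_option linter.unusedSectionVars false

namespace Cfsg.Agent.Lib.BCGraph

open Module Polynomial
open Cfsg.Agent.Lib.Forms Cfsg.Agent.Lib.Symplectic

variable {F : Type*} [Field F] [Fintype F]

/-- The multiplicative order of `q` modulo `r` divides `i` exactly when `r ∣ q^i - 1`. -/
theorem dvd_pow_sub_one_iff {r i : ℕ} :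
    r ∣ Fintype.card F ^ i - 1 ↔ orderOf ((Fintype.card F : ℕ) : ZMod r) ∣ i := by
  rw [orderOf_dvd_iff_pow_eq_one, ← ZMod.natCast_eq_zero_iff, Nat.cast_sub
    (Nat.one_le_pow _ _ Fintype.card_pos), Nat.cast_pow, Nat.cast_one, sub_eq_zero]

variable {V : Type*} [AddCommGroup V] [Module F V] [FiniteDimensional F V]

theorem exists_dvd_of_dvd_card_GL {r : ℕ} (hr : r.Prime) (hrq : ¬ r ∣ Fintype.card F)
    (h : r ∣ Nat.card (V ≃ₗ[F] V)) :
    ∃ i, 1 ≤ i ∧ i ≤ finrank F V ∧ r ∣ Fintype.card F ^ i - 1 := by
  let b := Module.finBasis F V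
  have e : GL (Fin (finrank F V)) F ≃* (V ≃ₗ[F] V) :=
    ((Units.mapEquiv (Matrix.toLinAlgEquiv b).toMulEquiv)).trans
      (LinearMap.GeneralLinearGroup.generalLinearEquiv F V)
  rw [← Nat.card_congr e.toEquiv, Matrix.card_GL_field] at h
  obtain ⟨i, -, hi⟩ := (Prime.dvd_finsetProd_iff hr.prime _).1 h
  have e2 : Fintype.card F ^ finrank F V - Fintype.card F ^ (i : ℕ) =
      Fintype.card F ^ (i : ℕ) * (Fintype.card F ^ (finrank F V - i) - 1) := by
    rw [Nat.mul_sub, mul_one, ← pow_add, Nat.add_sub_cancel' i.2.le]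
  rw [e2] at hi
  refine ⟨finrank F V - i, Nat.sub_pos_of_lt i.2, Nat.sub_le _ _, (hr.dvd_mul.1 hi).resolve_left ?_⟩
  exact fun hd => hrq (hr.dvd_of_dvd_pow hd)

theorem exists_dvd_of_dvd_card_isom {B : V →ₗ[F] V →ₗ[F] F} (hB : IsSympForm B) {m : ℕ}
    (hm : finrank F V = 2 * m) {r : ℕ} (hr : r.Prime) (hrq : ¬ r ∣ Fintype.card F)
    (h : r ∣ Nat.card (Isom B)) : ∃ i, 1 ≤ i ∧ i ≤ m ∧ r ∣ Fintype.card F ^ (2 * i) - 1 := by
  rw [card_isom_model hB hm] at h
  obtain ⟨i, hi, hi'⟩ := (Prime.dvd_finsetProd_iff hr.prime _).1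
    ((hr.dvd_mul.1 h).resolve_left fun hd => hrq (hr.dvd_of_dvd_pow hd))
  exact ⟨i + 1, by omega, Finset.mem_range.1 hi, hi'⟩

theorem eta_le_of_dvd {k ηk i : ℕ} (hη : (Odd k ∧ ηk = k) ∨ (Even k ∧ 2 * ηk = k)) (hi : 1 ≤ i)
    (hd : k ∣ 2 * i) : ηk ≤ i := by
  rcases hη with ⟨ho, rfl⟩ | ⟨-, rfl⟩
  · exact Nat.le_of_dvd (by omega) ((Nat.Coprime.dvd_mul_left (Nat.coprime_two_right.2 ho)).1 hd)
  · exact Nat.le_of_dvd (by omega) ((Nat.mul_dvd_mul_iff_left (show 0 < 2 by norm_num)).1 hd)

theorem dvd_two_mul_eta {k ηk : ℕ} (hη : (Odd k ∧ ηk = k) ∨ (Even k ∧ 2 * ηk = k)) : k ∣ 2 * ηk := by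
  rcases hη with ⟨-, rfl⟩ | ⟨-, rfl⟩
  · exact dvd_mul_left _ _
  · exact dvd_rfl

/-- A non-trivial element of prime exponent on an invariant subspace without fixed vectors. -/
theorem le_finrank_of_fpf {r : ℕ} (hr : r.Prime) (hrq : ¬ r ∣ Fintype.card F) [Nontrivial V]
    {h : V ≃ₗ[F] V} (hh : h ^ r = 1) (hf : FPF h) :
    orderOf ((Fintype.card F : ℕ) : ZMod r) ≤ finrank F V := by
  have h1 : h ≠ 1 := by
    intro e
    obtain ⟨x, hx⟩ := exists_ne (0 : V)
    exact hx (hf x (by rw [e]; rfl))
  obtain ⟨i, hi1, hi2, hi3⟩ := exists_dvd_of_dvd_card_GL hr hrq (dvd_card_of_pow hr h1 hh)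
  exact (Nat.le_of_dvd hi1 (dvd_pow_sub_one_iff.1 hi3)).trans hi2

theorem pow_apply_toLinearMap (h : V ≃ₗ[F] V) (j : ℕ) (x : V) :
    ((h.toLinearMap : Module.End F V) ^ j) x = (h ^ j) x := by
  induction j generalizing x with
  | zero => rfl
  | succ j ih => rw [pow_succ, pow_succ, Module.End.mul_apply, LinearEquiv.mul_apply, ih]; rfl

theorem symm_pow_apply (h : V ≃ₗ[F] V) {r : ℕ} (hr : 1 ≤ r) (hh : h ^ r = 1) (x : V) :
    ((h.toLinearMap : Module.End F V) ^ (r - 1)) x = h.symm x := by
  apply h.injective
  rw [pow_apply_toLinearMap, ← LinearEquiv.mul_apply, ← pow_succ', Nat.sub_add_cancel hr, hh,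
    h.apply_symm_apply]
  rfl

theorem adjoint_aeval {B : V →ₗ[F] V →ₗ[F] F} {h : V ≃ₗ[F] V} (hh : h ∈ Isom B) (f : F[X]) :
    ∀ x y, B x (aeval (h.toLinearMap : Module.End F V) f y) =
      B (aeval (h.symm.toLinearMap : Module.End F V) f x) y := by
  induction f using Polynomial.induction_on' with
  | add f g hf hg => intro x y; simp [hf x y, hg x y]
  | monomial n a =>
    intro x y
    have hpow : ∀ n : ℕ, ∀ x y, B x (((h.toLinearMap : Module.End F V) ^ n) y) =
        B (((h.symm.toLinearMap : Module.End F V) ^ n) x) y := by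
      intro n
      induction n with
      | zero => intro x y; rfl
      | succ n ih =>
        intro x y
        rw [pow_succ', Module.End.mul_apply, pow_succ, Module.End.mul_apply, ← ih]
        have := isom_symm_apply hh (h.symm x) (((h.toLinearMap : Module.End F V) ^ n) y)
        rw [h.apply_symm_apply] at this
        show B x (h _) = _
        calc B x (h (((h.toLinearMap : Module.End F V) ^ n) y))
            = B (h (h.symm x)) (h (((h.toLinearMap : Module.End F V) ^ n) y)) := by
              rw [h.apply_symm_apply]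
          _ = _ := hh _ _
    simp [aeval_monomial, Module.algebraMap_end_apply, hpow n x y]

/-- A commuting pair of orders `r` and `p` forces `η(k) ≤ n - 1`. -/
theorem eta_le_of_pair {B : V →ₗ[F] V →ₗ[F] F} (hB : IsSympForm B) {n : ℕ} (hn : 2 ≤ n)
    (hdim : finrank F V = 2 * n) {r p : ℕ} (hr : r.Prime) (hr2 : r ≠ 2) [Fact p.Prime] [CharP F p]
    (hrp : r ≠ p) {h g : Isom B} (hhr : h ^ r = 1) (h1 : h ≠ 1) (hgp : g ^ p = 1) (g1 : g ≠ 1)
    (hc : Commute h g) {ηk : ℕ}
    (hη : (Odd (orderOf ((Fintype.card F : ℕ) : ZMod r)) ∧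
        ηk = orderOf ((Fintype.card F : ℕ) : ZMod r)) ∨
      (Even (orderOf ((Fintype.card F : ℕ) : ZMod r)) ∧
        2 * ηk = orderOf ((Fintype.card F : ℕ) : ZMod r))) : ηk ≤ n - 1 := by
  classical
  haveI := Fact.mk hr
  set k := orderOf ((Fintype.card F : ℕ) : ZMod r) with hk
  have hr0 : (r : F) ≠ 0 := fun e => hrp
    ((Nat.prime_dvd_prime_iff_eq Fact.out hr).1 ((CharP.cast_eq_zero_iff F p r).1 e)).symm
  have hrq : ¬ r ∣ Fintype.card F := by
    obtain ⟨j, hpp, hj⟩ := FiniteField.card F p
    rw [hj]
    exact fun hd => hrp ((Nat.prime_dvd_prime_iff_eq hr hpp).1 (hr.dvd_of_dvd_pow hd))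
  have hh' : h.1 ^ r = 1 := congrArg Subtype.val hhr
  have h1' : h.1 ≠ 1 := fun e => h1 (Subtype.ext e)
  by_cases hK : fixSpace h.1 ≠ ⊥
  · set W := LinearMap.range (dev h.1) with hWdef
    have hKW : IsCompl (fixSpace h.1) W := isCompl_fix_range hr0 hh'
    obtain ⟨hBW, hBK⟩ := isSymp_restr_compl hB hKW fun a ha w hw => fix_range_orth h.2 ha hw
    let C : Subgroup (V ≃ₗ[F] V) := Subgroup.centralizer {h.1} ⊓ Isom B
    let πW := spRes C inf_le_right W fun a ha x hx =>
      range_dev_invariant (Subgroup.mem_centralizer_singleton_iff.1 ha.1) hx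
    let hh : C := ⟨h.1, Subgroup.mem_centralizer_singleton_iff.2 rfl, h.2⟩
    have hW1 : πW hh ≠ 1 := by
      intro e
      refine h1' (ext_isCompl hKW (fun x hx => mem_fixSpace.1 hx) fun x hx => ?_)
      exact congrArg Subtype.val
        (LinearEquiv.congr_fun (congrArg Subtype.val e) (⟨x, hx⟩ : W))
    obtain ⟨w, hw⟩ := even_finrank hBW
    obtain ⟨m, hm⟩ := even_finrank hBK
    have hsum := Submodule.finrank_add_eq_of_isCompl hKW
    have hm0 : 0 < finrank F (fixSpace h.1) := by
      haveI := Submodule.nontrivial_iff_ne_bot.2 hK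
      exact finrank_pos
    obtain ⟨i, hi1, hi2, hi3⟩ := exists_dvd_of_dvd_card_isom hBW (m := w) (by omega) hr hrq
      (dvd_card_of_pow hr hW1 (by rw [← map_pow, show hh ^ r = 1 from Subtype.ext hh', map_one]))
    have := eta_le_of_dvd hη hi1 (dvd_pow_sub_one_iff.1 hi3)
    omega
  · rw [not_not] at hK
    have hf : FPF h.1 := fun x hx => (Submodule.eq_bot_iff _).1 hK x (mem_fixSpace.2 hx)
    let N : Module.End F V := dev g.1
    have hgh : g.1 * h.1 = h.1 * g.1 := (congrArg Subtype.val hc.eq).symm
    have hNp : N ^ p = 0 := by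
      haveI : Nontrivial V := Module.nontrivial_of_finrank_pos (R := F) (by omega)
      haveI : CharP (Module.End F V) p :=
        charP_of_injective_algebraMap (algebraMap F (Module.End F V)).injective p
      have e := LinearOrders.sub_one_pow_char_pow (Fact.out : p.Prime)
        (CharP.cast_eq_zero (Module.End F V) p) (g.1.toLinearMap : Module.End F V) 1
      rw [pow_one] at e
      have e2 : (g.1.toLinearMap : Module.End F V) ^ p = 1 := LinearMap.ext fun x => by
        rw [pow_apply_toLinearMap, show g.1 ^ p = 1 from congrArg Subtype.val hgp]; rfl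
      rw [e2] at e
      exact (add_eq_right (M := Module.End F V)).1 e.symm
    have hN1 : N ≠ 0 := fun e => g1 (Subtype.ext (LinearEquiv.ext fun x =>
      sub_eq_zero.1 (LinearMap.congr_fun e x)))
    obtain ⟨j, hj0, hjne, hjz⟩ : ∃ j, 1 ≤ j ∧ N ^ j ≠ 0 ∧ N ^ (j + 1) = 0 := by
      have hex : ∃ j, N ^ (j + 1) = 0 :=
        ⟨p - 1, by rw [Nat.sub_add_cancel (Fact.out : p.Prime).one_le]; exact hNp⟩
      refine ⟨Nat.find hex, ?_, ?_, Nat.find_spec hex⟩
      · by_contra h0
        have h00 : Nat.find hex = 0 := by omega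
        have h01 := Nat.find_spec hex
        rw [h00, zero_add, pow_one] at h01
        exact hN1 h01
      · intro e
        rcases hm : Nat.find hex with _ | m
        · rw [hm, pow_zero] at e
          exact hN1 (by rw [← mul_one N, e, mul_zero])
        · rw [hm] at e
          exact Nat.find_min hex (show m < Nat.find hex by omega) e
    let R : Submodule F V := LinearMap.ker N ⊓ LinearMap.range N
    have hRinv : ∀ x ∈ R, h.1 x ∈ R := fun x hx =>
      ⟨fixSpace_invariant hgh.symm hx.1, range_dev_invariant hgh.symm hx.2⟩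
    have hMR : ∀ x, (N ^ j) x ∈ R := by
      intro x
      refine ⟨?_, ?_⟩
      · show N ((N ^ j) x) = 0
        rw [← Module.End.mul_apply, ← pow_succ', hjz]; rfl
      · refine ⟨(N ^ (j - 1)) x, ?_⟩
        show N _ = _
        rw [← Module.End.mul_apply, ← pow_succ', Nat.sub_add_cancel hj0]
    have hRbot : R ≠ ⊥ := fun e => hjne (LinearMap.ext fun x => (Submodule.eq_bot_iff _).1 e _ (hMR x))
    have hRk : ∀ x ∈ R, (N ^ j) x = 0 := fun x hx => by
      rw [show N ^ j = N ^ (j - 1) * N by rw [← pow_succ, Nat.sub_add_cancel hj0],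
        Module.End.mul_apply, show N x = 0 from hx.1, map_zero]
    have hiso : R ≤ LinearMap.BilinForm.orthogonal B R := fun x hx y hy =>
      (fix_range_orth g.2 hy.1 hx.2).1
    have hnd : LinearMap.BilinForm.Nondegenerate B :=
      ⟨hB.nondeg, fun y hy => hB.nondeg y fun x => by rw [hB.swap, hy x, neg_zero]⟩
    have hRn : finrank F R ≤ n := by
      have h3 := Submodule.finrank_mono hiso
      rw [LinearMap.BilinForm.finrank_orthogonal hnd, hdim] at h3
      have := R.finrank_le
      omega
    -- the map induced on an invariant subspace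
    have hinv : ∀ S : Submodule F V, (∀ x ∈ S, h.1 x ∈ S) → S ≠ ⊥ → k ≤ finrank F S := by
      intro S hS hS0
      haveI : Nontrivial S := Submodule.nontrivial_iff_ne_bot.2 hS0
      let hS' : S ≃ₗ[F] S := LinearEquiv.ofBijective (h.1.toLinearMap.restrict hS)
        ⟨fun a b e => Subtype.ext (h.1.injective (congrArg Subtype.val e)),
          LinearMap.surjective_of_injective fun a b e =>
            Subtype.ext (h.1.injective (congrArg Subtype.val e))⟩
      have hpow : ∀ (i : ℕ) (x : S), ((hS' ^ i) x : V) = (h.1 ^ i) (x : V) := by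
        intro i
        induction i with
        | zero => intro x; rfl
        | succ i ih => intro x; rw [pow_succ, pow_succ, LinearEquiv.mul_apply, LinearEquiv.mul_apply, ih]; rfl
      refine le_finrank_of_fpf hr hrq (h := hS') (LinearEquiv.ext fun x => Subtype.ext ?_)
        fun x hx => Subtype.ext (hf _ (congrArg Subtype.val hx))
      rw [hpow, hh']; rfl
    have hkR := (hinv R hRinv hRbot).trans hRn
    rcases hη with ⟨hko, hηk⟩ | ⟨-, hηk⟩
    swap
    · omega
    by_contra hcon
    have hkn : k = n := by omega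
    -- minimal polynomial on `R`
    let T : Module.End F R := h.1.toLinearMap.restrict hRinv
    haveI : Nontrivial R := Submodule.nontrivial_iff_ne_bot.2 hRbot
    have hTapply : ∀ (q : F[X]) (x : R),
        (aeval T q x : V) = aeval (h.1.toLinearMap : Module.End F V) q x := by
      intro q
      induction q using Polynomial.induction_on' with
      | add a b ha hb => intro x; simp [ha x, hb x]
      | monomial i a =>
        intro x
        have hp : ∀ i : ℕ, ∀ x : R, ((T ^ i) x : V) = ((h.1.toLinearMap : Module.End F V) ^ i) x := by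
          intro i
          induction i with
          | zero => intro x; rfl
          | succ i ih => intro x; rw [pow_succ, pow_succ, Module.End.mul_apply, Module.End.mul_apply, ih]; rfl
        simp [aeval_monomial, Module.algebraMap_end_apply, hp]
    have hTr : T ^ r = 1 := LinearMap.ext fun x => Subtype.ext (by
      have := hTapply (X ^ r) x
      simp only [map_pow, aeval_X] at this
      rw [this, pow_apply_toLinearMap, hh']; rfl)
    set f := minpoly F T with hfdef
    have hint : IsIntegral F T := IsIntegral.of_finite F T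
    have hTker : ∀ q : F[X], aeval T q = 0 ∨ Function.Injective (aeval T q) := by
      intro q
      by_contra hq
      simp only [not_or] at hq
      let S : Submodule F V := (LinearMap.ker (aeval T q)).map R.subtype
      have hS : ∀ x ∈ S, h.1 x ∈ S := by
        rintro _ ⟨x, hx, rfl⟩
        refine ⟨T x, ?_, rfl⟩
        show aeval T q (T x) = 0
        have e : aeval T q * T = T * aeval T q := by
          have h1 := congrArg (aeval T) (mul_comm q X)
          rwa [map_mul, map_mul, aeval_X] at h1
        rw [← Module.End.mul_apply, e, Module.End.mul_apply, show aeval T q x = 0 from hx, map_zero]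
      have hS0 : S ≠ ⊥ := by
        intro e
        apply hq.2
        rw [← LinearMap.ker_eq_bot]
        exact Submodule.map_injective_of_injective R.subtype_injective (by rw [Submodule.map_bot]; exact e)
      have h5 := hinv S hS hS0
      have h6 : finrank F (LinearMap.ker (aeval T q)) < finrank F R :=
        Submodule.finrank_lt fun e => hq.1 (LinearMap.ker_eq_top.1 e)
      have h7 : finrank F S = finrank F (LinearMap.ker (aeval T q)) :=
        (Submodule.equivMapOfInjective _ R.subtype_injective _).finrank_eq.symm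
      omega
    have hirr : Irreducible f := by
      refine ⟨minpoly.not_isUnit F T, fun a b hab => ?_⟩
      by_contra hcon2
      simp only [not_or] at hcon2
      have hf0 : f ≠ 0 := minpoly.ne_zero hint
      have ha0 : a ≠ 0 := fun e => hf0 (by rw [hab, e, zero_mul])
      have hb0 : b ≠ 0 := fun e => hf0 (by rw [hab, e, mul_zero])
      have hdeg := congrArg natDegree hab
      rw [natDegree_mul ha0 hb0] at hdeg
      have da : 0 < a.natDegree := Nat.pos_of_ne_zero fun e => hcon2.1
        (isUnit_iff_degree_eq_zero.2 (by rw [degree_eq_natDegree ha0, e]; rfl))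
      have db : 0 < b.natDegree := Nat.pos_of_ne_zero fun e => hcon2.2
        (isUnit_iff_degree_eq_zero.2 (by rw [degree_eq_natDegree hb0, e]; rfl))
      have na : aeval T a ≠ 0 := fun e => by
        have h5 := natDegree_le_of_dvd (minpoly.dvd F T e) ha0
        rw [← hfdef] at h5; omega
      have nb : aeval T b ≠ 0 := fun e => by
        have h5 := natDegree_le_of_dvd (minpoly.dvd F T e) hb0
        rw [← hfdef] at h5; omega
      have hz : aeval T a * aeval T b = 0 := by rw [← map_mul, ← hab, hfdef, minpoly.aeval]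
      apply nb
      refine LinearMap.ext fun x => (hTker a).resolve_left na ?_
      rw [← Module.End.mul_apply, hz]; simp
    have hMrange : LinearMap.range (N ^ j) = R := by
      have hle : LinearMap.range (N ^ j) ≤ R := fun x ⟨y, hy⟩ => hy ▸ hMR y
      refine Submodule.eq_of_le_of_finrank_le hle ?_
      have hcN : Commute (h.1.toLinearMap : Module.End F V) N :=
        LinearMap.ext fun x => (skew_dev hgh x)
      have h5 := hinv (LinearMap.range (N ^ j)) (fun x ⟨y, hy⟩ => ⟨h.1 y, by
          rw [← hy]; exact (LinearMap.congr_fun (hcN.pow_right j).eq y).symm⟩)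
        (by rwa [ne_eq, LinearMap.range_eq_bot])
      omega
    have hMker : LinearMap.ker (N ^ j) = R := by
      refine (Submodule.eq_of_le_of_finrank_le (fun x hx => hRk x hx) ?_).symm
      have h5 := LinearMap.finrank_range_add_finrank_ker (N ^ j)
      rw [hMrange] at h5
      have h6 := hinv R hRinv hRbot
      omega
    have hfV : ∀ y, aeval (h.1.toLinearMap : Module.End F V) f y ∈ R := by
      intro y
      rw [← hMker, LinearMap.mem_ker]
      have hcN : Commute (h.1.toLinearMap : Module.End F V) N :=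
        LinearMap.ext fun x => (skew_dev hgh x)
      have e : N ^ j * aeval (h.1.toLinearMap : Module.End F V) f =
          aeval (h.1.toLinearMap : Module.End F V) f * N ^ j := by
        induction f using Polynomial.induction_on' with
        | add a b ha hb => rw [map_add, mul_add, add_mul, ha, hb]
        | monomial i a =>
          rw [aeval_monomial]
          exact ((Algebra.commute_algebraMap_left a (N ^ j)).mul_left ((hcN.pow_right j).pow_left i)).symm
      rw [← Module.End.mul_apply, e, Module.End.mul_apply]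
      have hz := hTapply f ⟨(N ^ j) y, hMR y⟩
      rw [hfdef, minpoly.aeval] at hz
      exact hz.symm
    have hcomp : f ∣ f.comp (X ^ (r - 1)) := by
      refine minpoly.dvd F T (LinearMap.ext fun x => Subtype.ext ?_)
      rw [hTapply, LinearMap.zero_apply, Submodule.coe_zero, aeval_comp, map_pow, aeval_X,
        show (h.1.toLinearMap : Module.End F V) ^ (r - 1) = h.1.symm.toLinearMap from
          LinearMap.ext fun y => symm_pow_apply h.1 hr.one_le hh' y]
      refine hB.nondeg _ fun y => ?_
      rw [← adjoint_aeval h.2]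
      exact hiso (hfV y) _ x.2 |> fun e => by simpa using e
    obtain ⟨x0, hx0⟩ := exists_ne (0 : R)
    have hTo : ¬ f ∣ X ^ 2 - 1 := by
      rintro ⟨c, hc2⟩
      have h2 : T ^ 2 = 1 := by
        have := congrArg (aeval T) hc2
        rw [map_mul, hfdef, minpoly.aeval, zero_mul] at this
        simpa [sub_eq_zero] using this
      have h1' : T = 1 := by
        obtain ⟨t, ht⟩ := hr.odd_of_ne_two hr2
        have := hTr
        rw [ht, pow_succ, pow_mul, h2, one_pow, one_mul] at this
        exact this
      exact hx0 (Subtype.ext (hf _ (congrArg Subtype.val (LinearMap.congr_fun h1' x0))))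
    obtain ⟨d, -, hd⟩ := LinearOrders.exists_half_degree hirr hr.one_le
      (minpoly.dvd F T (by simp [hTr])) hcomp hTo
    obtain ⟨c, hc2⟩ := hd
    have hpeq : T ^ (r - 1) = T ^ (Fintype.card F ^ d) := by
      have := congrArg (aeval T) hc2
      rw [map_mul, hfdef, minpoly.aeval, zero_mul] at this
      simpa [sub_eq_zero] using this
    have hord : orderOf T = r := orderOf_eq_prime hTr fun e =>
      hx0 (Subtype.ext (hf _ (congrArg Subtype.val (LinearMap.congr_fun e x0))))
    have hmod : r - 1 ≡ Fintype.card F ^ d [MOD r] := by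
      have hu : IsUnit T := IsUnit.of_pow_eq_one hTr hr.ne_zero
      obtain ⟨u, hu'⟩ := hu
      rw [← hu', ← Units.val_pow_eq_pow_val, ← Units.val_pow_eq_pow_val, Units.val_inj,
        pow_eq_pow_iff_modEq, ← orderOf_units, hu', hord] at hpeq
      exact hpeq
    have hz : ((Fintype.card F : ℕ) : ZMod r) ^ d = -1 := by
      have := (ZMod.natCast_eq_natCast_iff _ _ _).2 hmod
      rw [Nat.cast_sub hr.one_le, Nat.cast_pow, ZMod.natCast_self, Nat.cast_one, zero_sub] at this
      exact this.symm
    have hkd : k ∣ d := by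
      refine (Nat.Coprime.dvd_mul_left (Nat.coprime_two_right.2 hko)).1 ?_
      rw [hk, orderOf_dvd_iff_pow_eq_one, mul_comm, pow_mul, hz, neg_one_sq]
    have : ((Fintype.card F : ℕ) : ZMod r) ^ d = 1 := orderOf_dvd_iff_pow_eq_one.1 hkd
    rw [hz] at this
    have e1 := this
    haveI : Fact (2 < r) := ⟨lt_of_le_of_ne hr.two_le (Ne.symm hr2)⟩
    exact ZMod.neg_one_ne_one e1
where
  skew_dev {h g : V ≃ₗ[F] V} (hc : g * h = h * g) (x : V) : h (dev g x) = dev g (h x) := by
    rw [dev_apply, dev_apply, map_sub, commute_apply hc]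

end Cfsg.Agent.Lib.BCGraph
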