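import Cfsg.Agent.Lib.BCGraph.Linear

/-!
For a fixed-point-free isometry `h` of odd order of an alternating form: if no non-scalar isometry
commuting with `h` has square `±1`, then `det (h - h⁻¹)` is not a square.
-/

set_option autoImplicit false
set_option linter.unusedSectionVars false

namespace Cfsg.Agent.Lib.BCGraph

open Module Polynomial
open Cfsg.Agent.Lib.Forms Cfsg.Agent.Lib.Symplectic

variable {F : Type*} [Field F] [Fintype F] {V : Type*} [AddCommGroup V] [Module F V]
  [FiniteDimensional F V]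

/-- Powers of an element of `F[H]`. -/
theorem aeval_pow_card_pow {E : Type*} [Ring E] [Algebra F E] (H : E) (f : F[X]) :
    ∀ j : ℕ, (aeval H f) ^ (Fintype.card F ^ j) = aeval (H ^ (Fintype.card F ^ j)) f := by
  intro j
  induction j with
  | zero => simp
  | succ j ih =>
    rw [pow_succ, pow_mul, ih, pow_mul, ← map_pow, ← FiniteField.expand_card, expand_aeval]

theorem exists_frobenius_period {E : Type*} [Ring E] [Algebra F E] {H : E} {s : ℕ}
    (hs : s.Prime) (hs0 : (s : F) ≠ 0) (hH : H ^ s = 1) :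
    ∃ N, 2 ≤ N ∧ ∀ f : F[X], (aeval H f) ^ N = aeval H f := by
  have hcop : (Fintype.card F).Coprime s := by
    obtain ⟨p, hp⟩ := CharP.exists F
    obtain ⟨k, hpp, hk⟩ := FiniteField.card F p
    rw [hk]
    refine Nat.Coprime.pow_left _ ((Nat.coprime_primes hpp hs).2 fun e => hs0 ?_)
    rw [← e]
    exact CharP.cast_eq_zero F p
  refine ⟨Fintype.card F ^ (s - 1), ?_, fun f => ?_⟩
  · have := Fintype.one_lt_card (α := F)
    exact le_trans this (Nat.le_self_pow (by have := hs.two_le; omega) _)
  · rw [aeval_pow_card_pow]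
    have hm : Fintype.card F ^ (s - 1) ≡ 1 [MOD s] := by
      have := Nat.ModEq.pow_totient hcop
      rwa [Nat.totient_prime hs] at this
    have h1 : H ^ (Fintype.card F ^ (s - 1)) = H := by
      rw [← Nat.mod_add_div (Fintype.card F ^ (s - 1)) s, pow_add, pow_mul, hH, one_pow, mul_one,
        hm, Nat.mod_eq_of_lt hs.one_lt, pow_one]
    rw [h1]

variable {B : V →ₗ[F] V →ₗ[F] F}

theorem selfAdjoint_aeval {σ : Module.End F V} (hσ : ∀ x y, B (σ x) y = B x (σ y)) (f : F[X]) :
    ∀ x y, B (aeval σ f x) y = B x (aeval σ f y) := by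
  induction f using Polynomial.induction_on' with
  | add f g hf hg => intro x y; simp [hf x y, hg x y]
  | monomial n a =>
    intro x y
    have hpow : ∀ n : ℕ, ∀ x y, B ((σ ^ n) x) y = B x ((σ ^ n) y) := by
      intro n
      induction n with
      | zero => intro x y; rfl
      | succ n ih =>
        intro x y
        rw [pow_succ, Module.End.mul_apply, ih, hσ, ← Module.End.mul_apply, ← pow_succ', pow_succ]
    simp [aeval_monomial, Module.algebraMap_end_apply, hpow n x y]

/-- An involution-like isometry out of an idempotent. -/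
theorem idem_cases (h2 : (2 : F) ≠ 0) {h : V ≃ₗ[F] V} (hhB : h ∈ Isom B)
    (hne : ∀ y ∈ Isom B, y * h = h * y → (∀ x, y (y x) = x) → y = 1 ∨ ∀ x, y x = -x)
    {e : Module.End F V} (he : e * e = e) (hadj : ∀ x y, B (e x) y = B x (e y))
    (hc : ∀ x, e (h x) = h (e x)) : e = 0 ∨ e = 1 := by
  let y₀ : Module.End F V := 2 • e - 1
  have hyy : ∀ x, y₀ (y₀ x) = x := by
    intro x
    have : e (e x) = e x := LinearMap.congr_fun he x
    simp [y₀, this, two_smul]
  let y : V ≃ₗ[F] V := LinearEquiv.ofLinearMap y₀ y₀ (LinearMap.ext hyy) (LinearMap.ext hyy)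
  have hy : ∀ x, y x = y₀ x := fun x => rfl
  have hyB : y ∈ Isom B := by
    intro a b
    have e1 : e (e b) = e b := LinearMap.congr_fun he b
    simp [hy, y₀, hadj, e1, two_smul]
  have hyh : y * h = h * y := LinearEquiv.ext fun x => by
    simp [LinearEquiv.mul_apply, hy, y₀, hc]
  rcases hne y hyB hyh (fun x => hyy x) with h1 | h1
  · right
    refine LinearMap.ext fun x => ?_
    have hx : y₀ x = x := (hy x).symm.trans (LinearEquiv.congr_fun h1 x)
    simp [y₀] at hx
    have : (2 : F) • (e x - x) = 0 := by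
      rw [smul_sub, two_smul, two_smul]
      rw [two_smul, sub_eq_iff_eq_add] at hx
      rw [hx]; simp
    simpa [sub_eq_zero] using (smul_eq_zero.1 this).resolve_left h2
  · left
    refine LinearMap.ext fun x => ?_
    have hx : y₀ x = -x := (hy x).symm.trans (h1 x)
    simp [y₀] at hx
    have : (2 : F) • e x = 0 := by
      rw [two_smul]
      simpa [two_smul] using hx
    simpa using (smul_eq_zero.1 this).resolve_left h2

theorem norm_not_square {K : Type*} [Field K] [Fintype K] [Algebra F K] (h2 : (2 : F) ≠ 0) {a : K}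
    (ha : ¬ IsSquare a) : ¬ IsSquare (Algebra.norm F a) := by
  have hF : ringChar F ≠ 2 := fun hc => h2 (by
    have := ringChar.Nat.cast_ringChar (R := F)
    rw [hc] at this
    exact_mod_cast this)
  have hK : ringChar K ≠ 2 := by rwa [← Algebra.ringChar_eq F K]
  have ha0 : a ≠ 0 := fun e => ha (e ▸ IsSquare.zero)
  have hn0 : Algebra.norm F a ≠ 0 := Algebra.norm_ne_zero_iff.2 ha0
  rw [FiniteField.isSquare_iff hF hn0]
  intro h
  apply ha
  rw [FiniteField.isSquare_iff hK ha0]
  have hpow : a ^ ((Nat.card K - 1) / (Nat.card F - 1)) = algebraMap F K (Algebra.norm F a) :=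
    FiniteField.algebraMap_norm_eq_pow.symm
  simp only [Nat.card_eq_fintype_card] at hpow
  have h' := congrArg (algebraMap F K) h
  rw [map_pow, ← hpow, map_one, ← pow_mul] at h'
  have hd : Fintype.card F - 1 ∣ Fintype.card K - 1 := by
    rw [Module.card_eq_pow_finrank (K := F) (V := K)]
    exact Nat.sub_one_dvd_pow_sub_one _ _
  have o1 := FiniteField.odd_card_of_char_ne_two hF
  have o2 := FiniteField.odd_card_of_char_ne_two hK
  obtain ⟨c, hc⟩ := hd
  have e1 : Fintype.card F - 1 = 2 * (Fintype.card F / 2) := by omega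
  have e2 : Fintype.card K - 1 = 2 * (Fintype.card K / 2) := by omega
  have hF1 : 0 < Fintype.card F - 1 := by have := Fintype.one_lt_card (α := F); omega
  rw [hc, Nat.mul_div_cancel_left _ hF1] at h'
  have e3 : c * (Fintype.card F / 2) = Fintype.card K / 2 := by
    apply Nat.eq_of_mul_eq_mul_left (show 0 < 2 by norm_num)
    rw [← e2, hc, e1]; ring
  rwa [e3] at h'

theorem not_isSquare_det_skew (h2 : (2 : F) ≠ 0) (hB : IsSympForm B) [Nontrivial V] {h : V ≃ₗ[F] V}
    (hhB : h ∈ Isom B) {s : ℕ} (hs : s.Prime) (hodd : Odd s) (hs0 : (s : F) ≠ 0) (hh : h ^ s = 1)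
    (hf : FPF h)
    (hne : ∀ y ∈ Isom B, y * h = h * y → (∀ x, y (y x) = x) → y = 1 ∨ ∀ x, y x = -x)
    (hroot : ¬ ∃ y ∈ Isom B, y * h = h * y ∧ ∀ x, y (y x) = -x) :
    ¬ IsSquare (LinearMap.det (skew h)) := by
  classical
  let H : Module.End F V := h.toLinearMap
  let I : Module.End F V := h.symm.toLinearMap
  let σ : Module.End F V := H + I
  let δ : Module.End F V := skew h
  have hHI : ∀ x, H (I x) = x := h.apply_symm_apply
  have hIH : ∀ x, I (H x) = x := h.symm_apply_apply
  have hHs : H ^ s = 1 := by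
    have := congrArg LinearEquiv.toLinearMap hh
    refine Eq.trans ?_ this
    refine LinearMap.ext fun x => ?_
    rw [Module.End.pow_apply]
    have e : ∀ n : ℕ, (h ^ n) x = (⇑h)^[n] x := by
      intro n
      induction n with
      | zero => rfl
      | succ n ih => rw [pow_succ', LinearEquiv.mul_apply, ih, Function.iterate_succ_apply']
    exact (e s).symm
  obtain ⟨N, hN2, hN⟩ := exists_frobenius_period (F := F) hs hs0 hHs
  have hI : I = H ^ (s - 1) := by
    refine LinearMap.ext fun x => ?_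
    apply h.injective
    show H (I x) = H ((H ^ (s - 1)) x)
    rw [hHI, ← Module.End.mul_apply, ← pow_succ', Nat.sub_add_cancel hs.one_le, hHs]
    rfl
  have hσH : σ = aeval H (X + X ^ (s - 1) : F[X]) := by simp [σ, hI]
  have hσadj : ∀ x y, B (σ x) y = B x (σ y) := by
    intro x y
    have h1 := isom_symm_apply hhB x y
    have h3 : B (h.symm x) y = B x (h y) := by
      calc B (h.symm x) y = B (h (h.symm x)) (h y) := (hhB _ _).symm
        _ = _ := by rw [h.apply_symm_apply]
    simp [σ, H, I, h1, h3, add_comm]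
  have hadj := selfAdjoint_aeval (B := B) hσadj
  have hcomm : ∀ (f : F[X]) x, aeval σ f (h x) = h (aeval σ f x) := by
    intro f x
    rw [hσH, ← aeval_comp]
    have e : ∀ P : F[X], aeval H P * H = H * aeval H P := fun P => by
      have h1 := congrArg (aeval H) (mul_comm P X)
      rwa [map_mul, map_mul, aeval_X] at h1
    exact LinearMap.congr_fun (e _) x
  have hfieldlike : ∀ f : F[X], aeval σ f = 0 ∨ IsUnit (aeval σ f) := by
    intro f
    have hp : (aeval σ f) ^ N = aeval σ f := by
      rw [hσH, ← aeval_comp]; exact hN _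
    set a := aeval σ f with ha
    obtain ⟨m, rfl⟩ : ∃ m, N = m + 2 := ⟨N - 2, by omega⟩
    have he : (a ^ (m + 1)) * (a ^ (m + 1)) = a ^ (m + 1) := by
      rw [← pow_add, show m + 1 + (m + 1) = m + 2 + m by ring, pow_add, hp, ← pow_succ']
    have hae : (a ^ (m + 1)) * a = a := by rw [← pow_succ]; exact hp
    rcases idem_cases h2 hhB hne he (fun x y => by rw [ha, ← map_pow]; exact hadj _ x y)
      (fun x => by rw [ha, ← map_pow]; exact hcomm _ x) with h0 | h1
    · left; rw [← hae, h0, zero_mul]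
    · exact Or.inr (IsUnit.of_pow_eq_one h1 (by omega))
  have hint : IsIntegral F σ := IsIntegral.of_finite F σ
  have hirr : Irreducible (minpoly F σ) := by
    refine ⟨minpoly.not_isUnit F σ, fun f g hfg => ?_⟩
    by_contra hcon
    push Not at hcon
    have hne0 : minpoly F σ ≠ 0 := minpoly.ne_zero hint
    have hf0 : f ≠ 0 := fun e => hne0 (by rw [hfg, e, zero_mul])
    have hg0 : g ≠ 0 := fun e => hne0 (by rw [hfg, e, mul_zero])
    have hdeg := congrArg natDegree hfg
    rw [natDegree_mul hf0 hg0] at hdeg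
    have df : 0 < f.natDegree := Nat.pos_of_ne_zero fun e => hcon.1 (by
      rw [eq_C_of_natDegree_eq_zero e]; exact isUnit_C.2 (Ne.isUnit fun e' => hf0 (by
        rw [eq_C_of_natDegree_eq_zero e, e', map_zero])))
    have dg : 0 < g.natDegree := Nat.pos_of_ne_zero fun e => hcon.2 (by
      rw [eq_C_of_natDegree_eq_zero e]; exact isUnit_C.2 (Ne.isUnit fun e' => hg0 (by
        rw [eq_C_of_natDegree_eq_zero e, e', map_zero])))
    have nf : aeval σ f ≠ 0 := fun e => by
      have := natDegree_le_of_dvd (minpoly.dvd F σ e) hf0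
      omega
    have ng : aeval σ g ≠ 0 := fun e => by
      have := natDegree_le_of_dvd (minpoly.dvd F σ e) hg0
      omega
    have hz : aeval σ f * aeval σ g = 0 := by rw [← map_mul, ← hfg, minpoly.aeval]
    exact ng ((hfieldlike f).resolve_left nf |>.mul_right_eq_zero.1 hz)
  haveI : Fact (Irreducible (minpoly F σ)) := ⟨hirr⟩
  let K := AdjoinRoot (minpoly F σ)
  haveI : Module.Finite F K := (AdjoinRoot.powerBasis hirr.ne_zero).finite
  haveI : Finite K := Module.finite_of_finite F
  haveI : Fintype K := Fintype.ofFinite K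
  let φ : K →ₐ[F] Module.End F V :=
    Ideal.Quotient.liftₐ (Ideal.span {minpoly F σ}) (aeval σ) fun a ha => by
      obtain ⟨b, rfl⟩ := Ideal.mem_span_singleton.1 ha
      rw [map_mul, minpoly.aeval, zero_mul]
  letI : Module K V := Module.compHom V φ.toRingHom
  haveI : IsScalarTower F K V := ⟨fun a k x => by
    show φ (a • k) x = a • φ k x
    rw [map_smul]; rfl⟩
  have hsmul : ∀ (k : K) (x : V), k • x = φ k x := fun k x => rfl
  have hφ : ∀ k : K, ∃ f : F[X], φ k = aeval σ f := by
    intro k
    obtain ⟨f, rfl⟩ := AdjoinRoot.mk_surjective k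
    exact ⟨f, rfl⟩
  have kadj : ∀ (k : K) x y, B (k • x) y = B x (k • y) := by
    intro k x y
    obtain ⟨f, hf'⟩ := hφ k
    rw [hsmul, hsmul, hf']
    exact hadj f x y
  have kh : ∀ (k : K) x, k • h x = h (k • x) := by
    intro k x
    obtain ⟨f, hf'⟩ := hφ k
    rw [hsmul, hsmul, hf']
    exact hcomm f x
  have ksymm : ∀ (k : K) x, k • h.symm x = h.symm (k • x) := by
    intro k x
    apply h.injective
    rw [h.apply_symm_apply, ← kh, h.apply_symm_apply]
  have kδ : ∀ (k : K) x, k • δ x = δ (k • x) := by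
    intro k x
    show k • (h x - h.symm x) = h (k • x) - h.symm (k • x)
    rw [smul_sub, kh, ksymm]
  let D : K := AdjoinRoot.root (minpoly F σ) ^ 2 - algebraMap F K 4
  have hD : ∀ x, δ (δ x) = D • x := by
    intro x
    have hroot : φ (AdjoinRoot.root (minpoly F σ)) = σ := by
      rw [← AdjoinRoot.mk_X]; exact aeval_X σ
    rw [hsmul, map_sub, map_pow, hroot, AlgHom.commutes, pow_two]
    show h (h x - h.symm x) - h.symm (h x - h.symm x) =
      (σ * σ) x - (algebraMap F (Module.End F V) 4) x
    simp [σ, H, I, Module.algebraMap_end_apply]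
    rw [show (4 : F) • x = x + x + (x + x) by
      rw [show (4 : F) = 1 + 1 + (1 + 1) by norm_num, add_smul, add_smul, one_smul]]
    abel
  have hδinj : Function.Injective δ := skew_injective hodd hh hf
  obtain ⟨v, hv⟩ : ∃ v, B (δ v) v ≠ 0 := by
    by_contra hcon
    push Not at hcon
    obtain ⟨w, hw⟩ := exists_ne (0 : V)
    refine hw (qOfSymp_nondeg h2 hB hhB hodd hh hf w fun y => ?_)
    have hall : ∀ z, B (skew h z) z = 0 := hcon
    simp only [QuadraticMap.polar, qOfSymp_apply, hall, mul_zero, sub_zero]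
  have hvz : ∀ k : K, B v (k • v) = 0 := by
    intro k
    have := hB.swap v (k • v)
    rw [kadj] at this
    exact (mul_eq_zero.1 (show (2 : F) * B v (k • v) = 0 by linear_combination this)).resolve_left h2
  have hBδ : ∀ x y, B (δ x) y = -B x (δ y) := skew_skew hhB
  let L : (Fin 2 → K) →ₗ[K] V :=
    (LinearMap.proj 0).smulRight v + (LinearMap.proj 1).smulRight (δ v)
  have hL : ∀ z, L z = z 0 • v + z 1 • δ v := fun z => rfl
  have hLorth : ∀ z, (∀ w, B (L z) (L w) = 0) → z = 0 := by
    intro z hz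
    have h1 : z 1 = 0 := by
      by_contra hne1
      have hh1 := hz ![(z 1)⁻¹, 0]
      simp only [hL, Matrix.cons_val_zero, Matrix.cons_val_one, zero_smul, add_zero, map_add,
        LinearMap.add_apply, kadj, smul_smul] at hh1
      rw [hvz, zero_add, mul_inv_cancel₀ hne1, one_smul] at hh1
      exact hv hh1
    have h0 : z 0 = 0 := by
      by_contra hne0
      have hh0 := hz ![0, (z 0)⁻¹]
      simp only [hL, h1, Matrix.cons_val_zero, Matrix.cons_val_one, zero_smul, add_zero, zero_add,
        kadj, smul_smul] at hh0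
      rw [mul_inv_cancel₀ hne0, one_smul] at hh0
      exact hv (by rw [hBδ, hh0, neg_zero])
    funext i
    fin_cases i <;> assumption
  have hLinj : Function.Injective L := by
    rw [injective_iff_map_eq_zero]
    exact fun z hz => hLorth z fun w => by rw [hz, map_zero, LinearMap.zero_apply]
  let U : Submodule F V := LinearMap.range (L.restrictScalars F)
  have hδL : ∀ z, δ (L z) = L ![D * z 1, z 0] := by
    intro z
    simp only [hL, map_add, ← kδ, hD, smul_smul, Matrix.cons_val_zero, Matrix.cons_val_one]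
    rw [add_comm, mul_comm (z 1)]
  have hσL : ∀ z, σ (L z) = L (AdjoinRoot.root (minpoly F σ) • z) := by
    intro z
    rw [map_smul, hsmul, ← AdjoinRoot.mk_X]
    exact congrArg (fun e : Module.End F V => e (L z)) (aeval_X σ).symm
  have hUh : ∀ x ∈ U, h x ∈ U ∧ h.symm x ∈ U := by
    rintro _ ⟨z, rfl⟩
    have hs1 : σ (L z) ∈ U := ⟨_, (hσL z).symm⟩
    have hd1 : δ (L z) ∈ U := ⟨_, (hδL z).symm⟩
    have eh : h (L z) = (2⁻¹ : F) • (σ (L z) + δ (L z)) := by
      show h (L z) = (2⁻¹ : F) • ((h (L z) + h.symm (L z)) + (h (L z) - h.symm (L z)))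
      rw [show (h (L z) + h.symm (L z)) + (h (L z) - h.symm (L z)) = h (L z) + h (L z) by abel,
        ← two_smul F, smul_smul, inv_mul_cancel₀ h2, one_smul]
    have ei : h.symm (L z) = (2⁻¹ : F) • (σ (L z) - δ (L z)) := by
      show h.symm (L z) = (2⁻¹ : F) • ((h (L z) + h.symm (L z)) - (h (L z) - h.symm (L z)))
      rw [show (h (L z) + h.symm (L z)) - (h (L z) - h.symm (L z)) =
        h.symm (L z) + h.symm (L z) by abel, ← two_smul F, smul_smul, inv_mul_cancel₀ h2, one_smul]
    exact ⟨by rw [LinearMap.restrictScalars_apply, eh]; exact U.smul_mem _ (U.add_mem hs1 hd1),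
      by rw [LinearMap.restrictScalars_apply, ei]; exact U.smul_mem _ (U.sub_mem hs1 hd1)⟩
  have hrefl : LinearMap.BilinForm.IsRefl B := fun x y hxy => (hB.comm_eq_zero).1 hxy
  have hdis : Disjoint U (LinearMap.BilinForm.orthogonal B U) := by
    rw [Submodule.disjoint_def]
    rintro _ ⟨z, rfl⟩ hx
    rw [hLorth z fun w => hrefl _ _ (hx _ ⟨w, rfl⟩), map_zero]
  have hc : IsCompl U (LinearMap.BilinForm.orthogonal B U) :=
    (LinearMap.BilinForm.isCompl_orthogonal_iff_disjoint hrefl).2 hdis
  let e := Submodule.prodEquivOfIsCompl _ _ hc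
  let y : V ≃ₗ[F] V := e.symm.trans (((LinearEquiv.neg F).prodCongr (LinearEquiv.refl F _)).trans e)
  have hey : ∀ (a : U) (b : LinearMap.BilinForm.orthogonal B U), y ((a : V) + b) = -(a : V) + b := by
    intro a b
    have : e.symm ((a : V) + b) = (a, b) := by
      rw [LinearEquiv.symm_apply_eq]
      simp [e, Submodule.coe_prodEquivOfIsCompl']
    simp [y, this, e]
  have hdec : ∀ x, ∃ (a : U) (b : LinearMap.BilinForm.orthogonal B U), x = (a : V) + b := fun x =>
    ⟨(e.symm x).1, (e.symm x).2, by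
      conv_lhs => rw [← e.apply_symm_apply x]
      simp [e, Submodule.coe_prodEquivOfIsCompl']⟩
  have hyB : y ∈ Isom B := by
    intro x x'
    obtain ⟨a, b, rfl⟩ := hdec x
    obtain ⟨a', b', rfl⟩ := hdec x'
    have o1 : B (a : V) b' = 0 := b'.2 _ a.2
    have o2 : B (b : V) a' = 0 := hrefl _ _ (b.2 _ a'.2)
    simp [hey, o1, o2]
  have hyh : y * h = h * y := LinearEquiv.ext fun x => by
    obtain ⟨a, b, rfl⟩ := hdec x
    have hb' : h b ∈ LinearMap.BilinForm.orthogonal B U := fun u hu => by
      show B u (h b) = 0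
      rw [← h.apply_symm_apply u, hhB]
      exact b.2 _ (hUh u hu).2
    have := hey ⟨h a, (hUh _ a.2).1⟩ ⟨h b, hb'⟩
    rw [LinearEquiv.mul_apply, LinearEquiv.mul_apply, map_add, this, hey, map_add, map_neg]
  have hyy : ∀ x, y (y x) = x := fun x => by
    obtain ⟨a, b, rfl⟩ := hdec x
    rw [hey, ← Submodule.coe_neg, hey, Submodule.coe_neg, neg_neg]
  have hvU : v ∈ U := ⟨![1, 0], by simp [hL]⟩
  have hv0 : v ≠ 0 := fun e0 => hv (by simp [e0])
  have hUtop : U = ⊤ := by
    rcases hne y hyB hyh hyy with h1 | h1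
    · exfalso
      have := hey ⟨v, hvU⟩ 0
      rw [h1] at this
      simp at this
      have : (2 : F) • v = 0 := by rw [two_smul]; nth_rw 1 [this]; simp
      exact hv0 ((smul_eq_zero.1 this).resolve_left h2)
    · rw [eq_top_iff]
      intro x _
      obtain ⟨a, b, rfl⟩ := hdec x
      have := h1 (b : V)
      rw [← zero_add (b : V), ← Submodule.coe_zero (p := U), hey] at this
      simp at this
      have hb : (2 : F) • (b : V) = 0 := by rw [two_smul]; nth_rw 1 [this]; simp
      rw [(smul_eq_zero.1 hb).resolve_left h2, add_zero]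
      exact a.2
  have hLsurj : Function.Surjective L := fun x => by
    have hx : x ∈ U := by rw [hUtop]; trivial
    exact hx
  let e2 : (Fin 2 → K) ≃ₗ[K] V := LinearEquiv.ofBijective L ⟨hLinj, hLsurj⟩
  let δK : V →ₗ[K] V := { toFun := δ, map_add' := map_add δ, map_smul' := fun k x => (kδ k x).symm }
  have hconj : δK = e2.toLinearMap ∘ₗ Matrix.toLin' !![0, D; 1, 0] ∘ₗ e2.symm.toLinearMap := by
    refine LinearMap.ext fun x => ?_
    obtain ⟨z, rfl⟩ := e2.surjective x
    simp only [LinearMap.comp_apply, LinearEquiv.coe_coe, LinearEquiv.symm_apply_apply]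
    show δ (L z) = L (Matrix.toLin' !![0, D; 1, 0] z)
    rw [hδL]
    congr 1
    funext i
    fin_cases i <;> simp [Matrix.toLin'_apply, Matrix.mulVec, dotProduct, Fin.sum_univ_two]
  have hdetK : LinearMap.det δK = -D := by
    rw [hconj, LinearMap.det_conj, LinearMap.det_toLin', Matrix.det_fin_two]
    simp
  have hres : δK.restrictScalars F = δ := rfl
  show ¬ IsSquare (LinearMap.det δ)
  rw [← hres, LinearMap.det_restrictScalars, hdetK]
  refine norm_not_square h2 fun ⟨c, hc'⟩ => ?_
  have hD0 : D ≠ 0 := fun e0 => hv0 (hδinj (hδinj (by rw [hD, e0, zero_smul, map_zero, map_zero])))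
  have hc0 : c ≠ 0 := fun e0 => hD0 (by rw [e0, mul_zero] at hc'; exact neg_eq_zero.1 hc')
  apply hroot
  have hrr : ∀ x, c⁻¹ • δ (c⁻¹ • δ x) = -x := fun x => by
    rw [← kδ, hD, smul_smul, smul_smul, show c⁻¹ * c⁻¹ * D = -1 by
      rw [show D = -(c * c) by rw [← hc', neg_neg], mul_neg, mul_mul_mul_comm,
        inv_mul_cancel₀ hc0, mul_one], neg_one_smul]
  refine ⟨LinearEquiv.ofLinearMap (c⁻¹ • δK |>.restrictScalars F) (-(c⁻¹ • δK |>.restrictScalars F))
    (LinearMap.ext fun x => ?_) (LinearMap.ext fun x => ?_), ?_, LinearEquiv.ext fun x => ?_, hrr⟩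
  · show c⁻¹ • δ (-(c⁻¹ • δ x)) = x
    rw [map_neg, smul_neg, hrr, neg_neg]
  · show -(c⁻¹ • δ (c⁻¹ • δ x)) = x
    rw [hrr, neg_neg]
  · intro a b
    show B (c⁻¹ • δ a) (c⁻¹ • δ b) = B a b
    rw [kadj, hBδ, ← kδ, hrr, map_neg, neg_neg]
  · show c⁻¹ • δ (h x) = h (c⁻¹ • δ x)
    rw [← kh]
    congr 1
    show h (h x) - h.symm (h x) = h (h x - h.symm x)
    rw [map_sub, h.symm_apply_apply, h.apply_symm_apply]

end Cfsg.Agent.Lib.BCGraph
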