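import Cfsg.Agent.Lib.BCGraph.Glue
import Cfsg.Agent.Lib.Symplectic.Std
import Cfsg.Agent.Lib.Orth52.Spinor
import Cfsg.Agent.Lib.Orth52.Discriminant

/-!
When `-1_W ⊕ 1_K` lies in the commutator subgroup of an orthogonal group, the discriminant of `W` is a
square; determinants of alternating forms are squares.
-/

set_option autoImplicit false
set_option linter.unusedSectionVars false

namespace Cfsg.Agent.Lib.BCGraph

open Module QuadraticMap
open Cfsg.Agent.Lib.Forms Cfsg.Agent.Lib.Symplectic Cfsg.Agent.Lib.Orth52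

variable {F : Type*} [Field F] {V : Type*} [AddCommGroup V] [Module F V]

theorem det_neg_one_block (m : ℕ) :
    (Matrix.fromBlocks 0 (-1) 1 0 : Matrix (Fin m ⊕ Fin m) (Fin m ⊕ Fin m) F).det = 1 := by
  have e : (Matrix.fromBlocks 0 (-1) 1 0 : Matrix (Fin m ⊕ Fin m) (Fin m ⊕ Fin m) F) =
      Matrix.fromBlocks 1 (-1) 0 1 * Matrix.fromBlocks 1 0 1 1 * Matrix.fromBlocks 1 (-1) 0 1 := by
    simp [Matrix.fromBlocks_multiply]
  rw [e, Matrix.det_mul, Matrix.det_mul, Matrix.det_fromBlocks_zero₂₁,
    Matrix.det_fromBlocks_zero₁₂]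
  simp

/-- The determinant of a non-degenerate alternating form is a square. -/
theorem isSquare_det_symp [FiniteDimensional F V] {B : V →ₗ[F] V →ₗ[F] F} (hB : IsSympForm B)
    {ι : Type*} [Fintype ι] [DecidableEq ι] (b : Basis ι F V) :
    IsSquare (LinearMap.BilinForm.toMatrix b B).det ∧ (LinearMap.BilinForm.toMatrix b B).det ≠ 0 := by
  obtain ⟨m, hm⟩ := even_finrank hB
  obtain ⟨e, he⟩ := exists_isometry (isSympForm_stdForm m F) hB (by rw [finrank_std]; omega)
  let c : Basis (Fin m ⊕ Fin m) F V := (Pi.basisFun F _).map e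
  let i := c.indexEquiv b
  let c' : Basis ι F V := c.reindex i
  have hc : LinearMap.BilinForm.toMatrix c B = Matrix.fromBlocks 0 (-1) 1 0 := by
    ext x y
    rw [LinearMap.BilinForm.toMatrix_apply]
    simp only [c, Basis.map_apply, he, Pi.basisFun_apply, stdForm_apply]
    rcases x with x | x <;> rcases y with y | y <;>
      simp [Pi.single_apply, Matrix.one_apply, Finset.sum_sub_distrib, eq_comm]
  have hc' : (LinearMap.BilinForm.toMatrix c' B).det = 1 := by
    have : LinearMap.BilinForm.toMatrix c' B =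
        (LinearMap.BilinForm.toMatrix c B).submatrix i.symm i.symm := by
      ext x y
      simp [LinearMap.BilinForm.toMatrix_apply, c']
    rw [this, Matrix.det_submatrix_equiv_self, hc, det_neg_one_block]
  rw [← LinearMap.BilinForm.toMatrix_mul_basis_toMatrix (c := b) c', Matrix.det_mul, Matrix.det_mul,
    Matrix.det_transpose, hc', mul_one]
  have hu : (c'.toMatrix b).det ≠ 0 := by
    intro h0
    have := congrArg Matrix.det (c'.toMatrix_mul_toMatrix_flip b)
    rw [Matrix.det_mul, h0, zero_mul, Matrix.det_one] at this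
    exact zero_ne_one this
  exact ⟨⟨_, rfl⟩, mul_ne_zero hu hu⟩

theorem det_comp_left [FiniteDimensional F V] (B : V →ₗ[F] V →ₗ[F] F) (f : V →ₗ[F] V)
    {ι : Type*} [Fintype ι] [DecidableEq ι] (b : Basis ι F V) :
    (LinearMap.BilinForm.toMatrix b (B.comp f)).det =
      LinearMap.det f * (LinearMap.BilinForm.toMatrix b B).det := by
  rw [show B.comp f = LinearMap.BilinForm.compLeft B f from rfl,
    LinearMap.BilinForm.toMatrix_compLeft, Matrix.det_mul, Matrix.det_transpose, LinearMap.det_toMatrix]

variable [Finite F] [FiniteDimensional F V] [Finite V]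

/-- If `-1` on a non-degenerate summand of even dimension extends by one into `Ω`, its discriminant is
a square. -/
theorem isSquare_disc_of_neg_mem {Q : QuadraticForm F V} (hQ : Nondeg Q) (h2 : (2 : F) ≠ 0)
    (hn : 2 ≤ finrank F V) {W K : Submodule F V} (hc : IsCompl K W)
    (ho : ∀ k ∈ K, ∀ w ∈ W, polar Q k w = 0) (heven : Even (finrank F W)) {g : orth Q}
    (hg : g ∈ commutator (orth Q)) (hW : ∀ x ∈ W, g.1 x = -x) (hK : ∀ x ∈ K, g.1 x = x)
    {ι : Type*} [Fintype ι] [DecidableEq ι] (b : Basis ι F W) :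
    IsSquare (LinearMap.BilinForm.toMatrix b (polarBilin (res Q W))).det := by
  classical
  have hnd := (nondeg_res_compl hQ hc ho).1
  haveI : Invertible (2 : F) := invertibleOfNonzero h2
  obtain ⟨v, hv⟩ := LinearMap.BilinForm.exists_orthogonal_basis
    (B := polarBilin (res Q W)) ⟨fun x y => polar_comm (res Q W) x y⟩
  have hpol : ∀ i j, i ≠ j → polar (res Q W) (v i) (v j) = 0 := fun i j h => hv h
  have hQv : ∀ i, Q (v i : V) ≠ 0 := by
    intro i h0
    refine v.ne_zero i (hnd _ fun y => ?_)
    have : (polarBilin (res Q W)) (v i) = 0 := v.ext fun j => by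
      by_cases hij : i = j
      · subst hij
        show polar (res Q W) (v i) (v i) = 0
        rw [polar_self', res_apply, h0, mul_zero]
      · exact hpol i j hij
    exact LinearMap.congr_fun this y
  let vs : List V := List.ofFn fun i => (v i : V)
  have hvs : ∀ x ∈ vs, Q x ≠ 0 := fun x hx => by
    obtain ⟨i, rfl⟩ := List.mem_ofFn.1 hx
    exact hQv i
  have hpair : vs.Pairwise fun x y => polar Q x y = 0 := by
    rw [List.pairwise_ofFn]
    exact fun i j hij => (res_polar Q W _ _).symm.trans (hpol i j hij.ne)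
  have hgeq : g = oreflProd Q vs := by
    refine Subtype.ext (ext_isCompl hc (fun x hx => ?_) fun x hx => ?_)
    · rw [hK x hx, oreflProd_fix vs fun y hy => ?_]
      obtain ⟨i, rfl⟩ := List.mem_ofFn.1 hy
      rw [polar_comm Q (v i : V) x]
      exact ho x hx _ (v i).2
    · have key : (g.1.toLinearMap.comp W.subtype) = (oreflProd Q vs).1.toLinearMap.comp W.subtype :=
        v.ext fun i => by
          show g.1 (v i : V) = (oreflProd Q vs).1 (v i : V)
          rw [hW _ (v i).2, oreflProd_neg vs hvs hpair (List.mem_ofFn.2 ⟨i, rfl⟩)]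
      exact LinearMap.congr_fun key ⟨x, hx⟩
  rw [hgeq, oreflProd_mem_commutator_iff hQ h2 hn vs hvs] at hg
  have hsq := hg.2
  simp only [vs, List.map_ofFn, List.prod_ofFn, Function.comp_apply] at hsq
  rw [show LinearMap.BilinForm.toMatrix b (polarBilin (res Q W)) =
      Matrix.of fun i j => polar (⇑(res Q W)) (b i) (b j) by
    ext i j; rw [LinearMap.BilinForm.toMatrix_apply]; rfl]
  refine (Orth52.isSquare_det_basis (res Q W) b v).2 ?_
  have hdiag : (Matrix.of fun i j => polar (⇑(res Q W)) (v i) (v j)) =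
      Matrix.diagonal fun i => 2 * Q (v i : V) := by
    ext i j
    by_cases hij : i = j
    · subst hij
      rw [Matrix.of_apply, Matrix.diagonal_apply_eq, polar_self', res_apply]
    · rw [Matrix.of_apply, Matrix.diagonal_apply_ne _ hij, hpol i j hij]
  rw [hdiag, Matrix.det_diagonal, Finset.prod_mul_distrib, Finset.prod_const, Finset.card_univ,
    Fintype.card_fin]
  exact (heven.isSquare_pow _).mul hsq

end Cfsg.Agent.Lib.BCGraph
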