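import Cfsg.Agent.Lib.BCGraph.OddPair

/-! Commuting pairs of prime order in general linear groups. -/

set_option autoImplicit false
set_option linter.unusedSectionVars false

namespace Cfsg.Agent.Lib.BCGraph

open Module Polynomial
open Cfsg.Agent.Lib.Forms Cfsg.Agent.Lib.Symplectic

variable {F : Type*} [Field F] [Fintype F] {V : Type*} [AddCommGroup V] [Module F V]
  [FiniteDimensional F V]

/-- An element of order `r s` generates a field on a minimal invariant subspace. -/
theorem exists_gl_degree {r s : ℕ} (hr : r.Prime) (hs : s.Prime) {g : V ≃ₗ[F] V}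
    (hgo : g ^ (r * s) = 1) {W : Submodule F V} (hW : ∀ x ∈ W, g x ∈ W)
    (hW0 : W ≠ ⊥) (hfr : ∀ x ∈ W, (g ^ r) x = x → x = 0) (hfs : ∀ x ∈ W, (g ^ s) x = x → x = 0) :
    ∃ d, 1 ≤ d ∧ d ≤ finrank F V ∧ r * s ∣ Fintype.card F ^ d - 1 := by
  classical
  obtain ⟨S, hSW, hS0, hSinv, hSmin⟩ := exists_minimal_invariant hW hW0
  haveI : Nontrivial S := Submodule.nontrivial_iff_ne_bot.2 hS0
  let T : Module.End F S := g.toLinearMap.restrict hSinv
  have hp : ∀ i : ℕ, ∀ x : S, ((T ^ i) x : V) = (g ^ i) (x : V) := by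
    intro i
    induction i with
    | zero => intro x; rfl
    | succ i ih =>
      intro x
      rw [pow_succ, pow_succ, Module.End.mul_apply, LinearEquiv.mul_apply, ih]; rfl
  have hTo : T ^ (r * s) = 1 := LinearMap.ext fun x => Subtype.ext (by rw [hp, hgo]; rfl)
  obtain ⟨x0, hx0⟩ := exists_ne (0 : S)
  have hTr : T ^ r ≠ 1 := fun e => hx0 (Subtype.ext (hfr _ (hSW x0.2) (by rw [← hp, e]; rfl)))
  have hTs : T ^ s ≠ 1 := fun e => hx0 (Subtype.ext (hfs _ (hSW x0.2) (by rw [← hp, e]; rfl)))
  obtain ⟨u, hu⟩ := IsUnit.of_pow_eq_one hTo (Nat.mul_ne_zero hr.ne_zero hs.ne_zero)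
  have hord : orderOf T = r * s := by
    rw [← hu, orderOf_units]
    refine orderOf_prime_mul hr hs (Units.ext ?_) (fun e => hTr ?_) (fun e => hTs ?_)
    · rw [Units.val_pow_eq_pow_val, hu, hTo]; rfl
    · rw [← hu, ← Units.val_pow_eq_pow_val, e]; rfl
    · rw [← hu, ← Units.val_pow_eq_pow_val, e]; rfl
  set f := minpoly F T with hfdef
  have hint : IsIntegral F T := IsIntegral.of_finite F T
  have hTker : ∀ Q : F[X], aeval T Q = 0 ∨ Function.Injective (aeval T Q) := by
    intro Q
    have hinv : ∀ x ∈ (LinearMap.ker (aeval T Q)).map S.subtype,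
        g x ∈ (LinearMap.ker (aeval T Q)).map S.subtype := by
      rintro _ ⟨x, hx, rfl⟩
      refine ⟨T x, ?_, rfl⟩
      show aeval T Q (T x) = 0
      have e : aeval T Q * T = T * aeval T Q := by
        have h1 := congrArg (aeval T) (mul_comm Q X)
        rwa [map_mul, map_mul, aeval_X] at h1
      rw [← Module.End.mul_apply, e, Module.End.mul_apply, show aeval T Q x = 0 from hx, map_zero]
    rcases hSmin ((LinearMap.ker (aeval T Q)).map S.subtype) (Submodule.map_subtype_le S _) hinv with e | e
    · right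
      rw [← LinearMap.ker_eq_bot]
      exact Submodule.map_injective_of_injective S.subtype_injective (by rw [Submodule.map_bot]; exact e)
    · left
      refine LinearMap.ker_eq_top.1 (Submodule.map_injective_of_injective S.subtype_injective ?_)
      rw [Submodule.map_subtype_top]; exact e
  have hirr : Irreducible f := by
    refine ⟨minpoly.not_isUnit F T, fun a b hab => ?_⟩
    by_contra hcon2
    simp only [not_or] at hcon2
    have hf0 : f ≠ 0 := minpoly.ne_zero hint
    have ha0 : a ≠ 0 := fun e => hf0 (by rw [hab, e, zero_mul])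
    have hb0 : b ≠ 0 := fun e => hf0 (by rw [hab, e, mul_zero])
    have hdeg := congrArg natDegree hab
    rw [natDegree_mul ha0 hb0] at hdeg
    have da : 0 < a.natDegree := Nat.pos_of_ne_zero fun e => hcon2.1
      (isUnit_iff_degree_eq_zero.2 (by rw [degree_eq_natDegree ha0, e]; rfl))
    have db : 0 < b.natDegree := Nat.pos_of_ne_zero fun e => hcon2.2
      (isUnit_iff_degree_eq_zero.2 (by rw [degree_eq_natDegree hb0, e]; rfl))
    have na : aeval T a ≠ 0 := fun e => by
      have h5 := natDegree_le_of_dvd (minpoly.dvd F T e) ha0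
      rw [← hfdef] at h5; omega
    have nb : aeval T b ≠ 0 := fun e => by
      have h5 := natDegree_le_of_dvd (minpoly.dvd F T e) hb0
      rw [← hfdef] at h5; omega
    have hz : aeval T a * aeval T b = 0 := by rw [← map_mul, ← hab, hfdef, minpoly.aeval]
    apply nb
    refine LinearMap.ext fun x => (hTker a).resolve_left na ?_
    rw [← Module.End.mul_apply, hz]; simp
  have hdegS : f.natDegree ≤ finrank F S := by
    have h5 := Polynomial.natDegree_le_of_dvd
      (minpoly.dvd F T (LinearMap.aeval_self_charpoly T)) (LinearMap.charpoly_monic T).ne_zero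
    rwa [LinearMap.charpoly_natDegree] at h5
  have hf0T : aeval T f = 0 := minpoly.aeval F T
  have hT0 : aeval T (X : F[X]) ≠ 0 := fun h5 => by
    rw [aeval_X] at h5
    rw [h5, zero_pow (Nat.mul_ne_zero hr.ne_zero hs.ne_zero)] at hTo
    exact hx0 (by rw [← Module.End.one_apply (R := F) x0, ← hTo]; rfl)
  refine ⟨f.natDegree, hirr.natDegree_pos, hdegS.trans S.finrank_le, ?_⟩
  rw [← hord]
  refine orderOf_dvd_of_pow_eq_one ?_
  simpa using LinearOrders.aeval_pow_card_sub_one hirr hf0T X hT0

/-- Conjugating linear automorphisms by a linear equivalence. -/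
def glCongr {U : Type*} [AddCommGroup U] [Module F U] (e : V ≃ₗ[F] U) :
    (V ≃ₗ[F] V) ≃* (U ≃ₗ[F] U) where
  toFun g := e.symm.trans (g.trans e)
  invFun g := e.trans (g.trans e.symm)
  left_inv g := LinearEquiv.ext fun x => by simp
  right_inv g := LinearEquiv.ext fun x => by simp
  map_mul' g h := LinearEquiv.ext fun x => by simp [LinearEquiv.mul_apply]

theorem prPair_glue_gl {n a b : ℕ} (hab : a + b = n) {r s : ℕ} (hr : r.Prime) (hs : s.Prime)
    (ha : r ∣ Nat.card ((Fin a → F) ≃ₗ[F] (Fin a → F)))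
    (hb : s ∣ Nat.card ((Fin b → F) ≃ₗ[F] (Fin b → F))) :
    PrPair ((Fin n → F) ≃ₗ[F] (Fin n → F)) r s := by
  have e : ((Fin a → F) × (Fin b → F)) ≃ₗ[F] (Fin n → F) :=
    LinearEquiv.ofFinrankEq _ _ (by simp [finrank_prod, hab])
  let ι := (glCongr e).toMonoidHom.comp (glueHom (F := F) (V := Fin a → F) (U := Fin b → F))
  have hι : Function.Injective ι := (glCongr e).injective.comp glueHom_injective
  obtain ⟨x, x1, xr⟩ := exists_pow_of_dvd hr ha
  obtain ⟨y, y1, ys⟩ := exists_pow_of_dvd hs hb
  refine PrPair.map ι hι ⟨(1, y), (x, 1), ?_, fun e0 => y1 (congrArg Prod.snd e0), ?_,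
    fun e0 => x1 (congrArg Prod.fst e0), Commute.prod (Commute.one_left x) (Commute.one_right y)⟩
  · rw [Prod.pow_mk, ys, one_pow]; rfl
  · rw [Prod.pow_mk, xr, one_pow]; rfl

theorem dvd_card_gl {m i : ℕ} {r : ℕ} (hi : 1 ≤ i) (him : i ≤ m)
    (h : r ∣ Fintype.card F ^ i - 1) : r ∣ Nat.card ((Fin m → F) ≃ₗ[F] (Fin m → F)) := by
  have e : GL (Fin m) F ≃* ((Fin m → F) ≃ₗ[F] (Fin m → F)) :=
    Matrix.GeneralLinearGroup.toLin.trans
      (LinearMap.GeneralLinearGroup.generalLinearEquiv F (Fin m → F))
  rw [← Nat.card_congr e.toEquiv, Matrix.card_GL_field]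
  refine dvd_trans ?_ (Finset.dvd_prod_of_mem _ (Finset.mem_univ (⟨m - i, by omega⟩ : Fin m)))
  have e2 : Fintype.card F ^ m - Fintype.card F ^ (m - i) =
      Fintype.card F ^ (m - i) * (Fintype.card F ^ i - 1) := by
    rw [Nat.mul_sub, mul_one, ← pow_add, Nat.sub_add_cancel him]
  rw [e2]
  exact h.mul_left _

theorem char_dvd_card_gl {m : ℕ} (hm : 2 ≤ m) {p : ℕ} [Fact p.Prime] [CharP F p] :
    p ∣ Nat.card ((Fin m → F) ≃ₗ[F] (Fin m → F)) := by
  have e : GL (Fin m) F ≃* ((Fin m → F) ≃ₗ[F] (Fin m → F)) :=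
    Matrix.GeneralLinearGroup.toLin.trans
      (LinearMap.GeneralLinearGroup.generalLinearEquiv F (Fin m → F))
  rw [← Nat.card_congr e.toEquiv, Matrix.card_GL_field]
  refine dvd_trans ?_ (Finset.dvd_prod_of_mem _ (Finset.mem_univ (⟨1, by omega⟩ : Fin m)))
  obtain ⟨j, -, hj⟩ := FiniteField.card F p
  have hpq : p ∣ Fintype.card F := hj ▸ dvd_pow_self p j.ne_zero
  exact Nat.dvd_sub (hpq.trans (dvd_pow_self _ (by omega))) (hpq.trans (dvd_pow_self _ one_ne_zero))

/-- A field of degree `d` inside `GL_n`. -/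
theorem prPair_gl_of_dvd {p : ℕ} [Fact p.Prime] [CharP F p] {n d : ℕ} (hd : 1 ≤ d) (hdn : d ≤ n)
    {r s : ℕ} (hr : r.Prime) (hs : s.Prime) (hrs : r ≠ s)
    (h : r * s ∣ Fintype.card F ^ d - 1) : PrPair ((Fin n → F) ≃ₗ[F] (Fin n → F)) r s := by
  classical
  haveI : NeZero d := ⟨by omega⟩
  let K := FiniteField.Extension F p d
  haveI : Fintype K := Fintype.ofFinite K
  have hK : Fintype.card K = Fintype.card F ^ d := by
    rw [← Nat.card_eq_fintype_card, ← Nat.card_eq_fintype_card, FiniteField.natCard_extension]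
  have hKd : finrank F K = d := FiniteField.finrank_extension F p d
  obtain ⟨u, hu⟩ := IsCyclic.exists_ofOrder_eq_natCard (α := Kˣ)
  rw [Nat.card_units, Nat.card_eq_fintype_card, hK] at hu
  let μ : Kˣ →* (K ≃ₗ[F] K) :=
    { toFun := fun a =>
        { toFun := fun x => (a : K) * x
          map_add' := mul_add _
          map_smul' := fun c x => by simp [Algebra.smul_def]; ring
          invFun := fun x => ((a⁻¹ : Kˣ) : K) * x
          left_inv := fun x => by simp
          right_inv := fun x => by simp }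
      map_one' := LinearEquiv.ext fun x => one_mul x
      map_mul' := fun a b => LinearEquiv.ext fun x => mul_assoc _ _ _ }
  have hμ : Function.Injective μ := fun a b e => Units.ext (by
    have := LinearEquiv.congr_fun e (1 : K)
    simpa [μ] using this)
  have e : (K × (Fin (n - d) → F)) ≃ₗ[F] (Fin n → F) :=
    LinearEquiv.ofFinrankEq _ _ (by simp [finrank_prod, hKd]; omega)
  let ι := ((glCongr e).toMonoidHom.comp (glueHom (F := F) (V := K) (U := Fin (n - d) → F))).comp
    ((MonoidHom.inl _ _).comp μ)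
  have hinl : Function.Injective (MonoidHom.inl (K ≃ₗ[F] K)
      ((Fin (n - d) → F) ≃ₗ[F] (Fin (n - d) → F))) := fun a b h => congrArg Prod.fst h
  have hι : Function.Injective ι :=
    ((glCongr e).injective.comp glueHom_injective).comp (hinl.comp hμ)
  refine PrPair.map ι hι ?_
  obtain ⟨j, hj⟩ := h
  rw [hj] at hu
  have hj0 : j ≠ 0 := by
    rintro rfl
    rw [mul_zero] at hu
    exact (orderOf_pos u).ne' hu
  have ho : orderOf (u ^ j) = r * s := by
    rw [orderOf_pow_of_dvd hj0 (hu ▸ dvd_mul_left _ _), hu,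
      Nat.mul_div_cancel _ (Nat.pos_of_ne_zero hj0)]
  exact (mem_range_orderOf_iff hr hs hrs).1 ⟨u ^ j, ho⟩

/-- A non-trivial element of prime exponent on an invariant subspace without fixed vectors. -/
theorem le_finrank_invariant {r : ℕ} (hr : r.Prime) (hrq : ¬ r ∣ Fintype.card F) {h : V ≃ₗ[F] V}
    (hh : h ^ r = 1) {S : Submodule F V} (hS : ∀ x ∈ S, h x ∈ S) (hS0 : S ≠ ⊥)
    (hf : ∀ x ∈ S, h x = x → x = 0) :
    orderOf ((Fintype.card F : ℕ) : ZMod r) ≤ finrank F S := by
  haveI : Nontrivial S := Submodule.nontrivial_iff_ne_bot.2 hS0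
  let hS' : S ≃ₗ[F] S := LinearEquiv.ofBijective (h.toLinearMap.restrict hS)
    ⟨fun a b e => Subtype.ext (h.injective (congrArg Subtype.val e)),
      LinearMap.surjective_of_injective fun a b e =>
        Subtype.ext (h.injective (congrArg Subtype.val e))⟩
  have hpow : ∀ (i : ℕ) (x : S), ((hS' ^ i) x : V) = (h ^ i) (x : V) := by
    intro i
    induction i with
    | zero => intro x; rfl
    | succ i ih => intro x; rw [pow_succ, pow_succ, LinearEquiv.mul_apply, LinearEquiv.mul_apply, ih]; rfl
  refine le_finrank_of_fpf hr hrq (h := hS') (LinearEquiv.ext fun x => Subtype.ext ?_)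
    fun x hx => Subtype.ext (hf _ x.2 (congrArg Subtype.val hx))
  rw [hpow, hh]; rfl

/-- Two semisimple primes. -/
theorem gl_ratio_of_pair {n : ℕ} (hdim : finrank F V = n) {r s : ℕ} (hr : r.Prime) (hs : s.Prime)
    (hrs : r ≠ s) (hrq : ¬ r ∣ Fintype.card F) (hsq : ¬ s ∣ Fintype.card F) (hr0 : (r : F) ≠ 0)
    (hs0 : (s : F) ≠ 0) {a b : V ≃ₗ[F] V} (hb : b ^ s = 1) (b1 : b ≠ 1) (ha : a ^ r = 1) (a1 : a ≠ 1)
    (hc : Commute a b)
    (hkl : orderOf ((Fintype.card F : ℕ) : ZMod r) ≤ orderOf ((Fintype.card F : ℕ) : ZMod s))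
    (hn : n < orderOf ((Fintype.card F : ℕ) : ZMod r) + orderOf ((Fintype.card F : ℕ) : ZMod s)) :
    orderOf ((Fintype.card F : ℕ) : ZMod r) ∣ orderOf ((Fintype.card F : ℕ) : ZMod s) := by
  have hKW : IsCompl (fixSpace b) (LinearMap.range (dev b)) := isCompl_fix_range hs0 hb
  have hsum := Submodule.finrank_add_eq_of_isCompl hKW
  have hW : orderOf ((Fintype.card F : ℕ) : ZMod s) ≤ finrank F (LinearMap.range (dev b)) :=
    le_finrank_invariant hs hsq hb (fun x hx => range_dev_invariant rfl hx) (fpf_range_ne_bot b1)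
      fun x hx h => fpf_range hs0 hb hx h
  have hfix : ∀ x, b x = x → a x = x := by
    by_contra hcon
    simp only [not_forall] at hcon
    obtain ⟨x, hbx, hax⟩ := hcon
    -- the fixed space of `b` carries a non-trivial action of `a`
    set K := fixSpace b
    have hKa : ∀ y ∈ K, a y ∈ K := fun y hy => fixSpace_invariant hc hy
    let aK : K ≃ₗ[F] K := LinearEquiv.ofBijective (a.toLinearMap.restrict hKa)
      ⟨fun u v e => Subtype.ext (a.injective (congrArg Subtype.val e)),
        LinearMap.surjective_of_injective fun u v e =>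
          Subtype.ext (a.injective (congrArg Subtype.val e))⟩
    have hpow : ∀ (i : ℕ) (y : K), ((aK ^ i) y : V) = (a ^ i) (y : V) := by
      intro i
      induction i with
      | zero => intro y; rfl
      | succ i ih => intro y; rw [pow_succ, pow_succ, LinearEquiv.mul_apply, LinearEquiv.mul_apply, ih]; rfl
    have hk1 : aK ≠ 1 := fun e => hax (congrArg Subtype.val
      (LinearEquiv.congr_fun e (⟨x, mem_fixSpace.2 hbx⟩ : K)))
    obtain ⟨i, hi1, hi2, hi3⟩ := exists_dvd_of_dvd_card_GL hr hrq
      (dvd_card_of_pow hr hk1 (LinearEquiv.ext fun y => Subtype.ext (by rw [hpow, ha]; rfl)))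
    have := (Nat.le_of_dvd hi1 (dvd_pow_sub_one_iff.1 hi3)).trans hi2
    omega
  have back : ∀ (e : V ≃ₗ[F] V) (m m' : ℕ), m.Prime → m'.Prime → m ≠ m' → e ^ m = 1 → ∀ x,
      (e ^ m') x = x → e x = x := by
    intro e m m' hm hm' hne he x hx
    obtain ⟨k, hk⟩ := Nat.exists_mul_mod_eq_one_of_coprime
      ((Nat.coprime_primes hm' hm).2 (Ne.symm hne)) hm.one_lt
    have h5 : (e ^ m') ^ k = e := by
      rw [← pow_mul, ← Nat.mod_add_div (m' * k) m, pow_add, pow_mul e m, he, one_pow, mul_one, hk.2,
        pow_one]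
    rw [← h5]
    exact fix_pow hx k
  have hgr : (a * b) ^ r = b ^ r := by rw [hc.mul_pow, ha, one_mul]
  have hgs : (a * b) ^ s = a ^ s := by rw [hc.mul_pow, hb, mul_one]
  have hWa : ∀ x ∈ LinearMap.range (dev a), a x = x → x = 0 := fun x hx h => fpf_range hr0 ha hx h
  obtain ⟨d, hd1, hdn, hd⟩ := exists_gl_degree hr hs (g := a * b)
    (by rw [hc.mul_pow, pow_mul, ha, one_pow, one_mul, mul_comm r, pow_mul, hb, one_pow])
    (W := LinearMap.range (dev a))
    (fun x hx => range_dev_invariant rfl (range_dev_invariant hc.symm hx))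
    (fpf_range_ne_bot a1) (fun x hx h => hWa x hx (hfix x (back _ s r hs hr (Ne.symm hrs) hb x (hgr ▸ h))))
    (fun x hx h => hWa x hx (back _ r s hr hs hrs ha x (hgs ▸ h)))
  have hk := dvd_pow_sub_one_iff.1 ((dvd_mul_right r s).trans hd)
  obtain ⟨c, hc2⟩ := dvd_pow_sub_one_iff.1 ((dvd_mul_left s r).trans hd)
  rcases c with _ | _ | c
  · simp at hc2; omega
  · rw [zero_add, mul_one] at hc2
    exact hc2 ▸ hk
  · have : orderOf ((Fintype.card F : ℕ) : ZMod s) * 2 ≤ d := by
      rw [hc2]; exact Nat.mul_le_mul_left _ (by omega)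
    omega

/-- A prime and the characteristic. -/
theorem gl_le_of_pair {n : ℕ} (hdim : finrank F V = n) {r p : ℕ} (hr : r.Prime) [Fact p.Prime]
    [CharP F p] (hrq : ¬ r ∣ Fintype.card F) (hr0 : (r : F) ≠ 0) {h g : V ≃ₗ[F] V} (hh : h ^ r = 1)
    (h1 : h ≠ 1) (hg : g ^ p = 1) (g1 : g ≠ 1) (hc : Commute g h)
    (hk : 2 ≤ orderOf ((Fintype.card F : ℕ) : ZMod r)) :
    orderOf ((Fintype.card F : ℕ) : ZMod r) ≤ n - 2 := by
  classical
  set k := orderOf ((Fintype.card F : ℕ) : ZMod r) with hkdef
  set K := fixSpace h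
  set W := LinearMap.range (dev h)
  have hKW : IsCompl K W := isCompl_fix_range hr0 hh
  have hsum := Submodule.finrank_add_eq_of_isCompl hKW
  have hWh : ∀ x ∈ W, h x ∈ W := fun x hx => range_dev_invariant rfl hx
  have hWf : ∀ x ∈ W, h x = x → x = 0 := fun x hx e => fpf_range hr0 hh hx e
  have hW : k ≤ finrank F W := le_finrank_invariant hr hrq hh hWh (fpf_range_ne_bot h1) hWf
  have hgp : ∀ i x, ((g.toLinearMap : Module.End F V) ^ i) x = (g ^ i) x :=
    fun i x => pow_apply_toLinearMap g i x
  let N : Module.End F V := dev g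
  have hN : N ^ p = 0 := by
    haveI : Nontrivial V := Module.nontrivial_of_finrank_pos (R := F) (by omega)
    haveI : CharP (Module.End F V) p :=
      charP_of_injective_algebraMap (algebraMap F (Module.End F V)).injective p
    have e := LinearOrders.sub_one_pow_char_pow (Fact.out : p.Prime)
      (CharP.cast_eq_zero (Module.End F V) p) (g.toLinearMap : Module.End F V) 1
    rw [pow_one] at e
    have e2 : (g.toLinearMap : Module.End F V) ^ p = 1 := LinearMap.ext fun x => by
      rw [hgp, hg]; rfl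
    rw [e2] at e
    exact (add_eq_right (M := Module.End F V)).1 e.symm
  have hNh : ∀ x, N (h x) = h (N x) := fun x => by
    show g (h x) - h x = h (g x - x)
    rw [map_sub, commute_apply hc]
  by_cases hgK : ∃ x ∈ K, N x ≠ 0
  · -- the fixed space has dimension at least two
    obtain ⟨x, hx, hNx⟩ := hgK
    have hK2 : 2 ≤ finrank F K := by
      by_contra hlt
      have hx0 : x ≠ 0 := fun e => hNx (by rw [e, map_zero])
      have hspan : K ≤ F ∙ x := le_of_eq (Submodule.eq_of_le_of_finrank_le
        ((Submodule.span_singleton_le_iff_mem _ _).2 hx)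
        (by rw [finrank_span_singleton hx0]; omega)).symm
      have hNxK : N x ∈ K := mem_fixSpace.2 (by rw [← hNh, mem_fixSpace.1 hx])
      obtain ⟨c, hc'⟩ := Submodule.mem_span_singleton.1 (hspan hNxK)
      have hpow : ∀ i, (N ^ i) x = c ^ i • x := by
        intro i
        induction i with
        | zero => simp
        | succ i ih => rw [pow_succ', Module.End.mul_apply, ih, map_smul, ← hc', smul_smul, pow_succ]
      have := hpow p
      rw [hN, LinearMap.zero_apply] at this
      have hc0 : c = 0 := eq_zero_of_pow_eq_zero ((smul_eq_zero.1 this.symm).resolve_right hx0)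
      exact hNx (by rw [← hc', hc0, zero_smul])
    omega
  · simp only [not_exists, not_and, not_not] at hgK
    -- a chain of two invariant subspaces of `W`
    have hNW : ∀ x ∈ W, N x ∈ W := fun x hx => by
      show g x - x ∈ W
      exact W.sub_mem (range_dev_invariant hc hx) hx
    let M : Module.End F W := N.restrict hNW
    have hM : M ≠ 0 := by
      intro e
      refine g1 (ext_isCompl hKW (fun y hy => sub_eq_zero.1 (hgK y hy)) fun y hy => sub_eq_zero.1 ?_)
      exact congrArg Subtype.val (LinearMap.congr_fun e ⟨y, hy⟩)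
    have hker : LinearMap.ker M ≠ ⊥ := by
      intro e
      have hinj : Function.Injective M := LinearMap.ker_eq_bot.1 e
      have hpow : ∀ (i : ℕ) (u : W), (M ^ i) u = 0 → u = 0 := by
        intro i
        induction i with
        | zero => intro u hu; exact hu
        | succ i ih =>
          intro u hu
          rw [pow_succ', Module.End.mul_apply] at hu
          exact ih u (hinj (hu.trans (map_zero M).symm))
      have hMp : M ^ p = 0 := LinearMap.ext fun y => Subtype.ext (by
        have : ∀ i, (((M ^ i) y : W) : V) = (N ^ i) (y : V) := by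
          intro i
          induction i with
          | zero => rfl
          | succ i ih =>
            rw [pow_succ', pow_succ', Module.End.mul_apply, Module.End.mul_apply, ← ih]; rfl
        rw [this, hN]; rfl)
      apply hM
      refine LinearMap.ext fun y => ?_
      rw [hpow p y (by rw [hMp]; rfl)]
      exact (map_zero M).trans rfl
    have hrange : LinearMap.range M ≠ ⊥ := fun e => hM (LinearMap.range_eq_bot.1 e)
    have hk1 : k ≤ finrank F ((LinearMap.ker M).map W.subtype) := by
      refine le_finrank_invariant hr hrq hh ?_ ?_ ?_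
      · rintro _ ⟨y, hy, rfl⟩
        refine ⟨⟨h y, hWh _ y.2⟩, Subtype.ext ?_, rfl⟩
        show N (h y) = 0
        rw [hNh, show N (y : V) = 0 from congrArg Subtype.val hy, map_zero]
      · intro e; exact hker (Submodule.map_injective_of_injective W.subtype_injective (by rw [Submodule.map_bot]; exact e)) 
      · rintro _ ⟨y, -, rfl⟩ e; exact hWf _ y.2 e
    have hk2 : k ≤ finrank F ((LinearMap.range M).map W.subtype) := by
      refine le_finrank_invariant hr hrq hh ?_ ?_ ?_
      · rintro _ ⟨_, ⟨y, rfl⟩, rfl⟩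
        exact ⟨M ⟨h y, hWh _ y.2⟩, LinearMap.mem_range_self _ _, hNh y⟩
      · intro e; exact hrange (Submodule.map_injective_of_injective W.subtype_injective (by rw [Submodule.map_bot]; exact e))
      · rintro _ ⟨y, -, rfl⟩ e; exact hWf _ y.2 e
    rw [← (Submodule.equivMapOfInjective _ W.subtype_injective _).finrank_eq] at hk1 hk2
    have := LinearMap.finrank_range_add_finrank_ker M
    have := W.finrank_le
    omega

end Cfsg.Agent.Lib.BCGraph
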