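import Cfsg.Agent.Lib.BCGraph.Linear
import Cfsg.Agent.Lib.Forms.Count
import Cfsg.Agent.Lib.Orth52.Classify
import Cfsg.Agent.Lib.OrthStd.Models

/-! Restriction to invariant subspaces, gluing of orthogonal summands, odd-dimensional models. -/

set_option autoImplicit false
set_option linter.unusedSectionVars false

namespace Cfsg.Agent.Lib.BCGraph

open Module QuadraticMap
open Cfsg.Agent.Lib.Forms Cfsg.Agent.Lib.Symplectic

variable {F : Type*} [Field F] {V : Type*} [AddCommGroup V] [Module F V]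

/-- Restriction of a group of linear equivalences to an invariant subspace. -/
def resHom (C : Subgroup (V ≃ₗ[F] V)) (W : Submodule F V) (hW : ∀ g ∈ C, ∀ x ∈ W, g x ∈ W) :
    C →* (W ≃ₗ[F] W) where
  toFun g :=
    { toFun := fun x => ⟨g.1 x, hW _ g.2 _ x.2⟩
      map_add' := fun x y => Subtype.ext (by simp)
      map_smul' := fun a x => Subtype.ext (by simp)
      invFun := fun x => ⟨(g⁻¹ : C).1 x, hW _ (g⁻¹ : C).2 _ x.2⟩
      left_inv := fun x => Subtype.ext (g.1.symm_apply_apply x)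
      right_inv := fun x => Subtype.ext (g.1.apply_symm_apply x) }
  map_one' := LinearEquiv.ext fun x => rfl
  map_mul' g g' := LinearEquiv.ext fun x => rfl

@[simp] theorem coe_resHom (C : Subgroup (V ≃ₗ[F] V)) (W : Submodule F V)
    (hW : ∀ g ∈ C, ∀ x ∈ W, g x ∈ W) (g : C) (x : W) : (resHom C W hW g x : V) = g.1 x := rfl

theorem resHom_eq_one_iff (C : Subgroup (V ≃ₗ[F] V)) (W : Submodule F V)
    (hW : ∀ g ∈ C, ∀ x ∈ W, g x ∈ W) (g : C) : resHom C W hW g = 1 ↔ ∀ x ∈ W, g.1 x = x := by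
  constructor
  · intro h x hx
    exact congrArg Subtype.val (LinearEquiv.congr_fun h ⟨x, hx⟩)
  · exact fun h => LinearEquiv.ext fun x => Subtype.ext (h x x.2)

theorem ext_isCompl {W K : Submodule F V} (hc : IsCompl K W) {g g' : V ≃ₗ[F] V}
    (hK : ∀ x ∈ K, g x = g' x) (hW : ∀ x ∈ W, g x = g' x) : g = g' := by
  refine LinearEquiv.ext fun x => ?_
  have hx : x ∈ K ⊔ W := by rw [hc.sup_eq_top]; trivial
  obtain ⟨a, ha, b, hb, rfl⟩ := Submodule.mem_sup.1 hx
  rw [map_add, map_add, hK a ha, hW b hb]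

/-! ### Symplectic -/

variable {B : V →ₗ[F] V →ₗ[F] F}

theorem fix_range_orth {h : V ≃ₗ[F] V} (hh : h ∈ Isom B) {k w : V} (hk : k ∈ fixSpace h)
    (hw : w ∈ LinearMap.range (dev h)) : B k w = 0 ∧ B w k = 0 := by
  rw [mem_fixSpace] at hk
  obtain ⟨z, rfl⟩ := hw
  have e1 : B k (h z) = B k z := by
    conv_lhs => rw [← hk]
    exact hh _ _
  have e2 : B (h z) k = B z k := by
    conv_lhs => rw [← hk]
    exact hh _ _
  simp [dev_apply, e1, e2]

theorem polar_fix_range {Q : QuadraticForm F V} {h : V ≃ₗ[F] V} (hh : h ∈ orth Q) {k w : V}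
    (hk : k ∈ fixSpace h) (hw : w ∈ LinearMap.range (dev h)) : polar Q k w = 0 := by
  rw [mem_fixSpace] at hk
  obtain ⟨z, rfl⟩ := hw
  have e1 : polar Q k (h z) = polar Q k z := by
    conv_lhs => rw [← hk]
    exact orth_polar hh _ _
  rw [dev_apply, polar_sub_right, e1, sub_self]

theorem isSymp_restr_compl (hB : IsSympForm B) {W K : Submodule F V} (hc : IsCompl K W)
    (ho : ∀ k ∈ K, ∀ w ∈ W, B k w = 0 ∧ B w k = 0) :
    IsSympForm (restr B W) ∧ IsSympForm (restr B K) := by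
  refine ⟨⟨fun w => hB.self _, fun w hw => Subtype.ext (hB.nondeg _ fun v => ?_)⟩,
    ⟨fun w => hB.self _, fun w hw => Subtype.ext (hB.nondeg _ fun v => ?_)⟩⟩ <;>
    (have hv : v ∈ K ⊔ W := by rw [hc.sup_eq_top]; trivial
     obtain ⟨a, ha, b, hb, rfl⟩ := Submodule.mem_sup.1 hv
     rw [map_add])
  · rw [(ho a ha w w.2).2, show B (w : V) b = 0 from hw ⟨b, hb⟩, add_zero]
  · rw [(ho w w.2 b hb).1, show B (w : V) a = 0 from hw ⟨a, ha⟩, add_zero]

theorem nondeg_res_compl {Q : QuadraticForm F V} (hQ : Nondeg Q) {W K : Submodule F V}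
    (hc : IsCompl K W) (ho : ∀ k ∈ K, ∀ w ∈ W, polar Q k w = 0) :
    Nondeg (res Q W) ∧ Nondeg (res Q K) := by
  refine ⟨fun w hw => Subtype.ext (hQ _ fun v => ?_), fun w hw => Subtype.ext (hQ _ fun v => ?_)⟩ <;>
    (have hv : v ∈ K ⊔ W := by rw [hc.sup_eq_top]; trivial
     obtain ⟨a, ha, b, hb, rfl⟩ := Submodule.mem_sup.1 hv
     rw [polar_add_right])
  · rw [polar_comm Q (w : V) a, ho a ha w w.2, ← res_polar Q W w ⟨b, hb⟩, hw, add_zero]
  · rw [ho w w.2 b hb, ← res_polar Q K w ⟨a, ha⟩, hw, add_zero]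

/-- Restriction of symplectic centralisers. -/
def spRes (C : Subgroup (V ≃ₗ[F] V)) (hC : C ≤ Isom B) (W : Submodule F V)
    (hW : ∀ g ∈ C, ∀ x ∈ W, g x ∈ W) : C →* Isom (restr B W) :=
  (resHom C W hW).codRestrict _ fun g x y => hC g.2 _ _

@[simp] theorem coe_spRes (C : Subgroup (V ≃ₗ[F] V)) (hC : C ≤ Isom B) (W : Submodule F V)
    (hW : ∀ g ∈ C, ∀ x ∈ W, g x ∈ W) (g : C) : (spRes C hC W hW g).1 = resHom C W hW g := rfl

/-- Restriction of orthogonal centralisers. -/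
def orthRes {Q : QuadraticForm F V} (C : Subgroup (V ≃ₗ[F] V)) (hC : C ≤ orth Q) (W : Submodule F V)
    (hW : ∀ g ∈ C, ∀ x ∈ W, g x ∈ W) : C →* orth (res Q W) :=
  (resHom C W hW).codRestrict _ fun g x => hC g.2 _

@[simp] theorem coe_orthRes {Q : QuadraticForm F V} (C : Subgroup (V ≃ₗ[F] V)) (hC : C ≤ orth Q)
    (W : Submodule F V) (hW : ∀ g ∈ C, ∀ x ∈ W, g x ∈ W) (g : C) :
    (orthRes C hC W hW g).1 = resHom C W hW g := rfl

/-! ### Gluing -/

variable {U : Type*} [AddCommGroup U] [Module F U]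

/-- Gluing of linear equivalences. -/
def glueHom : (V ≃ₗ[F] V) × (U ≃ₗ[F] U) →* ((V × U) ≃ₗ[F] (V × U)) where
  toFun p := p.1.prodCongr p.2
  map_one' := LinearEquiv.ext fun x => rfl
  map_mul' p p' := LinearEquiv.ext fun x => rfl

@[simp] theorem glueHom_apply (p : (V ≃ₗ[F] V) × (U ≃ₗ[F] U)) (x : V × U) :
    glueHom p x = (p.1 x.1, p.2 x.2) := rfl

theorem glueHom_injective : Function.Injective (glueHom (F := F) (V := V) (U := U)) := by
  intro p p' h
  refine Prod.ext (LinearEquiv.ext fun x => ?_) (LinearEquiv.ext fun x => ?_)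
  · exact congrArg Prod.fst (LinearEquiv.congr_fun h (x, 0))
  · exact congrArg Prod.snd (LinearEquiv.congr_fun h (0, x))

/-- Orthogonal sum of alternating forms. -/
def prodForm (B : V →ₗ[F] V →ₗ[F] F) (B' : U →ₗ[F] U →ₗ[F] F) : (V × U) →ₗ[F] (V × U) →ₗ[F] F :=
  B.compl₁₂ (LinearMap.fst F V U) (LinearMap.fst F V U) +
    B'.compl₁₂ (LinearMap.snd F V U) (LinearMap.snd F V U)

theorem prodForm_apply (B : V →ₗ[F] V →ₗ[F] F) (B' : U →ₗ[F] U →ₗ[F] F) (x y : V × U) :
    prodForm B B' x y = B x.1 y.1 + B' x.2 y.2 := rfl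

theorem isSymp_prodForm {B' : U →ₗ[F] U →ₗ[F] F} (hB : IsSympForm B) (hB' : IsSympForm B') :
    IsSympForm (prodForm B B') where
  self x := by rw [prodForm_apply, hB.self, hB'.self, add_zero]
  nondeg x hx := Prod.ext (hB.nondeg _ fun y => by simpa [prodForm_apply] using hx (y, 0))
    (hB'.nondeg _ fun y => by simpa [prodForm_apply] using hx (0, y))

/-- Gluing of isometries. -/
def spGlue (B : V →ₗ[F] V →ₗ[F] F) (B' : U →ₗ[F] U →ₗ[F] F) :
    Isom B × Isom B' →* Isom (prodForm B B') :=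
  (glueHom.comp ((Isom B).subtype.prodMap (Isom B').subtype)).codRestrict _ fun p x y => by
    show B (p.1.1 x.1) (p.1.1 y.1) + B' (p.2.1 x.2) (p.2.1 y.2) = _
    rw [p.1.2, p.2.2, prodForm_apply]

theorem spGlue_injective (B : V →ₗ[F] V →ₗ[F] F) (B' : U →ₗ[F] U →ₗ[F] F) :
    Function.Injective (spGlue B B') := by
  intro p p' h
  have h' : ((p.1.1, p.2.1) : (V ≃ₗ[F] V) × (U ≃ₗ[F] U)) = (p'.1.1, p'.2.1) :=
    glueHom_injective (congrArg Subtype.val h)
  exact Prod.ext (Subtype.ext (Prod.ext_iff.1 h').1) (Subtype.ext (Prod.ext_iff.1 h').2)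

/-- Gluing of orthogonal maps. -/
def orthGlue (Q : QuadraticForm F V) (R : QuadraticForm F U) :
    orth Q × orth R →* orth (Q.prod R) :=
  (glueHom.comp ((orth Q).subtype.prodMap (orth R).subtype)).codRestrict _ fun p x => by
    show (Q.prod R) (p.1.1 x.1, p.2.1 x.2) = _
    rw [QuadraticMap.prod_apply, QuadraticMap.prod_apply, p.1.2, p.2.2]

@[simp] theorem orthGlue_apply (Q : QuadraticForm F V) (R : QuadraticForm F U) (p : orth Q × orth R)
    (x : V × U) : (orthGlue Q R p).1 x = (p.1.1 x.1, p.2.1 x.2) := rfl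

theorem orthGlue_injective (Q : QuadraticForm F V) (R : QuadraticForm F U) :
    Function.Injective (orthGlue Q R) := by
  intro p p' h
  have h' : ((p.1.1, p.2.1) : (V ≃ₗ[F] V) × (U ≃ₗ[F] U)) = (p'.1.1, p'.2.1) :=
    glueHom_injective (congrArg Subtype.val h)
  exact Prod.ext (Subtype.ext (Prod.ext_iff.1 h').1) (Subtype.ext (Prod.ext_iff.1 h').2)

/-! ### The odd model -/

/-- Orthogonal groups of non-degenerate forms of a given odd dimension are isomorphic. -/
theorem nonempty_orth_mulEquiv_odd [Finite F] [FiniteDimensional F V] {Q : QuadraticForm F V}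
    (hQ : Nondeg Q) {n : ℕ} (hn : finrank F V = 2 * n + 1) :
    Nonempty (orth Q ≃* orth (OrthStd.qOddC n F)) := by
  rcases classify Q hQ with ⟨m, hm, -⟩ | ⟨m, c, hc, -, hm, ⟨e⟩⟩ | ⟨m, a, b, -, hm, -⟩
  · omega
  · obtain rfl : m = n := by omega
    obtain ⟨g, hg⟩ := Orth52.exists_similar_qPlus (F := F) m (inv_ne_zero hc)
    let e' : (c⁻¹ • ((qPlus (F := F) m).prod (qOne c))).IsometryEquiv
        ((qPlus (F := F) m).prod (qOne 1)) :=
      { g.prodCongr (LinearEquiv.refl F F) with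
        map_app' := fun p => by
          show (qPlus m).prod (qOne 1) (g p.1, p.2) = _
          rw [QuadraticMap.prod_apply, hg, QuadraticMap.smul_apply, QuadraticMap.prod_apply,
            qOne_apply, qOne_apply, smul_eq_mul]
          field_simp }
    exact ⟨(orthCongr e).trans (((MulEquiv.subgroupCongr (orth_smul _ (inv_ne_zero hc)).symm).trans
      (orthCongr e')).trans (orthCongr (OrthStd.oddIso m F).symm))⟩
  · omega

end Cfsg.Agent.Lib.BCGraph
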