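import Cfsg.Agent.Lib.Forms.Quad
import Cfsg.Agent.Lib.Forms.Reflections
import Cfsg.Agent.Lib.Symplectic.Order

/-!
Coprime splitting of a linear map of finite order, and the passage between alternating and quadratic
forms invariant under a fixed-point-free map of odd order.
-/

set_option autoImplicit false
set_option linter.unusedSectionVars false

namespace Cfsg.Agent.Lib.BCGraph

open Module QuadraticMap
open Cfsg.Agent.Lib.Forms Cfsg.Agent.Lib.Symplectic

variable {F : Type*} [Field F] {V : Type*} [AddCommGroup V] [Module F V]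

/-- No non-zero fixed vector. -/
def FPF (h : V ≃ₗ[F] V) : Prop := ∀ x, h x = x → x = 0

/-- `h - h⁻¹`. -/
def skew (h : V ≃ₗ[F] V) : V →ₗ[F] V := h.toLinearMap - h.symm.toLinearMap

theorem skew_apply (h : V ≃ₗ[F] V) (x : V) : skew h x = h x - h.symm x := rfl

theorem fix_pow {h : V ≃ₗ[F] V} {x : V} (hx : h x = x) : ∀ n : ℕ, (h ^ n) x = x
  | 0 => rfl
  | n + 1 => by rw [pow_succ, LinearEquiv.mul_apply, hx, fix_pow hx n]

theorem commute_apply {g h : V ≃ₗ[F] V} (hc : g * h = h * g) (x : V) : g (h x) = h (g x) :=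
  LinearEquiv.congr_fun hc x

theorem commute_symm {g h : V ≃ₗ[F] V} (hc : g * h = h * g) (x : V) :
    g (h.symm x) = h.symm (g x) := by
  apply h.injective
  rw [h.apply_symm_apply, ← commute_apply hc, h.apply_symm_apply]

theorem skew_commute {g h : V ≃ₗ[F] V} (hc : g * h = h * g) (x : V) :
    g (skew h x) = skew h (g x) := by
  rw [skew_apply, skew_apply, map_sub, commute_apply hc, commute_symm hc]

theorem skew_injective {h : V ≃ₗ[F] V} {s : ℕ} (hodd : Odd s) (hs : h ^ s = 1) (hf : FPF h) :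
    Function.Injective (skew h) := by
  rw [injective_iff_map_eq_zero]
  intro x hx
  refine hf x ?_
  have h2 : (h ^ 2) x = x := by
    rw [pow_two, LinearEquiv.mul_apply, ← sub_eq_zero]
    have := congrArg h hx
    rwa [skew_apply, map_sub, h.apply_symm_apply, map_zero] at this
  obtain ⟨k, rfl⟩ := hodd
  have h3 := fix_pow h2 (k + 1)
  rwa [← pow_mul, show 2 * (k + 1) = (2 * k + 1) + 1 by ring, pow_succ, hs, one_mul] at h3

theorem isCompl_fix_range [FiniteDimensional F V] {h : V ≃ₗ[F] V} {s : ℕ} (hs0 : (s : F) ≠ 0)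
    (hs : h ^ s = 1) : IsCompl (fixSpace h) (LinearMap.range (dev h)) := by
  have hd : Disjoint (fixSpace h) (LinearMap.range (dev h)) := by
    rw [Submodule.disjoint_def]
    rintro x hx ⟨y, rfl⟩
    rw [mem_fixSpace] at hx
    have key : ∀ i : ℕ, (h ^ i) y = y + (i : F) • dev h y := by
      intro i
      induction i with
      | zero => simp
      | succ i ih =>
        rw [pow_succ', LinearEquiv.mul_apply, ih, map_add, map_smul, hx, Nat.cast_succ, add_smul,
          one_smul, dev_apply]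
        abel
    have h1 := key s
    rw [hs] at h1
    have h1' : (s : F) • dev h y = 0 := by
      simpa using h1
    exact (smul_eq_zero.1 h1').resolve_left hs0
  refine ⟨hd, codisjoint_iff.2 (Submodule.eq_top_of_disjoint _ _ ?_ hd)⟩
  rw [add_comm, finrank_range_dev]

theorem fpf_range [FiniteDimensional F V] {h : V ≃ₗ[F] V} {s : ℕ} (hs0 : (s : F) ≠ 0)
    (hs : h ^ s = 1) {x : V} (hx : x ∈ LinearMap.range (dev h)) (hfx : h x = x) : x = 0 :=
  Submodule.disjoint_def.1 (isCompl_fix_range hs0 hs).disjoint x (mem_fixSpace.2 hfx) hx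

theorem range_dev_invariant {g h : V ≃ₗ[F] V} (hc : g * h = h * g) {x : V}
    (hx : x ∈ LinearMap.range (dev h)) : g x ∈ LinearMap.range (dev h) := by
  obtain ⟨y, rfl⟩ := hx
  exact ⟨g y, by rw [dev_apply, dev_apply, map_sub, commute_apply hc]⟩

theorem fixSpace_invariant {g h : V ≃ₗ[F] V} (hc : g * h = h * g) {x : V}
    (hx : x ∈ fixSpace h) : g x ∈ fixSpace h := by
  rw [mem_fixSpace] at hx ⊢
  rw [← commute_apply hc, hx]

/-! ### Alternating to quadratic -/

variable {B : V →ₗ[F] V →ₗ[F] F}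

theorem isom_symm_apply {h : V ≃ₗ[F] V} (hh : h ∈ Isom B) (x y : V) :
    B (h x) y = B x (h.symm y) := by
  conv_lhs => rw [← h.apply_symm_apply y]
  exact hh _ _

theorem skew_skew {h : V ≃ₗ[F] V} (hh : h ∈ Isom B) (x y : V) :
    B (skew h x) y = -B x (skew h y) := by
  have h1 := isom_symm_apply hh x y
  have h2 : B (h.symm x) y = B x (h y) := by
    calc B (h.symm x) y = B (h (h.symm x)) (h y) := (hh _ _).symm
      _ = _ := by rw [h.apply_symm_apply]
  simp only [skew_apply, map_sub, LinearMap.sub_apply, h1, h2]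
  ring

/-- The quadratic form of a skew map in an alternating form. -/
noncomputable def qOfSymp (B : V →ₗ[F] V →ₗ[F] F) (h : V ≃ₗ[F] V) : QuadraticForm F V :=
  LinearMap.BilinMap.toQuadraticMap ((2⁻¹ : F) • (B.comp (skew h)))

theorem qOfSymp_apply (h : V ≃ₗ[F] V) (x : V) :
    qOfSymp B h x = 2⁻¹ * B (skew h x) x := rfl

theorem qOfSymp_polar (h2 : (2 : F) ≠ 0) (hB : IsSympForm B) {h : V ≃ₗ[F] V} (hh : h ∈ Isom B)
    (x y : V) : polar (qOfSymp B h) x y = B (skew h x) y := by
  rw [qOfSymp, LinearMap.BilinMap.polar_toQuadraticMap]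
  simp only [LinearMap.smul_apply, LinearMap.comp_apply, smul_eq_mul]
  rw [skew_skew hh y x, ← hB.swap (skew h x) y]
  field_simp
  ring

theorem qOfSymp_nondeg (h2 : (2 : F) ≠ 0) (hB : IsSympForm B) {h : V ≃ₗ[F] V} (hh : h ∈ Isom B)
    {s : ℕ} (hodd : Odd s) (hs : h ^ s = 1) (hf : FPF h) : Nondeg (qOfSymp B h) := by
  intro x hx
  refine skew_injective hodd hs hf ?_
  rw [map_zero]
  exact hB.nondeg _ fun y => by rw [← qOfSymp_polar h2 hB hh]; exact hx y

theorem mem_orth_qOfSymp {g h : V ≃ₗ[F] V} (hg : g ∈ Isom B) (hc : g * h = h * g) :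
    g ∈ orth (qOfSymp B h) := fun x => by
  rw [qOfSymp_apply, qOfSymp_apply, ← skew_commute hc, hg]

/-! ### Quadratic to alternating -/

/-- The alternating form of a skew map in a quadratic form. -/
noncomputable def sympOfQ (Q : QuadraticForm F V) (h : V ≃ₗ[F] V) : V →ₗ[F] V →ₗ[F] F :=
  (polarBilin Q).comp (skew h)

theorem sympOfQ_apply (Q : QuadraticForm F V) (h : V ≃ₗ[F] V) (x y : V) :
    sympOfQ Q h x y = polar Q (skew h x) y := rfl

theorem isSymp_sympOfQ {Q : QuadraticForm F V} (hQ : Nondeg Q) {h : V ≃ₗ[F] V} (hh : h ∈ orth Q)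
    {s : ℕ} (hodd : Odd s) (hs : h ^ s = 1) (hf : FPF h) : IsSympForm (sympOfQ Q h) where
  self x := by
    have h1 : polar Q (h.symm x) x = polar Q x (h x) := by
      rw [← orth_polar hh, h.apply_symm_apply]
    rw [sympOfQ_apply, skew_apply, polar_sub_left, h1, polar_comm Q (h x) x, sub_self]
  nondeg x hx := by
    refine skew_injective hodd hs hf ?_
    rw [map_zero]
    exact hQ _ fun y => hx y

theorem mem_isom_sympOfQ {Q : QuadraticForm F V} {g h : V ≃ₗ[F] V} (hg : g ∈ orth Q)
    (hc : g * h = h * g) : g ∈ Isom (sympOfQ Q h) := fun x y => by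
  rw [sympOfQ_apply, sympOfQ_apply, ← skew_commute hc, orth_polar hg]

end Cfsg.Agent.Lib.BCGraph
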