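import Cfsg.Agent.Lib.BCGraph.SpAdj
import Cfsg.Agent.Lib.LinearOrders.FieldModule
import Cfsg.Agent.Lib.Linear.SL2

/-! Two odd semisimple primes in the prime graph of `PSp(2n,q)`. -/

set_option autoImplicit false
set_option linter.unusedSectionVars false

namespace Cfsg.Agent.Lib.BCGraph

open Module Polynomial
open Cfsg.Agent.Lib.Forms Cfsg.Agent.Lib.Symplectic

variable {F : Type*} [Field F] [Fintype F] {V : Type*} [AddCommGroup V] [Module F V]
  [FiniteDimensional F V] {B : V →ₗ[F] V →ₗ[F] F}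

/-- If `a` is non-trivial on the fixed space of `b` then `η(a) + η(b) ≤ n`. -/
theorem eta_add_le (hB : IsSympForm B) {n : ℕ} (hdim : finrank F V = 2 * n) {r s : ℕ} (hr : r.Prime)
    (hs : s.Prime) (hrq : ¬ r ∣ Fintype.card F) (hsq : ¬ s ∣ Fintype.card F) (hs0 : (s : F) ≠ 0)
    {a b : Isom B} (har : a ^ r = 1) (hbs : b ^ s = 1) (hb1 : b ≠ 1) (hc : Commute a b) {x : V}
    (hbx : b.1 x = x) (hax : a.1 x ≠ x) {ηk ηl : ℕ}
    (hηk : (Odd (orderOf ((Fintype.card F : ℕ) : ZMod r)) ∧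
        ηk = orderOf ((Fintype.card F : ℕ) : ZMod r)) ∨
      (Even (orderOf ((Fintype.card F : ℕ) : ZMod r)) ∧
        2 * ηk = orderOf ((Fintype.card F : ℕ) : ZMod r)))
    (hηl : (Odd (orderOf ((Fintype.card F : ℕ) : ZMod s)) ∧
        ηl = orderOf ((Fintype.card F : ℕ) : ZMod s)) ∨
      (Even (orderOf ((Fintype.card F : ℕ) : ZMod s)) ∧
        2 * ηl = orderOf ((Fintype.card F : ℕ) : ZMod s))) : ηk + ηl ≤ n := by
  have hb' : b.1 ^ s = 1 := (val_eq hbs :)
  set W := LinearMap.range (dev b.1) with hWdef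
  have hKW : IsCompl (fixSpace b.1) W := isCompl_fix_range hs0 hb'
  obtain ⟨hBW, hBK⟩ := isSymp_restr_compl hB hKW fun y hy w hw => fix_range_orth b.2 hy hw
  let C : Subgroup (V ≃ₗ[F] V) := Subgroup.centralizer {b.1} ⊓ Isom B
  have hC : ∀ g ∈ C, g * b.1 = b.1 * g := fun g hg => Subgroup.mem_centralizer_singleton_iff.1 hg.1
  let πW := spRes C inf_le_right W fun g hg y hy => range_dev_invariant (hC g hg) hy
  let πK := spRes C inf_le_right (fixSpace b.1) fun g hg y hy => fixSpace_invariant (hC g hg) hy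
  let aa : C := ⟨a.1, Subgroup.mem_centralizer_singleton_iff.2 (val_eq hc.eq :), a.2⟩
  let bb : C := ⟨b.1, Subgroup.mem_centralizer_singleton_iff.2 rfl, b.2⟩
  have hK1 : πK aa ≠ 1 := fun e => hax (congrArg Subtype.val
    (LinearEquiv.congr_fun (congrArg Subtype.val e) (⟨x, mem_fixSpace.2 hbx⟩ : fixSpace b.1)))
  have hW1 : πW bb ≠ 1 := by
    intro e
    refine hb1 (Subtype.ext (ext_isCompl hKW (fun y hy => mem_fixSpace.1 hy) fun y hy => ?_))
    exact congrArg Subtype.val (LinearEquiv.congr_fun (congrArg Subtype.val e) (⟨y, hy⟩ : W))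
  obtain ⟨w, hw⟩ := even_finrank hBW
  obtain ⟨m, hm⟩ := even_finrank hBK
  have hsum := Submodule.finrank_add_eq_of_isCompl hKW
  obtain ⟨i, hi1, hi2, hi3⟩ := exists_dvd_of_dvd_card_isom hBK (m := m) (by omega) hr hrq
    (dvd_card_of_pow hr hK1 (by
      rw [← map_pow, show aa ^ r = 1 from Subtype.ext (val_eq har :), map_one]))
  obtain ⟨j, hj1, hj2, hj3⟩ := exists_dvd_of_dvd_card_isom hBW (m := w) (by omega) hs hsq
    (dvd_card_of_pow hs hW1 (by rw [← map_pow, show bb ^ s = 1 from Subtype.ext hb', map_one]))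
  have := eta_le_of_dvd hηk hi1 (dvd_pow_sub_one_iff.1 hi3)
  have := eta_le_of_dvd hηl hj1 (dvd_pow_sub_one_iff.1 hj3)
  omega

theorem orderOf_prime_mul {G : Type*} [Group G] {T : G} {r s : ℕ} (hr : r.Prime) (hs : s.Prime)
    (h : T ^ (r * s) = 1) (h1 : T ^ r ≠ 1) (h2 : T ^ s ≠ 1) : orderOf T = r * s := by
  obtain ⟨a, b, ha, hb, hab⟩ := Nat.dvd_mul.1 (orderOf_dvd_of_pow_eq_one h)
  rcases (Nat.dvd_prime hr).1 ha with e | e
  · exact absurd (orderOf_dvd_iff_pow_eq_one.1 (by rw [← hab, e, one_mul]; exact hb)) h2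
  rcases (Nat.dvd_prime hs).1 hb with e' | e'
  · exact absurd (orderOf_dvd_iff_pow_eq_one.1 (by rw [← hab, e', mul_one]; exact ha)) h1
  rw [← hab, e, e']

theorem exists_minimal_invariant {g : V ≃ₗ[F] V} {W : Submodule F V} (hW : ∀ x ∈ W, g x ∈ W)
    (hW0 : W ≠ ⊥) : ∃ S ≤ W, S ≠ ⊥ ∧ (∀ x ∈ S, g x ∈ S) ∧
      ∀ S' ≤ S, (∀ x ∈ S', g x ∈ S') → S' = ⊥ ∨ S' = S := by
  classical
  have hex : ∃ d, ∃ S ≤ W, S ≠ ⊥ ∧ (∀ x ∈ S, g x ∈ S) ∧ finrank F S = d :=
    ⟨_, W, le_rfl, hW0, hW, rfl⟩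
  obtain ⟨S, hS1, hS2, hS3, hS4⟩ := Nat.find_spec hex
  refine ⟨S, hS1, hS2, hS3, fun S' hle hinv => ?_⟩
  by_cases h0 : S' = ⊥
  · exact Or.inl h0
  · exact Or.inr (Submodule.eq_of_le_of_finrank_le hle (by
      rw [hS4]; exact Nat.find_min' hex ⟨S', hle.trans hS1, h0, hinv, rfl⟩))

theorem neg_one_of_dvd {r d q : ℕ} (h : r ∣ q ^ d + 1) : ((q : ℕ) : ZMod r) ^ d = -1 := by
  have := (ZMod.natCast_eq_zero_iff (q ^ d + 1) r).2 h
  rw [Nat.cast_add, Nat.cast_pow, Nat.cast_one] at this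
  exact eq_neg_of_add_eq_zero_left this

/-- The two ways an element of order `r s` can act. -/
theorem exists_degree (hB : IsSympForm B) {n : ℕ} (hdim : finrank F V = 2 * n) {r s : ℕ}
    (hr : r.Prime) (hs : s.Prime) (hr2 : r ≠ 2) (hs2 : s ≠ 2) (hrs : r ≠ s) {g : V ≃ₗ[F] V}
    (hg : g ∈ Isom B) (hgo : g ^ (r * s) = 1) {W : Submodule F V} (hW : ∀ x ∈ W, g x ∈ W)
    (hW0 : W ≠ ⊥) (hfr : ∀ x ∈ W, (g ^ r) x = x → x = 0) (hfs : ∀ x ∈ W, (g ^ s) x = x → x = 0) :
    ∃ d, 1 ≤ d ∧ d ≤ n ∧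
      (r * s ∣ Fintype.card F ^ d - 1 ∨ r * s ∣ Fintype.card F ^ d + 1) := by
  classical
  obtain ⟨S, hSW, hS0, hSinv, hSmin⟩ := exists_minimal_invariant hW hW0
  haveI : Nontrivial S := Submodule.nontrivial_iff_ne_bot.2 hS0
  let T : Module.End F S := g.toLinearMap.restrict hSinv
  have hp : ∀ i : ℕ, ∀ x : S, ((T ^ i) x : V) = (g ^ i) (x : V) := by
    intro i
    induction i with
    | zero => intro x; rfl
    | succ i ih =>
      intro x
      rw [pow_succ, pow_succ, Module.End.mul_apply, LinearEquiv.mul_apply, ih]; rfl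
  have hTapply : ∀ (Q : F[X]) (x : S),
      (aeval T Q x : V) = aeval (g.toLinearMap : Module.End F V) Q x := by
    intro Q
    induction Q using Polynomial.induction_on' with
    | add a b ha hb => intro x; simp [ha x, hb x]
    | monomial i a =>
      intro x
      simp [aeval_monomial, Module.algebraMap_end_apply, hp, pow_apply_toLinearMap]
  have hTo : T ^ (r * s) = 1 := LinearMap.ext fun x => Subtype.ext (by rw [hp, hgo]; rfl)
  obtain ⟨x0, hx0⟩ := exists_ne (0 : S)
  have hTr : T ^ r ≠ 1 := fun e => hx0 (Subtype.ext (hfr _ (hSW x0.2)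
    (by rw [← hp, e]; rfl)))
  have hTs : T ^ s ≠ 1 := fun e => hx0 (Subtype.ext (hfs _ (hSW x0.2)
    (by rw [← hp, e]; rfl)))
  obtain ⟨u, hu⟩ := IsUnit.of_pow_eq_one hTo (Nat.mul_ne_zero hr.ne_zero hs.ne_zero)
  have hord : orderOf T = r * s := by
    rw [← hu, orderOf_units]
    refine orderOf_prime_mul hr hs (Units.ext ?_) (fun e => hTr ?_) (fun e => hTs ?_)
    · rw [Units.val_pow_eq_pow_val, hu, hTo]; rfl
    · rw [← hu, ← Units.val_pow_eq_pow_val, e]; rfl
    · rw [← hu, ← Units.val_pow_eq_pow_val, e]; rfl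
  set f := minpoly F T with hfdef
  have hint : IsIntegral F T := IsIntegral.of_finite F T
  have hTker : ∀ Q : F[X], aeval T Q = 0 ∨ Function.Injective (aeval T Q) := by
    intro Q
    have hinv : ∀ x ∈ (LinearMap.ker (aeval T Q)).map S.subtype,
        g x ∈ (LinearMap.ker (aeval T Q)).map S.subtype := by
      rintro _ ⟨x, hx, rfl⟩
      refine ⟨T x, ?_, rfl⟩
      show aeval T Q (T x) = 0
      have e : aeval T Q * T = T * aeval T Q := by
        have h1 := congrArg (aeval T) (mul_comm Q X)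
        rwa [map_mul, map_mul, aeval_X] at h1
      rw [← Module.End.mul_apply, e, Module.End.mul_apply, show aeval T Q x = 0 from hx, map_zero]
    rcases hSmin ((LinearMap.ker (aeval T Q)).map S.subtype) (Submodule.map_subtype_le S _) hinv with e | e
    · right
      rw [← LinearMap.ker_eq_bot]
      exact Submodule.map_injective_of_injective S.subtype_injective (by rw [Submodule.map_bot]; exact e)
    · left
      refine LinearMap.ker_eq_top.1 (Submodule.map_injective_of_injective S.subtype_injective ?_)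
      rw [Submodule.map_subtype_top]; exact e
  have hirr : Irreducible f := by
    refine ⟨minpoly.not_isUnit F T, fun a b hab => ?_⟩
    by_contra hcon2
    simp only [not_or] at hcon2
    have hf0 : f ≠ 0 := minpoly.ne_zero hint
    have ha0 : a ≠ 0 := fun e => hf0 (by rw [hab, e, zero_mul])
    have hb0 : b ≠ 0 := fun e => hf0 (by rw [hab, e, mul_zero])
    have hdeg := congrArg natDegree hab
    rw [natDegree_mul ha0 hb0] at hdeg
    have da : 0 < a.natDegree := Nat.pos_of_ne_zero fun e => hcon2.1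
      (isUnit_iff_degree_eq_zero.2 (by rw [degree_eq_natDegree ha0, e]; rfl))
    have db : 0 < b.natDegree := Nat.pos_of_ne_zero fun e => hcon2.2
      (isUnit_iff_degree_eq_zero.2 (by rw [degree_eq_natDegree hb0, e]; rfl))
    have na : aeval T a ≠ 0 := fun e => by
      have h5 := natDegree_le_of_dvd (minpoly.dvd F T e) ha0
      rw [← hfdef] at h5; omega
    have nb : aeval T b ≠ 0 := fun e => by
      have h5 := natDegree_le_of_dvd (minpoly.dvd F T e) hb0
      rw [← hfdef] at h5; omega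
    have hz : aeval T a * aeval T b = 0 := by rw [← map_mul, ← hab, hfdef, minpoly.aeval]
    apply nb
    refine LinearMap.ext fun x => (hTker a).resolve_left na ?_
    rw [← Module.End.mul_apply, hz]; simp
  have hdegS : f.natDegree ≤ finrank F S := by
    have h5 := Polynomial.natDegree_le_of_dvd
      (minpoly.dvd F T (LinearMap.aeval_self_charpoly T)) (LinearMap.charpoly_monic T).ne_zero
    rwa [LinearMap.charpoly_natDegree] at h5
  have hf0T : aeval T f = 0 := minpoly.aeval F T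
  let S' : Submodule F V := LinearMap.BilinForm.orthogonal B S
  have hS'inv : ∀ x ∈ S ⊓ S', g x ∈ S ⊓ S' := by
    refine fun x hx => ⟨hSinv x hx.1, fun y hy => ?_⟩
    obtain ⟨z, rfl⟩ : ∃ z : S, g (z : V) = y := by
      have hsurj : Function.Surjective T := LinearMap.surjective_of_injective fun a b e =>
        Subtype.ext (g.injective (congrArg Subtype.val e))
      obtain ⟨z, hz⟩ := hsurj ⟨y, hy⟩
      exact ⟨z, congrArg Subtype.val hz⟩
    show B (g z) (g x) = 0
    rw [hg]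
    exact hx.2 z z.2
  rcases hSmin (S ⊓ S') inf_le_left hS'inv with e | e
  · -- non-degenerate
    have hSn : finrank F S ≤ 2 * n := hdim ▸ S.finrank_le
    have hinv : f ∣ f.comp (X ^ (r * s - 1)) := by
      refine minpoly.dvd F T (LinearMap.ext fun x => Subtype.ext ?_)
      rw [hTapply, LinearMap.zero_apply, Submodule.coe_zero, aeval_comp, map_pow, aeval_X,
        show (g.toLinearMap : Module.End F V) ^ (r * s - 1) = g.symm.toLinearMap from
          LinearMap.ext fun y => symm_pow_apply g (Nat.mul_pos hr.pos hs.pos) hgo y]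
      set z := aeval (g.symm.toLinearMap : Module.End F V) f x with hz
      have hzS : z ∈ S := by
        have hz' : z = (aeval T (f.comp (X ^ (r * s - 1))) x : V) := by
          rw [hTapply, aeval_comp, map_pow, aeval_X,
            show (g.toLinearMap : Module.End F V) ^ (r * s - 1) = g.symm.toLinearMap from
              LinearMap.ext fun y => symm_pow_apply g (Nat.mul_pos hr.pos hs.pos) hgo y]
        rw [hz']; exact Subtype.coe_prop _
      have hzperp : z ∈ S' := fun y hy => by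
        show B y z = 0
        rw [hB.comm_eq_zero, hz, ← adjoint_aeval hg, ← hTapply f ⟨y, hy⟩, hf0T]
        simp
      exact (Submodule.eq_bot_iff _).1 e z ⟨hzS, hzperp⟩
    have hne : ¬ f ∣ X ^ 2 - 1 := by
      rintro ⟨c, hc⟩
      have h5 : T ^ 2 = 1 := by
        have := congrArg (aeval T) hc
        rw [map_mul, hf0T, zero_mul] at this
        simpa [sub_eq_zero] using this
      have h6 := orderOf_dvd_of_pow_eq_one h5
      rw [hord] at h6
      have := Nat.le_of_dvd (by norm_num) h6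
      have : 2 * 2 ≤ r * s := Nat.mul_le_mul hr.two_le hs.two_le
      omega
    obtain ⟨d, hdd, c, hc⟩ := LinearOrders.exists_half_degree hirr (Nat.mul_pos hr.pos hs.pos)
      (minpoly.dvd F T (by simp [hTo])) hinv hne
    have hpeq : T ^ (r * s - 1) = T ^ (Fintype.card F ^ d) := by
      have := congrArg (aeval T) hc
      rw [map_mul, hf0T, zero_mul] at this
      simpa [sub_eq_zero] using this
    have hd0 : 1 ≤ d := by
      have := hirr.natDegree_pos
      omega
    refine ⟨d, hd0, by omega, Or.inr ?_⟩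
    rw [← hord]
    refine orderOf_dvd_of_pow_eq_one ?_
    rw [pow_succ, ← hpeq, ← pow_succ, Nat.sub_add_cancel (Nat.mul_pos hr.pos hs.pos), hTo]
  · -- totally isotropic
    have hiso : S ≤ LinearMap.BilinForm.orthogonal B S := fun x hx => (e.ge hx).2
    have hnd : LinearMap.BilinForm.Nondegenerate B :=
      ⟨hB.nondeg, fun y hy => hB.nondeg y fun x => by rw [hB.swap, hy x, neg_zero]⟩
    have hSn : finrank F S ≤ n := by
      have h3 := Submodule.finrank_mono hiso
      rw [LinearMap.BilinForm.finrank_orthogonal hnd, hdim] at h3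
      have := S.finrank_le
      omega
    refine ⟨f.natDegree, hirr.natDegree_pos, hdegS.trans hSn, Or.inl ?_⟩
    rw [← hord]
    have hT0 : aeval T (X : F[X]) ≠ 0 := fun h5 => by
      rw [aeval_X] at h5
      rw [h5, zero_pow (Nat.mul_ne_zero hr.ne_zero hs.ne_zero)] at hTo
      exact hx0 (by rw [← Module.End.one_apply (R := F) x0, ← hTo]; rfl)
    refine orderOf_dvd_of_pow_eq_one ?_
    simpa using LinearOrders.aeval_pow_card_sub_one hirr hf0T X hT0

theorem neg_one_ne_one' {r : ℕ} (hr : r.Prime) (hr2 : r ≠ 2) : (-1 : ZMod r) ≠ 1 := by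
  haveI : Fact (2 < r) := ⟨lt_of_le_of_ne hr.two_le (Ne.symm hr2)⟩
  exact ZMod.neg_one_ne_one

theorem dvd_two_mul_not_dvd {r d : ℕ} (hr : r.Prime) (hr2 : r ≠ 2)
    (h : r ∣ Fintype.card F ^ d + 1) :
    orderOf ((Fintype.card F : ℕ) : ZMod r) ∣ 2 * d ∧
      ¬ orderOf ((Fintype.card F : ℕ) : ZMod r) ∣ d := by
  have hz := neg_one_of_dvd h
  constructor
  · rw [orderOf_dvd_iff_pow_eq_one, mul_comm, pow_mul, hz, neg_one_sq]
  · rw [orderOf_dvd_iff_pow_eq_one, hz]
    exact neg_one_ne_one' hr hr2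

theorem odd_ratio {k ηk d : ℕ} (hη : (Odd k ∧ ηk = k) ∨ (Even k ∧ 2 * ηk = k)) (h1 : k ∣ 2 * d)
    (h2 : ¬ k ∣ d) : k = 2 * ηk ∧ ∃ a, Odd a ∧ d = ηk * a := by
  rcases hη with ⟨ho, rfl⟩ | ⟨-, rfl⟩
  · exact absurd ((Nat.Coprime.dvd_mul_left (Nat.coprime_two_right.2 ho)).1 h1) h2
  · refine ⟨rfl, ?_⟩
    obtain ⟨a, rfl⟩ := (Nat.mul_dvd_mul_iff_left (show 0 < 2 by norm_num)).1 h1
    refine ⟨a, ?_, rfl⟩
    rw [← Nat.not_even_iff_odd]
    rintro ⟨b, rfl⟩
    exact h2 ⟨b, by ring⟩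

/-- The non-adjacency condition is necessary. -/
theorem ratio_of_pair (hB : IsSympForm B) {n : ℕ} (hdim : finrank F V = 2 * n) {p : ℕ}
    [Fact p.Prime] [CharP F p] {r s : ℕ} (hr : r.Prime) (hs : s.Prime) (hr2 : r ≠ 2) (hs2 : s ≠ 2)
    (hrp : r ≠ p) (hsp : s ≠ p) (hrs : r ≠ s) {a b : Isom B} (hbs : b ^ s = 1) (hb1 : b ≠ 1)
    (har : a ^ r = 1) (ha1 : a ≠ 1) (hc : Commute b a) {ηk ηl : ℕ}
    (hηk : (Odd (orderOf ((Fintype.card F : ℕ) : ZMod r)) ∧
        ηk = orderOf ((Fintype.card F : ℕ) : ZMod r)) ∨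
      (Even (orderOf ((Fintype.card F : ℕ) : ZMod r)) ∧
        2 * ηk = orderOf ((Fintype.card F : ℕ) : ZMod r)))
    (hηl : (Odd (orderOf ((Fintype.card F : ℕ) : ZMod s)) ∧
        ηl = orderOf ((Fintype.card F : ℕ) : ZMod s)) ∨
      (Even (orderOf ((Fintype.card F : ℕ) : ZMod s)) ∧
        2 * ηl = orderOf ((Fintype.card F : ℕ) : ZMod s)))
    (hkl : ηk ≤ ηl) (hn : n < ηk + ηl) :
    ∃ t, Odd t ∧ orderOf ((Fintype.card F : ℕ) : ZMod s) =
      orderOf ((Fintype.card F : ℕ) : ZMod r) * t := by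
  have nd : ∀ t : ℕ, t.Prime → t ≠ p → ¬ t ∣ Fintype.card F ∧ (t : F) ≠ 0 := fun t ht htp => by
    refine ⟨?_, fun e => htp ?_⟩
    · obtain ⟨j, hpp, hj⟩ := FiniteField.card F p
      rw [hj]
      exact fun hd => htp ((Nat.prime_dvd_prime_iff_eq ht hpp).1 (ht.dvd_of_dvd_pow hd))
    · exact ((Nat.prime_dvd_prime_iff_eq Fact.out ht).1 ((CharP.cast_eq_zero_iff F p t).1 e)).symm
  obtain ⟨hrq, hr0⟩ := nd r hr hrp
  obtain ⟨hsq, hs0⟩ := nd s hs hsp
  have hfix : ∀ x, b.1 x = x → a.1 x = x := fun x hx => by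
    by_contra hax
    have := eta_add_le hB hdim hr hs hrq hsq hs0 har hbs hb1 hc.symm hx hax hηk hηl
    omega
  have ha' : a.1 ^ r = 1 := congrArg Subtype.val har
  have hb' : b.1 ^ s = 1 := congrArg Subtype.val hbs
  have hab : a.1 * b.1 = b.1 * a.1 := congrArg Subtype.val hc.symm.eq
  set W := LinearMap.range (dev a.1)
  have hW0 : W ≠ ⊥ := fpf_range_ne_bot fun e => ha1 (Subtype.ext e)
  have hWa : ∀ x ∈ W, a.1 x = x → x = 0 := fun x hx h => fpf_range hr0 ha' hx h
  have hgr : (a.1 * b.1) ^ r = b.1 ^ r := by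
    rw [Commute.mul_pow hab, ha', one_mul]
  have hgs : (a.1 * b.1) ^ s = a.1 ^ s := by
    rw [Commute.mul_pow hab, hb', mul_one]
  have back : ∀ (e : V ≃ₗ[F] V) (m m' : ℕ), m.Prime → m'.Prime → m ≠ m' → e ^ m = 1 → ∀ x,
      (e ^ m') x = x → e x = x := by
    intro e m m' hm hm' hne he x hx
    obtain ⟨k, hk⟩ := Nat.exists_mul_mod_eq_one_of_coprime
      ((Nat.coprime_primes hm' hm).2 (Ne.symm hne)) hm.one_lt
    have h5 : (e ^ m') ^ k = e := by
      rw [← pow_mul, ← Nat.mod_add_div (m' * k) m, pow_add, pow_mul e m, he, one_pow, mul_one, hk.2,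
        pow_one]
    rw [← h5]
    exact fix_pow hx k
  obtain ⟨d, hd1, hdn, hd⟩ := exists_degree hB hdim hr hs hr2 hs2 hrs
    (g := a.1 * b.1) ((Isom B).mul_mem a.2 b.2)
    (by rw [Commute.mul_pow hab, pow_mul, ha', one_pow, one_mul, mul_comm r, pow_mul, hb', one_pow])
    (W := W) (fun x hx => range_dev_invariant rfl (range_dev_invariant (congrArg Subtype.val hc.eq) hx))
    hW0 (fun x hx h => hWa x hx (hfix x (back _ s r hs hr (Ne.symm hrs) hb' x (hgr ▸ h))))
    (fun x hx h => hWa x hx (back _ r s hr hs hrs ha' x (hgs ▸ h)))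
  rcases hd with hd | hd
  · have hk : orderOf ((Fintype.card F : ℕ) : ZMod r) ∣ d :=
      dvd_pow_sub_one_iff.1 ((dvd_mul_right r s).trans hd)
    obtain ⟨c, hc2⟩ := dvd_pow_sub_one_iff.1 ((dvd_mul_left s r).trans hd)
    rcases hηl with ⟨hlo, rfl⟩ | ⟨-, hl⟩
    · have hc1 : c = 1 := by
        rcases c with _ | _ | c
        · simp at hc2; omega
        · rfl
        · have : orderOf ((Fintype.card F : ℕ) : ZMod s) * 2 ≤ d := by
            rw [hc2]; exact Nat.mul_le_mul_left _ (by omega)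
          omega
      rw [hc1, mul_one] at hc2
      obtain ⟨t, ht⟩ := hk
      exact ⟨t, Odd.of_dvd_nat (hc2 ▸ hlo) (ht ▸ dvd_mul_left _ _), by rw [← hc2, ht]⟩
    · exfalso
      have : orderOf ((Fintype.card F : ℕ) : ZMod s) ≤ d :=
        Nat.le_of_dvd hd1 ⟨c, hc2⟩
      omega
  · obtain ⟨hk1, hk2⟩ := dvd_two_mul_not_dvd hr hr2 ((dvd_mul_right r s).trans hd)
    obtain ⟨hl1, hl2⟩ := dvd_two_mul_not_dvd hs hs2 ((dvd_mul_left s r).trans hd)
    obtain ⟨hkη, a', ha'o, hda⟩ := odd_ratio hηk hk1 hk2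
    obtain ⟨hlη, b', hb'o, hdb⟩ := odd_ratio hηl hl1 hl2
    have hb1' : b' = 1 := by
      rcases b' with _ | _ | c
      · simp at hb'o
      · rfl
      · exfalso
        have : ηl * 2 ≤ d := by rw [hdb]; exact Nat.mul_le_mul_left _ (by omega)
        omega
    refine ⟨a', ha'o, ?_⟩
    rw [hb1', mul_one] at hdb
    rw [hlη, hkη, ← hdb, hda]
    ring

end Cfsg.Agent.Lib.BCGraph
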