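import Cfsg.Agent.Lib.BCGraph.OddPair

/-! Elements of order `r s` in `Sp(2n,q)` when the orders of `q` have odd ratio. -/

set_option autoImplicit false
set_option linter.unusedSectionVars false

namespace Cfsg.Agent.Lib.BCGraph

open Module Matrix
open Cfsg.Agent.Lib.Forms Cfsg.Agent.Lib.Symplectic

variable {F : Type*} [Field F] [Fintype F]

section Field

variable (F) (K : Type*) [Field K] [Fintype K] [Algebra F K]

/-- The trace of the determinant. -/
noncomputable def trDet : (Fin 2 → K) →ₗ[F] (Fin 2 → K) →ₗ[F] F :=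
  LinearMap.mk₂ F (fun x y => Algebra.trace F K (x 0 * y 1 - x 1 * y 0))
    (fun x x' y => by
      show Algebra.trace F K _ = _
      rw [← map_add]; congr 1; simp; ring)
    (fun c x y => by
      show Algebra.trace F K _ = c • Algebra.trace F K _
      rw [← map_smul]; congr 1; simp [Algebra.smul_def]; ring)
    (fun x y y' => by
      show Algebra.trace F K _ = _
      rw [← map_add]; congr 1; simp; ring)
    (fun c x y => by
      show Algebra.trace F K _ = c • Algebra.trace F K _
      rw [← map_smul]; congr 1; simp [Algebra.smul_def]; ring)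

theorem isSymp_trDet : IsSympForm (trDet F K) where
  self x := by
    show Algebra.trace F K (x 0 * x 1 - x 1 * x 0) = 0
    rw [mul_comm, sub_self, map_zero]
  nondeg x hx := by
    have h0 : ∀ c, Algebra.trace F K (x 0 * c) = 0 := fun c => by
      have := hx ![0, c]; simpa [trDet] using this
    have h1 : ∀ c, Algebra.trace F K (x 1 * c) = 0 := fun c => by
      have := hx ![c, 0]; simpa [trDet] using this
    have hnd := (traceForm_nondegenerate F K)
    funext i
    fin_cases i
    · exact hnd.1 _ fun c => h0 c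
    · exact hnd.1 _ fun c => h1 c

/-- `SL2(K)` as isometries over `F`. -/
noncomputable def slIsom : Matrix.SpecialLinearGroup (Fin 2) K →* Isom (trDet F K) where
  toFun A := ⟨(SpecialLinearGroup.toLin' A).restrictScalars F, fun x y => by
    show Algebra.trace F K _ = Algebra.trace F K _
    congr 1
    have hd := Lib.Linear.sl2_det A
    simp [SpecialLinearGroup.toLin'_apply, mulVec, dotProduct, Fin.sum_univ_two]
    linear_combination (x 0 * y 1 - x 1 * y 0) * hd⟩
  map_one' := Subtype.ext (LinearEquiv.ext fun x => by simp)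
  map_mul' A B := Subtype.ext (LinearEquiv.ext fun x => by simp [LinearEquiv.mul_apply])

theorem slIsom_injective : Function.Injective (slIsom F K) := fun A B h =>
  Matrix.SpecialLinearGroup.ext _ _ fun i j => by
    have := congrFun (LinearEquiv.congr_fun (val_eq h :) (Pi.single j 1 : Fin 2 → K)) i
    simpa [slIsom, SpecialLinearGroup.toLin'_apply, mulVec_single] using this

end Field

theorem prPair_of_dvd {p : ℕ} [Fact p.Prime] [CharP F p] {n d : ℕ} (hd : 1 ≤ d) (hdn : d ≤ n)
    {r s : ℕ} (hr : r.Prime) (hs : s.Prime) (hrs : r ≠ s)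
    (h : r * s ∣ Fintype.card F ^ d - 1 ∨ r * s ∣ Fintype.card F ^ d + 1) :
    PrPair (Isom (stdForm n F)) r s := by
  classical
  haveI : NeZero d := ⟨by omega⟩
  let K := FiniteField.Extension F p d
  haveI : Fintype K := Fintype.ofFinite K
  have hK : Fintype.card K = Fintype.card F ^ d := by
    rw [← Nat.card_eq_fintype_card, ← Nat.card_eq_fintype_card, FiniteField.natCard_extension]
  have hKd : finrank F K = d := FiniteField.finrank_extension F p d
  obtain ⟨A, hA⟩ : ∃ A : Matrix.SpecialLinearGroup (Fin 2) K, r * s ∣ orderOf A := by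
    rcases h with h | h
    · obtain ⟨A, hA⟩ := Lib.Linear.exists_orderOf_eq_card_sub_one (F := K)
      exact ⟨A, by rw [hA, hK]; exact h⟩
    · obtain ⟨A, hA⟩ := Lib.Linear.exists_orderOf_eq_card_add_one (F := K)
      exact ⟨A, by rw [hA, hK]; exact h⟩
  have hT := isSymp_prodForm (isSymp_trDet F K) (isSympForm_stdForm (n - d) F)
  obtain ⟨e, he⟩ := exists_isometry hT (isSympForm_stdForm n F)
    (by rw [finrank_prod, finrank_std, finrank_std, Module.finrank_pi_fintype]
        simp [hKd]; omega)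
  let ι := ((isomCongr e he).toMonoidHom.comp (spGlue (trDet F K) (stdForm (n - d) F))).comp
    ((MonoidHom.inl _ _).comp (slIsom F K))
  have hinl : Function.Injective (MonoidHom.inl (Isom (trDet F K))
      (Isom (stdForm (n - d) F))) := fun a b h => congrArg Prod.fst h
  have hι : Function.Injective ι :=
    ((isomCongr e he).injective.comp (spGlue_injective _ _)).comp
      (hinl.comp (slIsom_injective F K))
  refine PrPair.map ι hι ?_
  obtain ⟨j, hj⟩ := hA
  have hpos : 0 < orderOf A := orderOf_pos A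
  have hj0 : j ≠ 0 := by rintro rfl; rw [mul_zero] at hj; omega
  have ho : orderOf (A ^ j) = r * s := by
    rw [orderOf_pow_of_dvd hj0 (hj ▸ dvd_mul_left _ _), hj,
      Nat.mul_div_cancel _ (Nat.pos_of_ne_zero hj0)]
  have hx : ∀ t, t ≠ 0 → t < r * s → (A ^ j) ^ t ≠ 1 := fun t ht1 ht2 =>
    pow_ne_one_of_lt_orderOf ht1 (ho ▸ ht2)
  have h0 : (A ^ j) ^ (r * s) = 1 := ho ▸ pow_orderOf_eq_one _
  refine ⟨(A ^ j) ^ r, (A ^ j) ^ s, by rw [← pow_mul, h0],
    hx r hr.ne_zero (lt_mul_of_one_lt_right hr.pos hs.one_lt),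
    by rw [← pow_mul, mul_comm, h0],
    hx s hs.ne_zero (lt_mul_of_one_lt_left hs.pos hr.one_lt), Commute.pow_pow (Commute.refl _) _ _⟩

/-- The condition is sufficient. -/
theorem dvd_of_ratio {r s t ηk ηl : ℕ} (hr : r.Prime) (hs : s.Prime) (hrs : r ≠ s) (ht : Odd t)
    (hlk : orderOf ((Fintype.card F : ℕ) : ZMod s) = orderOf ((Fintype.card F : ℕ) : ZMod r) * t)
    (hl0 : 0 < orderOf ((Fintype.card F : ℕ) : ZMod s))
    (hηk : (Odd (orderOf ((Fintype.card F : ℕ) : ZMod r)) ∧
        ηk = orderOf ((Fintype.card F : ℕ) : ZMod r)) ∨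
      (Even (orderOf ((Fintype.card F : ℕ) : ZMod r)) ∧
        2 * ηk = orderOf ((Fintype.card F : ℕ) : ZMod r)))
    (hηl : (Odd (orderOf ((Fintype.card F : ℕ) : ZMod s)) ∧
        ηl = orderOf ((Fintype.card F : ℕ) : ZMod s)) ∨
      (Even (orderOf ((Fintype.card F : ℕ) : ZMod s)) ∧
        2 * ηl = orderOf ((Fintype.card F : ℕ) : ZMod s))) :
    r * s ∣ Fintype.card F ^ ηl - 1 ∨ r * s ∣ Fintype.card F ^ ηl + 1 := by
  haveI := Fact.mk hr
  haveI := Fact.mk hs
  have hcop := (Nat.coprime_primes hr hs).2 hrs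
  rcases hηl with ⟨-, hl⟩ | ⟨hle, hl⟩
  · left
    refine hcop.mul_dvd_of_dvd_of_dvd ?_ ?_
    · rw [dvd_pow_sub_one_iff, hl, hlk]; exact dvd_mul_right _ _
    · rw [dvd_pow_sub_one_iff, hl]
  · right
    have hke : Even (orderOf ((Fintype.card F : ℕ) : ZMod r)) := by
      rw [hlk, Nat.even_mul] at hle
      exact hle.resolve_right (Nat.not_even_iff_odd.2 ht)
    have hk : 2 * ηk = orderOf ((Fintype.card F : ℕ) : ZMod r) := by
      rcases hηk with ⟨h, -⟩ | ⟨-, h⟩
      · exact absurd hke (Nat.not_even_iff_odd.2 h)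
      · exact h
    have key : ∀ (u : ℕ) (e : ℕ) [Fact u.Prime],
        2 * e = orderOf ((Fintype.card F : ℕ) : ZMod u) → 0 < e →
        ((Fintype.card F : ℕ) : ZMod u) ^ e = -1 := by
      intro u e _ he he0
      have h2 : (((Fintype.card F : ℕ) : ZMod u) ^ e) ^ 2 = 1 := by
        rw [← pow_mul, mul_comm, he, pow_orderOf_eq_one]
      exact (sq_eq_one_iff.1 h2).resolve_left fun h1 => by
        have := Nat.le_of_dvd he0 (orderOf_dvd_of_pow_eq_one h1)
        omega
    have hηkl : ηl = ηk * t := by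
      have : 2 * ηl = 2 * (ηk * t) := by rw [hl, hlk, ← hk, mul_assoc]
      omega
    have hηk0 : 0 < ηk := by
      rcases Nat.eq_zero_or_pos ηk with h | h
      · rw [h, zero_mul] at hηkl; omega
      · exact h
    refine hcop.mul_dvd_of_dvd_of_dvd ?_ ?_ <;>
      rw [← ZMod.natCast_eq_zero_iff, Nat.cast_add, Nat.cast_pow, Nat.cast_one]
    · rw [hηkl, pow_mul, key r ηk hk hηk0, ht.neg_one_pow, neg_add_cancel]
    · rw [key s ηl hl (by omega), neg_add_cancel]

/-- Adjacency of two odd semisimple primes. -/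
theorem odd_adj_iff {p : ℕ} [Fact p.Prime] [CharP F p] {n : ℕ} {r s : ℕ} (hr : r.Prime)
    (hs : s.Prime) (hr2 : r ≠ 2) (hs2 : s ≠ 2) (hrp : r ≠ p) (hsp : s ≠ p) (hrs : r ≠ s)
    (hsG : s ∣ Nat.card (Cfsg.PSp n F)) {ηk ηl : ℕ}
    (hηk : (Odd (orderOf ((Fintype.card F : ℕ) : ZMod r)) ∧
        ηk = orderOf ((Fintype.card F : ℕ) : ZMod r)) ∨
      (Even (orderOf ((Fintype.card F : ℕ) : ZMod r)) ∧
        2 * ηk = orderOf ((Fintype.card F : ℕ) : ZMod r)))
    (hηl : (Odd (orderOf ((Fintype.card F : ℕ) : ZMod s)) ∧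
        ηl = orderOf ((Fintype.card F : ℕ) : ZMod s)) ∨
      (Even (orderOf ((Fintype.card F : ℕ) : ZMod s)) ∧
        2 * ηl = orderOf ((Fintype.card F : ℕ) : ZMod s)))
    (hkl : ηk ≤ ηl) :
    r * s ∈ Set.range (orderOf : Cfsg.PSp n F → ℕ) ↔ (ηk + ηl ≤ n ∨
      ∃ t, Odd t ∧ orderOf ((Fintype.card F : ℕ) : ZMod s) =
        orderOf ((Fintype.card F : ℕ) : ZMod r) * t) := by
  rw [psp_prPair_iff (p := p) hr hs hrs hr2 (Or.inl hs2)]
  constructor
  · rintro ⟨b, a, hb, b1, ha, a1, hc⟩
    by_contra hcon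
    rw [not_or, not_le] at hcon
    exact hcon.2 (ratio_of_pair (isSympForm_stdForm n F) (finrank_std n F ▸ rfl) hr hs hr2 hs2 hrp
      hsp hrs hb b1 ha a1 hc hηk hηl hkl hcon.1)
  · have hk0 := eta_pos (orderOf_card_pos (F := F) hr hrp) hηk
    have hl0 := eta_pos (orderOf_card_pos (F := F) hs hsp) hηl
    rintro (hle | ⟨t, ht, hlk⟩)
    · refine prPair_glue (a := ηk) (b := n - ηk) (by omega) hr hs
        (dvd_card_isom_std hk0 le_rfl (dvd_pow_sub_one_iff.2 (dvd_two_mul_eta hηk)))
        (dvd_card_isom_std hl0 (by omega) (dvd_pow_sub_one_iff.2 (dvd_two_mul_eta hηl)))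
    · have hsq : ¬ s ∣ Fintype.card F := by
        obtain ⟨j, hpp, hj⟩ := FiniteField.card F p
        rw [hj]
        exact fun hd => hsp ((Nat.prime_dvd_prime_iff_eq hs hpp).1 (hs.dvd_of_dvd_pow hd))
      have hdiv : s ∣ Nat.card (Isom (stdForm n F)) := by
        rw [Nat.card_congr (pspEquiv n F).toEquiv] at hsG
        exact hsG.trans (Subgroup.card_quotient_dvd_card _)
      obtain ⟨i, hi1, hi2, hi3⟩ := exists_dvd_of_dvd_card_isom (isSympForm_stdForm n F)
        (finrank_std n F) hs hsq hdiv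
      have hln := (eta_le_of_dvd hηl hi1 (dvd_pow_sub_one_iff.1 hi3)).trans hi2
      exact prPair_of_dvd (p := p) hl0 hln hr hs hrs
        (dvd_of_ratio hr hs hrs ht hlk (orderOf_card_pos (F := F) hs hsp) hηk hηl)

end Cfsg.Agent.Lib.BCGraph
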