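import Cfsg.Agent.Lib.BCGraph.GLPair

/-! Adjacency in the prime graph of `PSL(n,q)`. -/

set_option autoImplicit false
set_option linter.unusedSectionVars false

namespace Cfsg.Agent.Lib.BCGraph

open Module Matrix
open Cfsg.Agent.Lib.Forms Cfsg.Agent.Lib.Symplectic

section Quot

variable {G : Type*} [Group G] {e : ℕ} (hZ : ∀ z ∈ Subgroup.center G, z ^ e = 1)
include hZ

theorem exists_lift_coprime {a : G ⧸ Subgroup.center G} {r : ℕ} (hr : r.Coprime e) (he : 1 ≤ e)
    (ha : a ^ r = 1) : ∃ g : G, g ^ r = 1 ∧ (QuotientGroup.mk g : G ⧸ Subgroup.center G) = a := by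
  obtain ⟨g, rfl⟩ := QuotientGroup.mk_surjective a
  have hz : g ^ r ∈ Subgroup.center G := (QuotientGroup.eq_one_iff _).1 ha
  rcases Nat.eq_or_lt_of_le he with rfl | he2
  · exact ⟨g, by simpa using hZ _ hz, rfl⟩
  obtain ⟨k, hk⟩ := Nat.exists_mul_mod_eq_one_of_coprime hr he2
  refine ⟨g * ((g ^ r) ^ k)⁻¹, ?_, ?_⟩
  · have hc : Commute g ((g ^ r) ^ k)⁻¹ := ((Commute.self_pow g r).pow_right k).inv_right
    rw [hc.mul_pow, inv_pow, ← pow_mul, mul_comm k r, ← Nat.mod_add_div (r * k) e, pow_add,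
      pow_mul (g ^ r) e, hZ _ hz, one_pow, mul_one, hk.2, pow_one, mul_inv_cancel]
  · rw [QuotientGroup.mk_mul, QuotientGroup.mk_inv, QuotientGroup.mk_pow,
      (QuotientGroup.eq_one_iff _).2 hz, one_pow, inv_one, mul_one]

theorem commute_of_mk_coprime {h y : G} {r : ℕ} (hr : r.Coprime e) (hy : y ^ r = 1)
    (hc : Commute (QuotientGroup.mk h : G ⧸ Subgroup.center G) (QuotientGroup.mk y)) :
    Commute h y := by
  set c := h * y * h⁻¹ * y⁻¹ with hcdef
  have hcZ : c ∈ Subgroup.center G := by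
    rw [← QuotientGroup.eq_one_iff, hcdef]
    simp only [QuotientGroup.mk_mul, QuotientGroup.mk_inv]
    rw [hc.eq]; group
  have e1 : h * y * h⁻¹ = c * y := by rw [hcdef]; group
  have hcy : Commute c y := (Subgroup.mem_center_iff.1 hcZ y).symm
  have e2 : c ^ r = 1 := by
    have := congrArg (fun g => g ^ r) e1
    simp only [conj_pow, hy, hcy.mul_pow, mul_one] at this
    simpa using this.symm
  have hc1 : c = 1 := by
    have := Nat.Coprime.gcd_eq_one hr
    have h5 := pow_gcd_eq_one.2 ⟨e2, hZ c hcZ⟩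
    rwa [this, pow_one] at h5
  rw [hc1, one_mul] at e1
  exact mul_inv_eq_iff_eq_mul.1 e1

theorem prPair_quotient_coprime_iff {r s : ℕ} (hr : r.Coprime e) (hs : s.Coprime e) (he : 1 ≤ e) :
    PrPair (G ⧸ Subgroup.center G) r s ↔ PrPair G r s := by
  constructor
  · rintro ⟨a, b, has, a1, hbr, b1, hc⟩
    obtain ⟨h, hhs, rfl⟩ := exists_lift_coprime hZ hs he has
    obtain ⟨y, hyr, rfl⟩ := exists_lift_coprime hZ hr he hbr
    exact ⟨h, y, hhs, fun e => a1 (by rw [e]; rfl), hyr, fun e => b1 (by rw [e]; rfl),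
      commute_of_mk_coprime hZ hr hyr hc⟩
  · rintro ⟨h, y, hhs, h1, hyr, y1, hc⟩
    have key : ∀ {g : G} {k : ℕ}, k.Coprime e → g ^ k = 1 → g ≠ 1 →
        (QuotientGroup.mk g : G ⧸ Subgroup.center G) ≠ 1 := by
      intro g k hk hg g1 e0
      have h5 := pow_gcd_eq_one.2 ⟨hg, hZ g ((QuotientGroup.eq_one_iff g).1 e0)⟩
      rw [Nat.Coprime.gcd_eq_one hk, pow_one] at h5
      exact g1 h5
    exact ⟨QuotientGroup.mk h, QuotientGroup.mk y, by rw [← QuotientGroup.mk_pow, hhs]; rfl,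
      key hs hhs h1, by rw [← QuotientGroup.mk_pow, hyr]; rfl, key hr hyr y1,
      hc.map (QuotientGroup.mk' _)⟩

end Quot

variable {F : Type*} [Field F] [Fintype F] {n : ℕ}

theorem center_pow_card_sub_one [NeZero n] :
    ∀ z ∈ Subgroup.center (Matrix.SpecialLinearGroup (Fin n) F), z ^ (Fintype.card F - 1) = 1 := by
  intro z hz
  obtain ⟨c, hc, hcz⟩ := Matrix.SpecialLinearGroup.mem_center_iff.1 hz
  have hc0 : c ≠ 0 := by
    rintro rfl
    rw [Fintype.card_fin, zero_pow (NeZero.ne n)] at hc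
    exact zero_ne_one hc
  refine Matrix.SpecialLinearGroup.ext _ _ fun i j => ?_
  rw [Matrix.SpecialLinearGroup.coe_pow, ← hcz, ← map_pow, FiniteField.pow_card_sub_one_eq_one c hc0, map_one]
  rfl

/-- `SL` into linear automorphisms. -/
noncomputable def slToGL (n : ℕ) (F : Type*) [Field F] :
    Matrix.SpecialLinearGroup (Fin n) F →* ((Fin n → F) ≃ₗ[F] (Fin n → F)) :=
  (GeneralLinearGroup.toLin.trans
    (LinearMap.GeneralLinearGroup.generalLinearEquiv F (Fin n → F))).toMonoidHom.comp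
      Matrix.SpecialLinearGroup.toGL

theorem slToGL_injective : Function.Injective (slToGL n F) :=
  (GeneralLinearGroup.toLin.trans
    (LinearMap.GeneralLinearGroup.generalLinearEquiv F (Fin n → F))).injective.comp fun a b h =>
      Subtype.ext (congrArg Units.val h)

theorem coprime_of_not_dvd {r : ℕ} (hr : r.Prime)
    (h : ¬ r ∣ Fintype.card F - 1) : r.Coprime (Fintype.card F - 1) :=
  (Nat.Prime.coprime_iff_not_dvd hr).2 h

/-- Away from the primes dividing `q - 1` the three groups have the same pairs. -/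
theorem psl_prPair_iff [NeZero n] {r s : ℕ} (hr : r.Prime) (hs : s.Prime) (hrs : r ≠ s)
    (h1r : ¬ r ∣ Fintype.card F - 1) (h1s : ¬ s ∣ Fintype.card F - 1) :
    r * s ∈ Set.range (orderOf : ProjectiveSpecialLinearGroup (Fin n) F → ℕ) ↔
      PrPair ((Fin n → F) ≃ₗ[F] (Fin n → F)) r s := by
  rw [mem_range_orderOf_iff hr hs hrs]
  have hq : 1 ≤ Fintype.card F - 1 := by
    have := Fintype.one_lt_card (α := F); omega
  refine (prPair_quotient_coprime_iff center_pow_card_sub_one (coprime_of_not_dvd hr h1r)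
    (coprime_of_not_dvd hs h1s) hq).trans ⟨PrPair.map _ slToGL_injective, ?_⟩
  rintro ⟨a, b, has, a1, hbr, b1, hc⟩
  let Φ := (GeneralLinearGroup.toLin.trans
    (LinearMap.GeneralLinearGroup.generalLinearEquiv F (Fin n → F))).symm
  have det1 : ∀ (g : (Fin n → F) ≃ₗ[F] (Fin n → F)) (k : ℕ), k.Coprime (Fintype.card F - 1) →
      g ^ k = 1 → (Φ g : Matrix (Fin n) (Fin n) F).det = 1 := by
    intro g k hk hg
    set d := (Φ g : Matrix (Fin n) (Fin n) F).det
    have hdk : d ^ k = 1 := by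
      rw [← Matrix.det_pow, ← Units.val_pow_eq_pow_val, ← map_pow, hg, map_one, Units.val_one, det_one]
    have hd0 : d ≠ 0 := fun e => by
      have hu : IsUnit d := (Matrix.isUnit_iff_isUnit_det _).1 (Units.isUnit _)
      exact hu.ne_zero e
    have h5 := pow_gcd_eq_one.2 ⟨hdk, FiniteField.pow_card_sub_one_eq_one d hd0⟩
    rwa [Nat.Coprime.gcd_eq_one hk, pow_one] at h5
  refine ⟨⟨_, det1 a s (coprime_of_not_dvd hs h1s) has⟩, ⟨_, det1 b r (coprime_of_not_dvd hr h1r) hbr⟩,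
    ?_, fun e => a1 (Φ.injective (Units.ext ?_)), ?_, fun e => b1 (Φ.injective (Units.ext ?_)), ?_⟩
  · refine Matrix.SpecialLinearGroup.ext _ _ fun i j => ?_
    show ((Φ a : Matrix (Fin n) (Fin n) F) ^ s) i j = _
    rw [← Units.val_pow_eq_pow_val, ← map_pow, has, map_one]; rfl
  · rw [map_one]; exact congrArg Subtype.val e
  · refine Matrix.SpecialLinearGroup.ext _ _ fun i j => ?_
    show ((Φ b : Matrix (Fin n) (Fin n) F) ^ r) i j = _
    rw [← Units.val_pow_eq_pow_val, ← map_pow, hbr, map_one]; rfl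
  · rw [map_one]; exact congrArg Subtype.val e
  · exact Subtype.ext (congrArg Units.val (hc.map Φ).eq :)

theorem not_dvd_sub_one {r : ℕ} (h : 2 ≤ orderOf ((Fintype.card F : ℕ) : ZMod r)) :
    ¬ r ∣ Fintype.card F - 1 := fun hd => by
  have h1 : r ∣ Fintype.card F ^ 1 - 1 := by rwa [pow_one]
  have := Nat.le_of_dvd Nat.one_pos (dvd_pow_sub_one_iff.1 h1)
  omega

theorem not_dvd_card {p : ℕ} [Fact p.Prime] [CharP F p] {t : ℕ} (ht : t.Prime) (htp : t ≠ p) :
    ¬ t ∣ Fintype.card F ∧ (t : F) ≠ 0 := by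
  refine ⟨?_, fun e => htp ?_⟩
  · obtain ⟨j, hpp, hj⟩ := FiniteField.card F p
    rw [hj]
    exact fun hd => htp ((Nat.prime_dvd_prime_iff_eq ht hpp).1 (ht.dvd_of_dvd_pow hd))
  · exact ((Nat.prime_dvd_prime_iff_eq Fact.out ht).1 ((CharP.cast_eq_zero_iff F p t).1 e)).symm

theorem not_char_dvd_sub_one {p : ℕ} [Fact p.Prime] [CharP F p] : ¬ p ∣ Fintype.card F - 1 := by
  intro hd
  obtain ⟨j, hpp, hj⟩ := FiniteField.card F p
  have hpq : p ∣ Fintype.card F := hj ▸ dvd_pow_self p j.ne_zero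
  have h1 := Nat.dvd_sub hpq hd
  have h2 := Fintype.one_lt_card (α := F)
  rw [show Fintype.card F - (Fintype.card F - 1) = 1 by omega] at h1
  exact (Fact.out : p.Prime).not_dvd_one h1

theorem psl_odd_adj_iff {p : ℕ} [Fact p.Prime] [CharP F p] [NeZero n] {r s : ℕ} (hr : r.Prime)
    (hs : s.Prime) (hrp : r ≠ p) (hsp : s ≠ p) (hrs : r ≠ s)
    (hsG : s ∣ Nat.card (ProjectiveSpecialLinearGroup (Fin n) F))
    (h2k : 2 ≤ orderOf ((Fintype.card F : ℕ) : ZMod r))
    (hkl : orderOf ((Fintype.card F : ℕ) : ZMod r) ≤ orderOf ((Fintype.card F : ℕ) : ZMod s)) :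
    r * s ∈ Set.range (orderOf : ProjectiveSpecialLinearGroup (Fin n) F → ℕ) ↔
      (orderOf ((Fintype.card F : ℕ) : ZMod r) + orderOf ((Fintype.card F : ℕ) : ZMod s) ≤ n ∨
        orderOf ((Fintype.card F : ℕ) : ZMod r) ∣ orderOf ((Fintype.card F : ℕ) : ZMod s)) := by
  rw [psl_prPair_iff hr hs hrs (not_dvd_sub_one h2k) (not_dvd_sub_one (h2k.trans hkl))]
  obtain ⟨hrq, hr0⟩ := not_dvd_card (F := F) (p := p) hr hrp
  obtain ⟨hsq, hs0⟩ := not_dvd_card (F := F) (p := p) hs hsp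
  constructor
  · rintro ⟨b, a, hb, b1, ha, a1, hc⟩
    by_contra hcon
    rw [not_or, not_le] at hcon
    exact hcon.2 (gl_ratio_of_pair (n := n) (finrank_fin_fun F) hr hs hrs hrq hsq hr0 hs0 hb b1 ha a1
      hc.symm hkl hcon.1)
  · rintro (hle | hdvd)
    · exact prPair_glue_gl (a := orderOf ((Fintype.card F : ℕ) : ZMod r))
        (b := n - orderOf ((Fintype.card F : ℕ) : ZMod r)) (by omega) hr hs
        (dvd_card_gl (by omega) le_rfl (dvd_pow_sub_one_iff.2 dvd_rfl))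
        (dvd_card_gl (by omega) (by omega) (dvd_pow_sub_one_iff.2 dvd_rfl))
    · have hdiv : s ∣ Nat.card ((Fin n → F) ≃ₗ[F] (Fin n → F)) :=
        (hsG.trans (Subgroup.card_quotient_dvd_card _)).trans
          (Subgroup.card_dvd_of_injective (slToGL n F) slToGL_injective)
      obtain ⟨i, hi1, hi2, hi3⟩ := exists_dvd_of_dvd_card_GL hs hsq hdiv
      rw [finrank_fin_fun] at hi2
      exact prPair_gl_of_dvd (p := p) (by omega)
        ((Nat.le_of_dvd hi1 (dvd_pow_sub_one_iff.1 hi3)).trans hi2) hr hs hrs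
        (((Nat.coprime_primes hr hs).2 hrs).mul_dvd_of_dvd_of_dvd (dvd_pow_sub_one_iff.2 hdvd)
          (dvd_pow_sub_one_iff.2 dvd_rfl))

end Cfsg.Agent.Lib.BCGraph
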