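import Cfsg.Agent.Lib.BCGraph.PSLAdj

/-! Adjacency with the characteristic in the prime graph of `PSL(n,q)`. -/

set_option autoImplicit false
set_option linter.unusedSectionVars false

namespace Cfsg.Agent.Lib.BCGraph

open Module Matrix
open Cfsg.Agent.Lib.Forms Cfsg.Agent.Lib.Symplectic

variable {F : Type*} [Field F] [Fintype F] {n : ℕ} {p : ℕ} [Fact p.Prime] [CharP F p]

theorem char_coprime : p.Coprime (Fintype.card F - 1) :=
  coprime_of_not_dvd (Fact.out : p.Prime) (not_char_dvd_sub_one (F := F))

/-- Lifts of a commuting pair of orders `r` and `p`. -/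
theorem exists_char_lift [NeZero n] {r : ℕ}
    (h : PrPair (ProjectiveSpecialLinearGroup (Fin n) F) r p) :
    ∃ x y : Matrix.SpecialLinearGroup (Fin n) F,
      x ^ r ∈ Subgroup.center (Matrix.SpecialLinearGroup (Fin n) F) ∧
      x ∉ Subgroup.center (Matrix.SpecialLinearGroup (Fin n) F) ∧
      y ^ p = 1 ∧ y ≠ 1 ∧ Commute x y := by
  obtain ⟨b, a, hb, b1, ha, a1, hc⟩ := h
  have he : 1 ≤ Fintype.card F - 1 := by have := Fintype.one_lt_card (α := F); omega
  obtain ⟨y, hy, rfl⟩ := exists_lift_coprime (center_pow_card_sub_one (F := F) (n := n))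
    (char_coprime (F := F) (p := p)) he hb
  obtain ⟨x, rfl⟩ := QuotientGroup.mk_surjective a
  exact ⟨x, y, (QuotientGroup.eq_one_iff _).1 ha, fun e => a1 ((QuotientGroup.eq_one_iff _).2 e), hy,
    fun e => b1 (by rw [e]; rfl),
    commute_of_mk_coprime (center_pow_card_sub_one (F := F) (n := n)) (char_coprime (F := F) (p := p))
      hy hc.symm⟩

/-- In dimension two only the scalars have a central power prime to `p` and commute with a
unipotent element. -/
theorem psl_two_not_adj {r : ℕ} (hr : r.Prime) (hrp : r ≠ p) :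
    r * p ∉ Set.range (orderOf : ProjectiveSpecialLinearGroup (Fin 2) F → ℕ) := by
  rw [mem_range_orderOf_iff hr (Fact.out : p.Prime) hrp]
  intro h
  obtain ⟨x, y, hxr, hx, hy, y1, hc⟩ := exists_char_lift h
  have hy' : Lib.Linear.NonScalar y := by
    intro c hyc
    apply y1
    have hp : c ^ p = 1 := by
      have e := congrArg (fun z : Matrix.SpecialLinearGroup (Fin 2) F =>
        (z : Matrix (Fin 2) (Fin 2) F)) hy
      rw [Matrix.SpecialLinearGroup.coe_pow, hyc, smul_pow, one_pow] at e
      simpa using congrFun (congrFun e 0) 0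
    have hc1 : c = 1 := by
      have e := sub_pow_char c (1 : F) (p := p)
      rw [hp, one_pow, sub_self] at e
      exact sub_eq_zero.1 (eq_zero_of_pow_eq_zero e)
    exact Subtype.ext (by rw [hyc, hc1, one_smul]; rfl)
  obtain ⟨a, b, hab⟩ := Lib.Linear.exists_eq_add_smul_of_commute hy' hc.eq
  have hxp : x ^ p ∈ Subgroup.center (Matrix.SpecialLinearGroup (Fin 2) F) := by
    rw [Subgroup.mem_center_iff]
    intro g
    refine Subtype.ext ?_
    have e : ((x ^ p : Matrix.SpecialLinearGroup (Fin 2) F) : Matrix (Fin 2) (Fin 2) F) =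
        (a ^ p + b ^ p) • (1 : Matrix (Fin 2) (Fin 2) F) := by
      rw [Matrix.SpecialLinearGroup.coe_pow, hab,
        add_pow_char_of_commute (p := p) (((Commute.one_left (y : Matrix (Fin 2) (Fin 2) F)).smul_left a).smul_right b),
        smul_pow, smul_pow, one_pow, ← Matrix.SpecialLinearGroup.coe_pow, hy, add_smul]
      rfl
    rw [Matrix.SpecialLinearGroup.coe_mul, Matrix.SpecialLinearGroup.coe_mul, e]
    simp
  apply hx
  have hb := Nat.gcd_eq_gcd_ab r p
  rw [Nat.Coprime.gcd_eq_one ((Nat.coprime_primes hr Fact.out).2 hrp)] at hb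
  rw [← zpow_one x, ← Nat.cast_one, hb, _root_.zpow_add, _root_.zpow_mul, _root_.zpow_mul, zpow_natCast, zpow_natCast]
  exact mul_mem (zpow_mem hxr _) (zpow_mem hxp _)

variable {V : Type*} [AddCommGroup V] [Module F V] [FiniteDimensional F V]

theorem det_eq_one_of_fpf {h : V ≃ₗ[F] V} (hr0 : ((3 : ℕ) : F) ≠ 0) (hh : h ^ 3 = 1)
    (hdet : LinearMap.det (h : V →ₗ[F] V) = 1) {b : F}
    (hb : ∀ x ∈ LinearMap.range (dev h), h x = b • x) :
    b ^ finrank F (LinearMap.range (dev h)) = 1 := by
  have hKW : IsCompl (fixSpace h) (LinearMap.range (dev h)) := isCompl_fix_range hr0 hh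
  let e := Submodule.prodEquivOfIsCompl _ _ hKW
  have he : (h : V →ₗ[F] V) = (e : _ →ₗ[F] V) ∘ₗ
      ((LinearMap.id (R := F) (M := fixSpace h)).prodMap
        (b • LinearMap.id (R := F) (M := LinearMap.range (dev h)))) ∘ₗ (e.symm : V →ₗ[F] _) := by
    refine LinearMap.ext fun x => ?_
    obtain ⟨⟨u, w⟩, rfl⟩ := e.surjective x
    simp [e, Submodule.coe_prodEquivOfIsCompl', map_add, mem_fixSpace.1 u.2, hb _ w.2]
  rw [he, LinearMap.det_conj, LinearMap.det_prodMap, LinearMap.det_id, LinearMap.det_smul,
    LinearMap.det_id, one_mul, mul_one] at hdet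
  exact hdet

theorem pow_three_of_not_nine {a : F} (h9 : a ^ 9 = 1) (hn9 : ¬ 9 ∣ Fintype.card F - 1) :
    a ^ 3 = 1 := by
  have ha : a ≠ 0 := fun e => by simp [e] at h9
  have h5 := pow_gcd_eq_one.2 ⟨h9, FiniteField.pow_card_sub_one_eq_one a ha⟩
  have hg1 := Nat.gcd_dvd_left 9 (Fintype.card F - 1)
  have hg2 := Nat.gcd_dvd_right 9 (Fintype.card F - 1)
  have hle := Nat.le_of_dvd (by norm_num) hg1
  generalize Nat.gcd 9 (Fintype.card F - 1) = g at h5 hg1 hg2 hle
  interval_cases g <;> first | omega | (norm_num at hg1 ⊢) | skip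
  · rw [pow_one] at h5; rw [h5, one_pow]

/-- The exceptional non-adjacency in dimension three. -/
theorem scalar_of_cube (hV : finrank F V = 3) (hp3 : p ≠ 3) (hn9 : ¬ 9 ∣ Fintype.card F - 1)
    {x y : V ≃ₗ[F] V} {c : F} (hxc : ∀ v, (x ^ 3) v = c • v)
    (hdet : LinearMap.det (x : V →ₗ[F] V) = 1) (hy : y ^ p = 1) (y1 : y ≠ 1) (hc : Commute x y) :
    ∃ a : F, ∀ v, x v = a • v := by
  classical
  obtain ⟨-, h30⟩ := not_dvd_card (F := F) (p := p) (t := 3) Nat.prime_three hp3.symm
  haveI : Nontrivial V := Module.nontrivial_of_finrank_pos (R := F) (by omega)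
  let N : Module.End F V := dev y
  have hN : N ^ p = 0 := by
    haveI : CharP (Module.End F V) p :=
      charP_of_injective_algebraMap (algebraMap F (Module.End F V)).injective p
    have e := LinearOrders.sub_one_pow_char_pow (Fact.out : p.Prime)
      (CharP.cast_eq_zero (Module.End F V) p) (y.toLinearMap : Module.End F V) 1
    rw [pow_one] at e
    have e2 : (y.toLinearMap : Module.End F V) ^ p = 1 := LinearMap.ext fun v => by
      rw [pow_apply_toLinearMap, hy]; rfl
    rw [e2] at e
    exact (add_eq_right (M := Module.End F V)).1 e.symm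
  have hNx : ∀ v, N (x v) = x (N v) := fun v => by
    show y (x v) - x v = x (y v - v)
    rw [map_sub, commute_apply hc.symm]
  have hN0 : N ≠ 0 := fun e => y1 (LinearEquiv.ext fun v => sub_eq_zero.1 (LinearMap.congr_fun e v))
  have hkerN : ∀ v, N v ≠ 0 → LinearMap.ker N ≠ ⊥ := by
    intro v _ e
    have hinj : Function.Injective N := LinearMap.ker_eq_bot.1 e
    have hpow : ∀ (i : ℕ) (u : V), (N ^ i) u = 0 → u = 0 := by
      intro i
      induction i with
      | zero => intro u hu; exact hu
      | succ i ih =>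
        intro u hu
        rw [pow_succ', Module.End.mul_apply] at hu
        exact ih u (hinj (hu.trans (map_zero N).symm))
    exact hN0 (LinearMap.ext fun u => by rw [hpow p u (by rw [hN]; rfl)]; simp)
  have hker : LinearMap.ker N ≠ ⊥ := by
    obtain ⟨v, hv⟩ : ∃ v, N v ≠ 0 := by
      by_contra e
      simp only [not_exists, not_not] at e
      exact hN0 (LinearMap.ext e)
    exact hkerN v hv
  -- an eigenvalue
  obtain ⟨a, w, hw0, hwa⟩ : ∃ (a : F) (w : V), w ≠ 0 ∧ x w = a • w := by
    have line : ∀ S : Submodule F V, finrank F S = 1 → (∀ v ∈ S, x v ∈ S) →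
        ∃ (a : F) (w : V), w ≠ 0 ∧ x w = a • w := by
      intro S hS hinv
      obtain ⟨w, hw, hspan⟩ := finrank_eq_one_iff'.1 hS
      obtain ⟨a, ha⟩ := hspan ⟨x w, hinv _ w.2⟩
      exact ⟨a, w, fun e => hw (Subtype.ext e), (congrArg Subtype.val ha).symm⟩
    have h1 : 1 ≤ finrank F (LinearMap.ker N) := by
      haveI := Submodule.nontrivial_iff_ne_bot.2 hker
      exact finrank_pos
    have h2 : 1 ≤ finrank F (LinearMap.range N) := by
      haveI := Submodule.nontrivial_iff_ne_bot.2 (fun e => hN0 (LinearMap.range_eq_bot.1 e))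
      exact finrank_pos
    have h3 := LinearMap.finrank_range_add_finrank_ker N
    rcases (show finrank F (LinearMap.ker N) = 1 ∨ finrank F (LinearMap.range N) = 1 by omega) with
      h | h
    · exact line _ h fun v hv => show N (x v) = 0 by rw [hNx, show N v = 0 from hv, map_zero]
    · refine line _ h ?_
      rintro _ ⟨v, rfl⟩
      exact ⟨x v, hNx v⟩
  have ha0 : a ≠ 0 := fun e => hw0 (x.injective (by rw [hwa, e, zero_smul, map_zero]))
  have hac : a ^ 3 = c := by
    have e := hxc w
    rw [pow_succ, pow_two, LinearEquiv.mul_apply, LinearEquiv.mul_apply, hwa, map_smul, hwa,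
      map_smul, map_smul, hwa, smul_smul, smul_smul] at e
    have := smul_left_injective F hw0 e
    rw [← this]; ring
  have hc3 : c ^ 3 = 1 := by
    have e : ((x ^ 3 : V ≃ₗ[F] V) : V →ₗ[F] V) = c • LinearMap.id := LinearMap.ext hxc
    have e2 : ((x ^ 3 : V ≃ₗ[F] V) : V →ₗ[F] V) = (x : V →ₗ[F] V) * (x : V →ₗ[F] V) * (x : V →ₗ[F] V) := by
      rw [pow_succ, pow_two]; rfl
    have := congrArg LinearMap.det e
    rw [e2, map_mul, map_mul, hdet, LinearMap.det_smul, LinearMap.det_id, hV] at this
    simpa using this.symm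
  have ha3 : a ^ 3 = 1 := pow_three_of_not_nine (by
    rw [show a ^ 9 = (a ^ 3) ^ 3 by ring, hac, hc3]) hn9
  -- normalise the eigenvalue
  let h : V ≃ₗ[F] V := x.trans (LinearEquiv.smulOfUnit (Units.mk0 a ha0)⁻¹)
  have hh : ∀ v, h v = a⁻¹ • x v := fun v => by simp [h, LinearEquiv.smulOfUnit, Units.smul_def]
  have hh3 : h ^ 3 = 1 := LinearEquiv.ext fun v => by
    have e := hxc v
    rw [pow_succ, pow_two, LinearEquiv.mul_apply, LinearEquiv.mul_apply] at e
    rw [pow_succ, pow_two, LinearEquiv.mul_apply, LinearEquiv.mul_apply, hh, hh, hh, map_smul,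
      map_smul, map_smul, e, smul_smul, smul_smul, smul_smul, ← hac]
    show _ = v
    rw [show a⁻¹ * a⁻¹ * a⁻¹ * a ^ 3 = 1 by field_simp, one_smul]
  have hdeth : LinearMap.det (h : V →ₗ[F] V) = 1 := by
    have e : (h : V →ₗ[F] V) = a⁻¹ • (x : V →ₗ[F] V) := LinearMap.ext hh
    rw [e, LinearMap.det_smul, hdet, hV, inv_pow, ha3, inv_one, mul_one]
  by_contra hcon
  have h1 : h ≠ 1 := fun e => hcon ⟨a, fun v => by
    have := (hh v).symm.trans (LinearEquiv.congr_fun e v)
    rw [inv_smul_eq_iff₀ ha0] at this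
    exact this⟩
  have hchy : Commute h y := LinearEquiv.ext fun v => by
    rw [LinearEquiv.mul_apply, LinearEquiv.mul_apply, hh, hh, map_smul, commute_apply hc]
  have hKW : IsCompl (fixSpace h) (LinearMap.range (dev h)) := isCompl_fix_range h30 hh3
  have hsum := Submodule.finrank_add_eq_of_isCompl hKW
  have hK1 : 1 ≤ finrank F (fixSpace h) := by
    haveI := Submodule.nontrivial_iff_ne_bot.2 fun e : fixSpace h = ⊥ => hw0
      ((Submodule.eq_bot_iff _).1 e w (mem_fixSpace.2 (by
        rw [hh, hwa, smul_smul, inv_mul_cancel₀ ha0, one_smul])))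
    exact finrank_pos
  set W := LinearMap.range (dev h) with hWdef
  have hWh : ∀ v ∈ W, h v ∈ W := fun v hv => range_dev_invariant rfl hv
  have hWf : ∀ v ∈ W, h v = v → v = 0 := fun v hv e => fpf_range h30 hh3 hv e
  have hW0 : W ≠ ⊥ := fpf_range_ne_bot h1
  have hW1 : 1 ≤ finrank F W := by
    haveI := Submodule.nontrivial_iff_ne_bot.2 hW0
    exact finrank_pos
  -- `h` is a scalar on `W`
  obtain ⟨b, hb⟩ : ∃ b : F, ∀ v ∈ W, h v = b • v := by
    rcases (show finrank F W = 1 ∨ (finrank F W = 2 ∧ finrank F (fixSpace h) = 1) by omega) with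
      hd | ⟨hd, hdK⟩
    · obtain ⟨w', -, hspan⟩ := finrank_eq_one_iff'.1 hd
      obtain ⟨b, hb⟩ := hspan ⟨h w', hWh _ w'.2⟩
      refine ⟨b, fun v hv => ?_⟩
      obtain ⟨t, ht⟩ := hspan ⟨v, hv⟩
      have ht' : v = t • (w' : V) := (congrArg Subtype.val ht).symm
      have hbw : h (w' : V) = b • (w' : V) := (congrArg Subtype.val hb).symm
      rw [ht', map_smul, hbw, smul_comm]
    · -- `y` is trivial on the fixed line, so non-trivial on `W`
      have hNh : ∀ v, N (h v) = h (N v) := fun v => by
        rw [hh, hh, map_smul, hNx]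
      have hNW : ∀ v ∈ W, N v ∈ W := fun v hv => W.sub_mem (range_dev_invariant hchy.symm hv) hv
      have hNK : ∀ v ∈ fixSpace h, N v = 0 := by
        intro v hv
        by_contra hNv
        have hv0 : v ≠ 0 := fun e => hNv (by rw [e, map_zero])
        have hspan : fixSpace h ≤ F ∙ v := le_of_eq (Submodule.eq_of_le_of_finrank_le
          ((Submodule.span_singleton_le_iff_mem _ _).2 hv)
          (by rw [finrank_span_singleton hv0]; omega)).symm
        have hNvK : N v ∈ fixSpace h := mem_fixSpace.2 (by rw [← hNh, mem_fixSpace.1 hv])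
        obtain ⟨t, ht⟩ := Submodule.mem_span_singleton.1 (hspan hNvK)
        have hpow : ∀ i, (N ^ i) v = t ^ i • v := by
          intro i
          induction i with
          | zero => simp
          | succ i ih =>
            rw [pow_succ', Module.End.mul_apply, ih, map_smul, ← ht, smul_smul, pow_succ]
        have := hpow p
        rw [hN, LinearMap.zero_apply] at this
        have ht0 : t = 0 := eq_zero_of_pow_eq_zero ((smul_eq_zero.1 this.symm).resolve_right hv0)
        exact hNv (by rw [← ht, ht0, zero_smul])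
      let M : Module.End F W := N.restrict hNW
      have hM : M ≠ 0 := fun e => y1 (ext_isCompl hKW (fun v hv => sub_eq_zero.1 (hNK v hv))
        fun v hv => sub_eq_zero.1 (congrArg Subtype.val (LinearMap.congr_fun e ⟨v, hv⟩) :))
      have hkerM : LinearMap.ker M ≠ ⊥ := by
        intro e
        have hinj : Function.Injective M := LinearMap.ker_eq_bot.1 e
        have hMp : M ^ p = 0 := LinearMap.ext fun v => Subtype.ext (by
          have : ∀ i, (((M ^ i) v : W) : V) = (N ^ i) (v : V) := by
            intro i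
            induction i with
            | zero => rfl
            | succ i ih =>
              rw [pow_succ', pow_succ', Module.End.mul_apply, Module.End.mul_apply, ← ih]; rfl
          rw [this, hN]; rfl)
        have hpow : ∀ (i : ℕ) (u : W), (M ^ i) u = 0 → u = 0 := by
          intro i
          induction i with
          | zero => intro u hu; exact hu
          | succ i ih =>
            intro u hu
            rw [pow_succ', Module.End.mul_apply] at hu
            exact ih u (hinj (hu.trans (map_zero M).symm))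
        exact hM (LinearMap.ext fun u => by rw [hpow p u (by rw [hMp]; rfl)]; simp)
      have hsumM := LinearMap.finrank_range_add_finrank_ker M
      have k1 : finrank F (LinearMap.ker M) = 1 := by
        haveI := Submodule.nontrivial_iff_ne_bot.2 hkerM
        haveI := Submodule.nontrivial_iff_ne_bot.2 (fun e => hM (LinearMap.range_eq_bot.1 e))
        have : 0 < finrank F (LinearMap.ker M) := finrank_pos
        have : 0 < finrank F (LinearMap.range M) := finrank_pos
        omega
      obtain ⟨u, hu0, hspan⟩ := finrank_eq_one_iff'.1 k1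
      let H : Module.End F W := h.toLinearMap.restrict hWh
      have hHM : ∀ v, M (H v) = H (M v) := fun v => Subtype.ext (hNh v)
      obtain ⟨b, hb⟩ := hspan ⟨H u, show M (H u) = 0 by
        rw [hHM, show M (u : W) = 0 from u.2, map_zero]⟩
      have hbu : H u = b • (u : W) := (congrArg Subtype.val hb).symm
      -- `H - b` maps everything into the line
      have hline : ∀ v, M (H v - b • v) = 0 := by
        intro v
        have hMv : M v ∈ LinearMap.ker M := by
          have hle : LinearMap.range M ≤ LinearMap.ker M := by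
            intro t ht
            by_contra hnot
            have htop : LinearMap.ker M ⊔ LinearMap.range M = ⊤ := Submodule.eq_top_of_finrank_eq (by
              have hlt : LinearMap.ker M < LinearMap.ker M ⊔ LinearMap.range M :=
                lt_of_le_of_ne le_sup_left fun e => hnot (e ▸ Submodule.mem_sup_right ht)
              have := Submodule.finrank_lt_finrank_of_lt hlt
              have := (LinearMap.ker M ⊔ LinearMap.range M).finrank_le
              omega)
            have hrr : LinearMap.range M ≤ LinearMap.range (M * M) := by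
              rintro _ ⟨z, rfl⟩
              have hz : z ∈ LinearMap.ker M ⊔ LinearMap.range M := htop ▸ Submodule.mem_top
              obtain ⟨k', hk', r', ⟨z', rfl⟩, rfl⟩ := Submodule.mem_sup.1 hz
              exact ⟨z', by rw [map_add, show M k' = 0 from hk', zero_add]; rfl⟩
            have hall : ∀ i, 1 ≤ i → LinearMap.range M ≤ LinearMap.range (M ^ i) := by
              intro i hi
              induction i with
              | zero => omega
              | succ i ih =>
                rcases Nat.eq_zero_or_pos i with rfl | hi'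
                · rw [zero_add, pow_one]
                · rintro z hz
                  obtain ⟨z', hz'⟩ := hrr hz
                  obtain ⟨z'', hz''⟩ := ih hi' ⟨z', rfl⟩
                  exact ⟨z'', by rw [pow_succ', Module.End.mul_apply, hz'']; exact hz'⟩
            obtain ⟨z, hz⟩ := hall p (Fact.out : p.Prime).one_le ht
            have hMp : (M ^ p) z = 0 := Subtype.ext (by
              have : ∀ i, (((M ^ i) z : W) : V) = (N ^ i) (z : V) := by
                intro i
                induction i with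
                | zero => rfl
                | succ i ih =>
                  rw [pow_succ', pow_succ', Module.End.mul_apply, Module.End.mul_apply, ← ih]; rfl
              rw [this, hN]; rfl)
            rw [hMp] at hz
            exact hnot (hz ▸ Submodule.zero_mem _)
          exact hle ⟨v, rfl⟩
        obtain ⟨t, ht⟩ := hspan ⟨M v, hMv⟩
        have ht' : M v = t • (u : W) := (congrArg Subtype.val ht).symm
        rw [map_sub, map_smul, hHM, ht', map_smul, hbu, smul_comm, sub_self]
      refine ⟨b, fun v hv => ?_⟩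
      have hH3 : ∀ v : W, H (H (H v)) = v := fun v => Subtype.ext (by
        show h (h (h (v : V))) = v
        rw [← LinearEquiv.mul_apply, ← LinearEquiv.mul_apply, ← pow_two, ← pow_succ, hh3]; rfl)
      set v' : W := ⟨v, hv⟩
      obtain ⟨t, ht⟩ := hspan ⟨H v' - b • v', hline v'⟩
      have ht'' : t • (u : W) = H v' - b • v' := congrArg Subtype.val ht
      have ht' : H v' = b • v' + t • (u : W) := by rw [ht'']; abel
      have hb3 : b ^ 3 = 1 := by
        have e := hH3 (u : W)
        rw [hbu, map_smul, hbu, map_smul, map_smul, hbu, smul_smul, smul_smul] at e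
        have := smul_left_injective F (fun e' : (u : W) = 0 => hu0 (Subtype.ext e'))
          (e.trans (one_smul F _).symm)
        rw [← this]; ring
      have e := hH3 v'
      rw [ht', map_add, map_smul, map_smul, hbu, ht', smul_add, smul_smul, smul_smul, smul_smul,
        add_assoc, ← add_smul, map_add, map_smul, map_smul, hbu, ht', smul_add, smul_smul, smul_smul,
        smul_smul, add_assoc, ← add_smul, show b * b * b = 1 by rw [← hb3]; ring, one_smul,
        add_eq_left] at e
      have ht0 : t = 0 := by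
        rcases smul_eq_zero.1 e with e0 | e0
        · have : ((3 : ℕ) : F) * (b * b) * t = 0 := by
            rw [← e0]; push_cast; ring
          have hb0 : b ≠ 0 := fun e' => by rw [e'] at hb3; simp at hb3
          exact (mul_eq_zero.1 this).resolve_left (mul_ne_zero h30 (mul_ne_zero hb0 hb0))
        · exact absurd e0 fun e' => hu0 (Subtype.ext e')
      rw [ht0, zero_smul, add_zero] at ht'
      exact congrArg Subtype.val ht'
  have hbd := det_eq_one_of_fpf h30 hh3 hdeth hb
  obtain ⟨w', hw', hw'0⟩ := (Submodule.ne_bot_iff W).1 hW0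
  have hb3 : b ^ 3 = 1 := by
    have e := LinearEquiv.congr_fun hh3 w'
    rw [pow_succ, pow_two, LinearEquiv.mul_apply, LinearEquiv.mul_apply, hb _ hw', map_smul,
      hb _ hw', map_smul, map_smul, hb _ hw', smul_smul, smul_smul] at e
    have := smul_left_injective F hw'0 (e.trans (one_smul F w').symm)
    rw [← this]; ring
  have hb1 : b = 1 := by
    rcases (show finrank F W = 1 ∨ finrank F W = 2 by omega) with hd | hd <;> rw [hd] at hbd
    · simpa using hbd
    · linear_combination hb3 - b * hbd
  exact hw'0 (hWf w' hw' (by rw [hb _ hw', hb1, one_smul]))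

theorem exists_transv_pair (hn : 3 ≤ n) {r : ℕ} {a : F} (ha0 : a ≠ 0)
    (hpow : ∃ c : F, a ^ r = c ∧ (a ^ 2)⁻¹ ^ r = c ∧ (4 ≤ n → c = 1))
    (hne : (a ^ 2)⁻¹ ≠ a ∨ (4 ≤ n ∧ a ≠ 1)) :
    PrPair (ProjectiveSpecialLinearGroup (Fin n) F) r p := by
  obtain ⟨c, hc1, hc2, hc3⟩ := hpow
  let i0 : Fin n := ⟨0, by omega⟩
  let i1 : Fin n := ⟨1, by omega⟩
  let i2 : Fin n := ⟨2, by omega⟩
  have h01 : i0 ≠ i1 := fun e => absurd (congrArg Fin.val e) (by simp [i0, i1])
  let d : Fin n → F := fun i => if i.1 ≤ 1 then a else if i.1 = 2 then (a ^ 2)⁻¹ else 1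
  have hprod : ∏ i, d i = 1 := by
    rw [← Finset.prod_subset (Finset.subset_univ ({i0, i1, i2} : Finset (Fin n))) (fun i _ hi => by
      simp only [Finset.mem_insert, Finset.mem_singleton, not_or, Fin.ext_iff, i0, i1, i2] at hi
      simp only [d]
      rw [if_neg (by omega), if_neg (by omega)])]
    rw [Finset.prod_insert (by simp [Fin.ext_iff, i0, i1, i2]),
      Finset.prod_insert (by simp [Fin.ext_iff, i1, i2]), Finset.prod_singleton]
    simp [d, i0, i1, i2]
    field_simp
  let D : Matrix.SpecialLinearGroup (Fin n) F := ⟨diagonal d, by rw [det_diagonal, hprod]⟩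
  let T : Matrix.SpecialLinearGroup (Fin n) F :=
    ⟨transvection i0 i1 1, det_transvection_of_ne _ _ h01 _⟩
  have hnotcentral : ∀ (A : Matrix.SpecialLinearGroup (Fin n) F) (i j : Fin n),
      ((A : Matrix (Fin n) (Fin n) F) i i ≠ (A : Matrix (Fin n) (Fin n) F) j j ∨
        (i ≠ j ∧ (A : Matrix (Fin n) (Fin n) F) i j ≠ 0)) →
      (QuotientGroup.mk A : ProjectiveSpecialLinearGroup (Fin n) F) ≠ 1 := by
    intro A i j hA e
    obtain ⟨u, -, hu⟩ := Matrix.SpecialLinearGroup.mem_center_iff.1 ((QuotientGroup.eq_one_iff A).1 e)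
    rw [← hu] at hA
    rcases hA with h | ⟨hij, h⟩
    · simp at h
    · simp [hij] at h
  have hT : T ^ p = 1 := by
    have key : ∀ k : ℕ, (transvection i0 i1 (1 : F)) ^ k = transvection i0 i1 (k : F) := by
      intro k
      induction k with
      | zero => simp [transvection]
      | succ k ih =>
        rw [pow_succ, ih, transvection_mul_transvection_same i0 i1 h01, Nat.cast_succ]
    refine Subtype.ext ?_
    rw [Matrix.SpecialLinearGroup.coe_pow]
    show (transvection i0 i1 (1 : F)) ^ p = _
    rw [key, CharP.cast_eq_zero, transvection_zero]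
    rfl
  refine ⟨QuotientGroup.mk T, QuotientGroup.mk D, by rw [← QuotientGroup.mk_pow, hT]; rfl,
    hnotcentral T i0 i1 (Or.inr ⟨h01, by simp [T, transvection, h01]⟩), ?_, ?_, ?_⟩
  · rw [← QuotientGroup.mk_pow, QuotientGroup.eq_one_iff, Subgroup.mem_center_iff]
    have hD : ((D ^ r : Matrix.SpecialLinearGroup (Fin n) F) : Matrix (Fin n) (Fin n) F) =
        c • (1 : Matrix (Fin n) (Fin n) F) := by
      rw [Matrix.SpecialLinearGroup.coe_pow]
      show (diagonal d) ^ r = _
      rw [diagonal_pow, ← diagonal_one, ← diagonal_smul]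
      congr 1
      funext i
      simp only [d, Pi.pow_apply, Pi.smul_apply, smul_eq_mul, mul_one]
      split_ifs
      · exact hc1
      · exact hc2
      · rw [one_pow, hc3 (by have := i.2; omega)]
    intro g
    refine Subtype.ext ?_
    rw [Matrix.SpecialLinearGroup.coe_mul, Matrix.SpecialLinearGroup.coe_mul, hD]
    simp
  · rcases hne with h | ⟨h4, h⟩
    · exact hnotcentral D i0 i2 (Or.inl (by simp [D, d, i0, i2]; exact Ne.symm h))
    · exact hnotcentral D i0 ⟨3, h4⟩ (Or.inl (by simp [D, d, i0]; exact h))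
  · suffices hTD : Commute T D from
      hTD.map (QuotientGroup.mk' (Subgroup.center (Matrix.SpecialLinearGroup (Fin n) F)))
    refine Subtype.ext ?_
    show transvection i0 i1 (1 : F) * diagonal d = diagonal d * transvection i0 i1 (1 : F)
    have hd01 : d i0 = d i1 := by simp [d, i0, i1]
    rw [transvection, Matrix.add_mul, Matrix.mul_add, one_mul, mul_one]
    congr 1
    ext i j
    simp only [Matrix.mul_diagonal, Matrix.diagonal_mul, single_apply]
    split_ifs with h
    · rw [← h.1, ← h.2, hd01]; ring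
    · ring

theorem psl_char_adj_iff [NeZero n] (hn : 2 ≤ n) {r : ℕ} (hr : r.Prime) (hrp : r ≠ p) :
    r * p ∉ Set.range (orderOf : ProjectiveSpecialLinearGroup (Fin n) F → ℕ) ↔
      (n - 2 < orderOf ((Fintype.card F : ℕ) : ZMod r) ∨
        (n = 3 ∧ r = 3 ∧ 3 ∣ Fintype.card F - 1 ∧ ¬ 9 ∣ Fintype.card F - 1)) := by
  classical
  have hk0 := orderOf_card_pos (F := F) hr hrp
  obtain ⟨hrq, hr0⟩ := not_dvd_card (F := F) (p := p) hr hrp
  by_cases hk : 2 ≤ orderOf ((Fintype.card F : ℕ) : ZMod r)
  · have hno : ¬ (n = 3 ∧ r = 3 ∧ 3 ∣ Fintype.card F - 1 ∧ ¬ 9 ∣ Fintype.card F - 1) := fun h =>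
      not_dvd_sub_one hk (h.2.1 ▸ h.2.2.1)
    rw [or_iff_left hno, psl_prPair_iff hr (Fact.out : p.Prime) hrp (not_dvd_sub_one hk)
      (not_char_dvd_sub_one (F := F))]
    constructor
    · intro h
      by_contra hle
      exact h (prPair_glue_gl (a := orderOf ((Fintype.card F : ℕ) : ZMod r))
        (b := n - orderOf ((Fintype.card F : ℕ) : ZMod r)) (by omega) hr Fact.out
        (dvd_card_gl (by omega) le_rfl (dvd_pow_sub_one_iff.2 dvd_rfl))
        (char_dvd_card_gl (by omega)))
    · rintro hlt ⟨g, h, hg, g1, hh, h1, hc⟩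
      have := gl_le_of_pair (n := n) (finrank_fin_fun F) hr hrq hr0 hh h1 hg g1 hc hk
      omega
  have hk1 : orderOf ((Fintype.card F : ℕ) : ZMod r) = 1 := by omega
  have hdq : r ∣ Fintype.card F - 1 := by
    have := (dvd_pow_sub_one_iff (F := F) (r := r) (i := 1)).2 (by rw [hk1])
    rwa [pow_one] at this
  rw [hk1]
  rcases (show n = 2 ∨ 3 ≤ n by omega) with rfl | hn3
  · exact iff_of_true (psl_two_not_adj hr hrp) (Or.inl (by omega))
  rw [or_iff_right (by omega : ¬ n - 2 < 1), mem_range_orderOf_iff hr (Fact.out : p.Prime) hrp]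
  have hcard : Fintype.card Fˣ = Fintype.card F - 1 := Fintype.card_units F
  have getroot : ∀ m, m ∣ Fintype.card F - 1 → ∃ u : Fˣ, orderOf u = m := fun m hm => by
    obtain ⟨g, hg⟩ := IsCyclic.exists_ofOrder_eq_natCard (α := Fˣ)
    rw [Nat.card_eq_fintype_card, hcard] at hg
    obtain ⟨j, hj⟩ := hm
    rw [hj] at hg
    have hj0 : j ≠ 0 := by rintro rfl; rw [mul_zero] at hg; exact (orderOf_pos g).ne' hg
    exact ⟨g ^ j, by rw [orderOf_pow_of_dvd hj0 (hg ▸ dvd_mul_left _ _), hg,
      Nat.mul_div_cancel _ (Nat.pos_of_ne_zero hj0)]⟩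
  by_cases hex : n = 3 ∧ r = 3 ∧ ¬ 9 ∣ Fintype.card F - 1
  · obtain ⟨rfl, rfl, h9⟩ := hex
    refine iff_of_true (fun h => ?_) ⟨rfl, rfl, hdq, h9⟩
    obtain ⟨x, y, hx3, hx, hy, y1, hc⟩ := exists_char_lift h
    obtain ⟨c, -, hcx⟩ := Matrix.SpecialLinearGroup.mem_center_iff.1 hx3
    have hcoe : ∀ (z : Matrix.SpecialLinearGroup (Fin 3) F) (v : Fin 3 → F),
        slToGL 3 F z v = (z : Matrix (Fin 3) (Fin 3) F) *ᵥ v := fun z v => rfl
    obtain ⟨a, ha⟩ := scalar_of_cube (p := p) (V := Fin 3 → F) (finrank_fin_fun F)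
      (fun e => hrp e.symm) h9 (x := slToGL 3 F x) (y := slToGL 3 F y) (c := c)
      (fun v => by rw [← map_pow, hcoe, ← hcx]; simp)
      (by
        have : ((slToGL 3 F x : (Fin 3 → F) ≃ₗ[F] (Fin 3 → F)) : (Fin 3 → F) →ₗ[F] (Fin 3 → F)) =
            Matrix.toLin' (x : Matrix (Fin 3) (Fin 3) F) := LinearMap.ext fun v => hcoe x v
        rw [this, LinearMap.det_toLin']; exact x.2)
      (by rw [← map_pow, hy, map_one]) ((map_ne_one_iff _ slToGL_injective).2 y1)
      (hc.map (slToGL 3 F))
    refine hx (Subgroup.mem_center_iff.2 fun g => slToGL_injective ?_)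
    rw [map_mul, map_mul]
    refine LinearEquiv.ext fun v => ?_
    rw [LinearEquiv.mul_apply, LinearEquiv.mul_apply, ha, ha, map_smul]
  · refine iff_of_false (not_not_intro ?_) fun h => hex ⟨h.1, h.2.1, h.2.2.2⟩
    by_cases h3 : n = 3 ∧ r = 3
    · obtain ⟨rfl, rfl⟩ := h3
      have h9 : 9 ∣ Fintype.card F - 1 := by_contra fun h => hex ⟨rfl, rfl, h⟩
      obtain ⟨u, hu⟩ := getroot 9 h9
      have hu9 : (u : F) ^ 9 = 1 := by rw [← Units.val_pow_eq_pow_val, ← hu, pow_orderOf_eq_one]; rfl
      have hu0 : (u : F) ≠ 0 := u.ne_zero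
      refine exists_transv_pair (p := p) hn3 hu0 ⟨(u : F) ^ 3, rfl, ?_, by omega⟩ (Or.inl fun e => ?_)
      · field_simp
        linear_combination -hu9
      · have h33 : (u : F) ^ 3 = 1 := by
          field_simp at e
          linear_combination -e
        have := orderOf_dvd_of_pow_eq_one (Units.ext (by rw [Units.val_pow_eq_pow_val, h33]; rfl) :
          u ^ 3 = 1)
        rw [hu] at this; omega
    · obtain ⟨u, hu⟩ := getroot r hdq
      have hur : (u : F) ^ r = 1 := by rw [← Units.val_pow_eq_pow_val, ← hu, pow_orderOf_eq_one]; rfl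
      have hu1 : (u : F) ≠ 1 := fun e => hr.ne_one (by
        rw [← hu, show u = 1 from Units.ext e, orderOf_one])
      have hu0 : (u : F) ≠ 0 := u.ne_zero
      refine exists_transv_pair (p := p) hn3 hu0 ⟨1, hur, by rw [inv_pow, ← pow_mul, mul_comm,
        pow_mul, hur, one_pow, inv_one], fun _ => rfl⟩ ?_
      by_cases h4 : 4 ≤ n
      · exact Or.inr ⟨h4, hu1⟩
      · refine Or.inl fun e => h3 ⟨by omega, ?_⟩
        have h33 : (u : F) ^ 3 = 1 := by
          field_simp at e
          linear_combination -e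
        have := orderOf_dvd_of_pow_eq_one (Units.ext (by rw [Units.val_pow_eq_pow_val, h33]; rfl) :
          u ^ 3 = 1)
        rw [hu] at this
        exact (Nat.prime_dvd_prime_iff_eq hr Nat.prime_three).1 this

end Cfsg.Agent.Lib.BCGraph
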