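import Cfsg.Agent.Lib.BCGraph.CharPair

/-! Adjacency in the prime graph of `PSp(2n,q)` in terms of commuting pairs in `Sp(2n,q)`. -/

set_option autoImplicit false
set_option linter.unusedSectionVars false

namespace Cfsg.Agent.Lib.BCGraph

open Module
open Cfsg.Agent.Lib.Forms Cfsg.Agent.Lib.Symplectic

variable {F : Type*} [Field F] [Fintype F]

theorem psp_prPair_iff {p : ℕ} [Fact p.Prime] [CharP F p] {n : ℕ} {r s : ℕ} (hr : r.Prime)
    (hs : s.Prime) (hrs : r ≠ s) (hr2 : r ≠ 2) (hs' : s ≠ 2 ∨ s = p) :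
    r * s ∈ Set.range (orderOf : Cfsg.PSp n F → ℕ) ↔ PrPair (Isom (stdForm n F)) r s := by
  rw [mem_range_orderOf_iff hr hs hrs, PrPair.congr (pspEquiv n F)]
  by_cases h2 : (2 : F) = 0
  · have hbot : Subgroup.center (Isom (stdForm n F)) = ⊥ := by
      rw [Subgroup.eq_bot_iff_forall]
      intro z hz
      rcases (mem_center_isom z).1 hz with rfl | rfl
      · rfl
      · exact isom_ext fun x => by
          rw [negIsom_smul, one_smul, ← neg_one_smul F x,
            show (-1 : F) = 1 by linear_combination -h2, one_smul]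
    exact PrPair.congr ((QuotientGroup.quotientMulEquivOfEq hbot).trans QuotientGroup.quotientBot)
  · have hp2 : p ≠ 2 := by
      rintro rfl
      exact h2 (by exact_mod_cast CharP.cast_eq_zero F 2)
    have hs2 : s ≠ 2 := by rcases hs' with h | h <;> omega
    exact prPair_quotient_iff center_sq (hr.odd_of_ne_two hr2) (hs.odd_of_ne_two hs2)

/-- Gluing elements of two orthogonal summands. -/
theorem prPair_glue {n a b : ℕ} (hab : a + b = n) {r s : ℕ} (hr : r.Prime) (hs : s.Prime)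
    (ha : r ∣ Nat.card (Isom (stdForm a F))) (hb : s ∣ Nat.card (Isom (stdForm b F))) :
    PrPair (Isom (stdForm n F)) r s := by
  have hT := isSymp_prodForm (isSympForm_stdForm a F) (isSympForm_stdForm b F)
  obtain ⟨e, he⟩ := exists_isometry hT (isSympForm_stdForm n F)
    (by rw [finrank_prod, finrank_std, finrank_std, finrank_std]; omega)
  let ι := (isomCongr e he).toMonoidHom.comp (spGlue (stdForm a F) (stdForm b F))
  have hι : Function.Injective ι := (isomCongr e he).injective.comp (spGlue_injective _ _)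
  obtain ⟨x, x1, xr⟩ := exists_pow_of_dvd hr ha
  obtain ⟨y, y1, ys⟩ := exists_pow_of_dvd hs hb
  refine PrPair.map ι hι ⟨(1, y), (x, 1), ?_, fun e0 => y1 (congrArg Prod.snd e0), ?_,
    fun e0 => x1 (congrArg Prod.fst e0), Commute.prod (Commute.one_left x) (Commute.one_right y)⟩
  · rw [Prod.pow_mk, ys, one_pow]; rfl
  · rw [Prod.pow_mk, xr, one_pow]; rfl

theorem dvd_card_isom_std {m : ℕ} {r i : ℕ} (hi : 1 ≤ i) (him : i ≤ m)
    (h : r ∣ Fintype.card F ^ (2 * i) - 1) : r ∣ Nat.card (Isom (stdForm m F)) := by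
  rw [card_isom_model (isSympForm_stdForm m F) (finrank_std m F)]
  refine (h.trans ?_).mul_left _
  have := Finset.dvd_prod_of_mem (fun j => Fintype.card F ^ (2 * (j + 1)) - 1)
    (Finset.mem_range.2 (show i - 1 < m by omega))
  simpa [Nat.sub_add_cancel hi] using this

theorem eta_pos {k ηk : ℕ} (hk : 0 < k) (hη : (Odd k ∧ ηk = k) ∨ (Even k ∧ 2 * ηk = k)) : 1 ≤ ηk := by
  rcases hη with ⟨-, rfl⟩ | ⟨-, rfl⟩ <;> omega

theorem orderOf_card_pos {p : ℕ} [Fact p.Prime] [CharP F p] {r : ℕ} (hr : r.Prime) (hrp : r ≠ p) :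
    0 < orderOf ((Fintype.card F : ℕ) : ZMod r) := by
  haveI := Fact.mk hr
  refine orderOf_pos_iff.2 (isOfFinOrder_iff_pow_eq_one.2 ⟨r - 1, Nat.sub_pos_of_lt hr.one_lt,
    ZMod.pow_card_sub_one_eq_one fun h => ?_⟩)
  rw [ZMod.natCast_eq_zero_iff] at h
  obtain ⟨j, hpp, hj⟩ := FiniteField.card F p
  rw [hj] at h
  exact hrp ((Nat.prime_dvd_prime_iff_eq hr hpp).1 (hr.dvd_of_dvd_pow h))

/-- Adjacency with the characteristic. -/
theorem char_adj_iff {p : ℕ} [Fact p.Prime] [CharP F p] {n : ℕ} (hn : 2 ≤ n) {r : ℕ} (hr : r.Prime)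
    (hr2 : r ≠ 2) (hrp : r ≠ p) {ηk : ℕ}
    (hη : (Odd (orderOf ((Fintype.card F : ℕ) : ZMod r)) ∧
        ηk = orderOf ((Fintype.card F : ℕ) : ZMod r)) ∨
      (Even (orderOf ((Fintype.card F : ℕ) : ZMod r)) ∧
        2 * ηk = orderOf ((Fintype.card F : ℕ) : ZMod r))) :
    r * p ∈ Set.range (orderOf : Cfsg.PSp n F → ℕ) ↔ ηk ≤ n - 1 := by
  have hp : p.Prime := Fact.out
  rw [psp_prPair_iff (p := p) hr hp hrp hr2 (Or.inr rfl)]
  constructor
  · rintro ⟨g, h, hgp, g1, hhr, h1, hc⟩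
    exact eta_le_of_pair (isSympForm_stdForm n F) hn (finrank_std n F ▸ rfl) hr hr2 hrp hhr h1 hgp g1
      hc.symm hη
  · intro hle
    have h1 := eta_pos (orderOf_card_pos (F := F) hr hrp) hη
    refine prPair_glue (a := ηk) (b := n - ηk) (by omega) hr hp
      (dvd_card_isom_std h1 le_rfl (dvd_pow_sub_one_iff.2 (dvd_two_mul_eta hη))) ?_
    rw [card_isom_model (isSympForm_stdForm (n - ηk) F) (finrank_std (n - ηk) F)]
    obtain ⟨j, -, hj⟩ := FiniteField.card F p
    exact ((dvd_pow_self p j.ne_zero).trans (hj ▸ dvd_pow_self _ (pow_ne_zero 2 (by omega)))).mul_right _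

end Cfsg.Agent.Lib.BCGraph
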