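import Cfsg.Agent.Lib.BCGraph.Core
import Cfsg.Agent.Lib.BCGraph.Disc
import Cfsg.Agent.Lib.Forms.Bridge
import Cfsg.Agent.Lib.OrthStd.Models
import Cfsg.Agent.Lib.Symplectic.Std
import Cfsg.Agent.Lib.ClassicalIso.SympInvolutions

/-!
Commuting pairs of prime order in `Sp(2n,q)` and `O(2n+1,q)`, `q` odd.
-/

set_option autoImplicit false
set_option linter.unusedSectionVars false

namespace Cfsg.Agent.Lib.BCGraph

open Module QuadraticMap
open Cfsg.Agent.Lib.Forms Cfsg.Agent.Lib.Symplectic

variable {F : Type*} [Field F] [Fintype F]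

/-- A commuting pair of non-trivial elements of exponents `r` and `s`. -/
def PrPair (G : Type*) [Group G] (r s : ℕ) : Prop :=
  ∃ h y : G, h ^ s = 1 ∧ h ≠ 1 ∧ y ^ r = 1 ∧ y ≠ 1 ∧ Commute h y

theorem PrPair.map {G H : Type*} [Group G] [Group H] {r s : ℕ} (f : G →* H)
    (hf : Function.Injective f) (h : PrPair G r s) : PrPair H r s := by
  obtain ⟨a, b, h1, h2, h3, h4, h5⟩ := h
  exact ⟨f a, f b, by rw [← map_pow, h1, map_one], (map_ne_one_iff f hf).2 h2,
    by rw [← map_pow, h3, map_one], (map_ne_one_iff f hf).2 h4, h5.map f⟩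

/-- A commuting pair in `Sp` whose image in `PSp` consists of elements of orders `s` and `2`. -/
def SpTwo (n s : ℕ) (F : Type*) [Field F] : Prop :=
  ∃ h y : Isom (stdForm n F), h ^ s = 1 ∧ h ≠ 1 ∧ Commute h y ∧
    (y * y = 1 ∨ y * y = negIsom (stdForm n F)) ∧ y ≠ 1 ∧ y ≠ negIsom (stdForm n F)

/-- A commuting pair in `O` of an element of exponent `s` and an involution of `Ω`. -/
def OTwo (n s : ℕ) (F : Type*) [Field F] : Prop :=
  ∃ h y : orth (OrthStd.qOddC n F), h ^ s = 1 ∧ h ≠ 1 ∧ Commute h y ∧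
    y ∈ commutator (orth (OrthStd.qOddC n F)) ∧ y * y = 1 ∧ y ≠ 1

theorem map_mem_commutator {G H : Type*} [Group G] [Group H] (f : G →* H) {x : G}
    (hx : x ∈ commutator G) : f x ∈ commutator H := by
  rw [commutator_def] at hx ⊢
  have := Subgroup.mem_map_of_mem f hx
  rw [Subgroup.map_commutator] at this
  exact Subgroup.commutator_mono le_top le_top this

theorem two_ne_zero' (hodd : Odd (Fintype.card F)) : (2 : F) ≠ 0 := fun h => by
  have := Nat.odd_iff.mp hodd
  have h2 := FiniteField.even_card_of_char_two (F := F)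
    (CharP.ringChar_of_prime_eq_zero Nat.prime_two (by exact_mod_cast h))
  omega

theorem val_eq {X : Type*} {p : X → Prop} {a b : Subtype p} (h : a = b) : a.1 = b.1 := h ▸ rfl

instance finiteLinearEquiv {V : Type*} [AddCommGroup V] [Module F V] [FiniteDimensional F V] :
    Finite (V ≃ₗ[F] V) :=
  haveI : Finite V := Module.finite_of_finite F
  Finite.of_injective (fun g : V ≃ₗ[F] V => (g : V → V)) DFunLike.coe_injective

section General

variable {V : Type*} [AddCommGroup V] [Module F V] [FiniteDimensional F V]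

theorem sq_mem_commutator {Q : QuadraticForm F V} (hQ : Nondeg Q) (h2 : (2 : F) ≠ 0)
    (hn : 2 ≤ finrank F V) (g : orth Q) : g * g ∈ commutator (orth Q) := by
  haveI : Finite V := Module.finite_of_finite F
  rw [← ker_omegaHom hQ h2 hn one_ne_zero, MonoidHom.mem_ker, map_mul]
  obtain ⟨a, b⟩ := omegaHom hQ h2 1 g
  refine Prod.ext ?_ (Int.units_mul_self b)
  show a * a = 1
  rcases mult_zmod2_cases a with rfl | rfl
  · rfl
  · decide

theorem even_finrank_range_dev {B : V →ₗ[F] V →ₗ[F] F} (h2 : (2 : F) ≠ 0) (hB : IsSympForm B)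
    {y : V ≃ₗ[F] V} (hy : y ∈ Isom B) (hyy : ∀ x, y (y x) = x) :
    Even (finrank F (LinearMap.range (dev y))) := by
  have e : LinearMap.range (dev y) = ClassicalIso.negSp y.toLinearMap := by
    ext x
    rw [ClassicalIso.mem_negSp]
    constructor
    · rintro ⟨z, rfl⟩
      show y (y z - z) = -(y z - z)
      rw [map_sub, hyy]; abel
    · intro hx
      refine ⟨(-(2⁻¹ : F)) • x, ?_⟩
      rw [dev_apply, map_smul, show y x = -x from hx, ← smul_sub,
        show -x - x = (-(2 : F)) • x by rw [neg_smul, two_smul]; abel, smul_smul,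
        show -(2⁻¹ : F) * -2 = 1 by field_simp, one_smul]
  rw [e]
  exact even_finrank (ClassicalIso.isSymp_fix h2 hB y.toLinearMap hy hyy).2

theorem dvd_card_of_pow {G : Type*} [Group G] [Finite G] {g : G} {r : ℕ} (hr : r.Prime)
    (h1 : g ≠ 1) (h : g ^ r = 1) : r ∣ Nat.card G := by
  haveI := Fact.mk hr
  rw [← orderOf_eq_prime h h1]
  exact orderOf_dvd_natCard g

theorem exists_pow_of_dvd {G : Type*} [Group G] [Finite G] {r : ℕ} (hr : r.Prime)
    (h : r ∣ Nat.card G) : ∃ g : G, g ≠ 1 ∧ g ^ r = 1 := by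
  haveI := Fact.mk hr
  obtain ⟨g, hg⟩ := exists_prime_orderOf_dvd_card' r h
  exact ⟨g, fun e => hr.ne_one (by rw [← hg, e, orderOf_one]), hg ▸ pow_orderOf_eq_one g⟩

theorem card_orth_qOddC (hodd : Odd (Fintype.card F)) (m : ℕ) :
    Nat.card (orth (OrthStd.qOddC m F)) =
      2 * (Fintype.card F ^ (m ^ 2) *
        ∏ i ∈ Finset.range m, (Fintype.card F ^ (2 * (i + 1)) - 1)) := by
  rw [← OrthStd.card_isometry (OrthStd.quadFormOdd_eq m), OrthStd.card_orth_odd rfl hodd, mul_assoc]

theorem card_isom_model {B : V →ₗ[F] V →ₗ[F] F} (hB : IsSympForm B) {m : ℕ}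
    (hm : finrank F V = 2 * m) : Nat.card (Isom B) =
      Fintype.card F ^ (m ^ 2) * ∏ i ∈ Finset.range m, (Fintype.card F ^ (2 * (i + 1)) - 1) :=
  card_isom hB Nat.card_eq_fintype_card hm

theorem qOddC_nondeg (h2 : (2 : F) ≠ 0) (m : ℕ) : Nondeg (OrthStd.qOddC m F) :=
  (prod_nondeg (qPlus_nondeg m) (qOne_nondeg one_ne_zero h2)).of_equiv (OrthStd.oddIso m F).symm

theorem finrank_qOddC (m : ℕ) : finrank F (Unit ⊕ (Fin m ⊕ Fin m) → F) = 2 * m + 1 := by
  rw [Module.finrank_fintype_fun_eq_card]; simp; omega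

theorem exists_omega_involution (hodd : Odd (Fintype.card F)) {m : ℕ} (hm : 1 ≤ m) :
    ∃ z : orth (OrthStd.qOddC m F),
      z ∈ commutator (orth (OrthStd.qOddC m F)) ∧ z * z = 1 ∧ z ≠ 1 := by
  have h2 := two_ne_zero' hodd
  have hi := index_commutator_odd (qOddC_nondeg h2 m) h2 (by rw [finrank_qOddC]; omega)
  have hmul := Subgroup.card_mul_index (commutator (orth (OrthStd.qOddC m F)))
  rw [hi, card_orth_qOddC hodd m] at hmul
  obtain ⟨j, hj⟩ := hodd
  have h8 : 8 ∣ Fintype.card F ^ (2 * (0 + 1)) - 1 := by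
    obtain ⟨t, ht⟩ := (Nat.even_mul_succ_self j)
    refine ⟨t, ?_⟩
    rw [hj, show (2 * j + 1) ^ (2 * (0 + 1)) = 4 * (j * (j + 1)) + 1 by ring, ht]
    omega
  have hdvd : 8 ∣ ∏ i ∈ Finset.range m, (Fintype.card F ^ (2 * (i + 1)) - 1) :=
    h8.trans (Finset.dvd_prod_of_mem _ (Finset.mem_range.2 hm))
  obtain ⟨u, hu⟩ := hdvd.mul_left (Fintype.card F ^ (m ^ 2))
  have h2dvd : 2 ∣ Nat.card (commutator (orth (OrthStd.qOddC m F))) := by
    refine ⟨2 * u, ?_⟩
    rw [hu] at hmul
    omega
  obtain ⟨z, hz1, hz2⟩ := exists_pow_of_dvd Nat.prime_two h2dvd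
  exact ⟨z.1, z.2, by simpa [pow_two, Subtype.ext_iff] using hz2, fun e => hz1 (Subtype.ext e)⟩

theorem fpf_range_ne_bot {h : V ≃ₗ[F] V} (h1 : h ≠ 1) : LinearMap.range (dev h) ≠ ⊥ := by
  intro e
  refine h1 (LinearEquiv.ext fun x => ?_)
  have : dev h x ∈ (⊥ : Submodule F V) := e ▸ LinearMap.mem_range_self _ x
  simpa [dev_apply, sub_eq_zero] using this

end General

/-! ### From `Sp` to `O` -/

section SpSide

variable {n : ℕ} {B : (Fin n ⊕ Fin n → F) →ₗ[F] (Fin n ⊕ Fin n → F) →ₗ[F] F}

theorem sp_to_orth (hodd : Odd (Fintype.card F)) (hB : IsSympForm B) {s : ℕ} (hsp : s.Prime)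
    (hso : Odd s) (hs0 : (s : F) ≠ 0) (h y : Isom B) (hs : h ^ s = 1) (h1 : h ≠ 1)
    (hc : Commute h y) :
    (∀ r : ℕ, r.Prime → Odd r → y ^ r = 1 → y ≠ 1 → PrPair (orth (OrthStd.qOddC n F)) r s) ∧
    ((y * y = 1 ∨ y * y = negIsom B) → y ≠ 1 → y ≠ negIsom B → OTwo n s F) := by
  classical
  have h2 := two_ne_zero' hodd
  have hs' : h.1 ^ s = 1 := congrArg Subtype.val hs
  have h1' : h.1 ≠ 1 := fun e => h1 (Subtype.ext e)
  set W := LinearMap.range (dev h.1) with hWdef
  set K := fixSpace h.1 with hKdef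
  have hKW : IsCompl K W := isCompl_fix_range hs0 hs'
  obtain ⟨hBW, hBK⟩ := isSymp_restr_compl hB hKW fun k hk w hw => fix_range_orth h.2 hk hw
  let C : Subgroup ((Fin n ⊕ Fin n → F) ≃ₗ[F] (Fin n ⊕ Fin n → F)) :=
    Subgroup.centralizer {h.1} ⊓ Isom B
  have hC : ∀ g ∈ C, g * h.1 = h.1 * g := fun g hg => Subgroup.mem_centralizer_singleton_iff.1 hg.1
  have hWinv : ∀ g ∈ C, ∀ x ∈ W, g x ∈ W := fun g hg x hx => range_dev_invariant (hC g hg) hx
  have hKinv : ∀ g ∈ C, ∀ x ∈ K, g x ∈ K := fun g hg x hx => fixSpace_invariant (hC g hg) hx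
  let πW := spRes C inf_le_right W hWinv
  let πK := spRes C inf_le_right K hKinv
  let hh : C := ⟨h.1, Subgroup.mem_centralizer_singleton_iff.2 rfl, h.2⟩
  let yy : C := ⟨y.1, Subgroup.mem_centralizer_singleton_iff.2 (val_eq hc.eq :).symm, y.2⟩
  have hcc : Commute hh yy := Subtype.ext (val_eq hc.eq :)
  have hsep : ∀ g : C, πW g = 1 → πK g = 1 → g = 1 := fun g gW gK =>
    Subtype.ext (ext_isCompl hKW
      (fun x hx => (resHom_eq_one_iff C K hKinv g).1 (congrArg Subtype.val gK) x hx)
      (fun x hx => (resHom_eq_one_iff C W hWinv g).1 (congrArg Subtype.val gW) x hx))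
  set hW := πW hh with hhW
  have hWs : hW ^ s = 1 := by
    rw [hhW, ← map_pow, show hh ^ s = 1 from Subtype.ext hs', map_one]
  have hWs' : hW.1 ^ s = 1 := congrArg Subtype.val hWs
  have hWf : FPF hW.1 := fun x hx =>
    Subtype.ext (fpf_range hs0 hs' x.2 (congrArg Subtype.val hx))
  haveI : Nontrivial W := Submodule.nontrivial_iff_ne_bot.2 (fpf_range_ne_bot h1')
  have hW1 : hW ≠ 1 := by
    intro e
    obtain ⟨x, hx⟩ := exists_ne (0 : W)
    exact hx (hWf x (by rw [e]; rfl))
  obtain ⟨k, hk⟩ := even_finrank hBW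
  obtain ⟨m, hm⟩ := even_finrank hBK
  have hdim : finrank F K + finrank F W = 2 * n := by
    rw [Submodule.finrank_add_eq_of_isCompl hKW, finrank_std]
  let QW := qOfSymp (restr B W) hW.1
  let R := OrthStd.qOddC m F
  have hQW : Nondeg QW := qOfSymp_nondeg h2 hBW hW.2 hso hWs' hWf
  have hT : Nondeg (QW.prod R) := prod_nondeg hQW (qOddC_nondeg h2 m)
  have hk0 : 0 < k := by
    have : 0 < finrank F W := finrank_pos
    omega
  have hTdim : finrank F (W × (Unit ⊕ (Fin m ⊕ Fin m) → F)) = 2 * n + 1 := by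
    rw [finrank_prod, finrank_qOddC]; omega
  obtain ⟨Θ⟩ := nonempty_orth_mulEquiv_odd hT hTdim
  let ι : orth QW × orth R →* orth (OrthStd.qOddC n F) := Θ.toMonoidHom.comp (orthGlue QW R)
  have hι : Function.Injective ι := Θ.injective.comp (orthGlue_injective QW R)
  let oh : orth QW := ⟨hW.1, mem_orth_qOfSymp hW.2 rfl⟩
  let oy : orth QW := ⟨(πW yy).1,
    mem_orth_qOfSymp (πW yy).2 (congrArg Subtype.val (hcc.map πW).eq).symm⟩
  have ohs : oh ^ s = 1 := Subtype.ext hWs'
  have oh1 : oh ≠ 1 := fun e => hW1 (Subtype.ext (congrArg (fun g : orth QW => g.1) e))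
  have ohy : Commute oh oy := Subtype.ext (val_eq (hcc.map πW).eq :)
  have h1s : (ι (oh, 1)) ^ s = 1 := by
    rw [← map_pow, Prod.pow_mk, ohs, one_pow]; exact map_one ι
  have h1ne : ι (oh, 1) ≠ 1 := (map_ne_one_iff ι hι).2 fun e => oh1 (congrArg Prod.fst e)
  refine ⟨fun r hr hro hyr hy1 => ?_, fun hy2 hy1 hyn => ?_⟩
  · have hyy : yy ^ r = 1 := Subtype.ext (val_eq hyr :)
    by_cases hyW : πW yy = 1
    · have hyK : πK yy ≠ 1 := fun e => hy1 (Subtype.ext (val_eq (hsep yy hyW e) :))
      have hdiv := dvd_card_of_pow hr hyK (by rw [← map_pow, hyy, map_one])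
      rw [card_isom_model hBK (m := m) (by omega)] at hdiv
      obtain ⟨z, hz1, hzr⟩ := exists_pow_of_dvd (G := orth R) hr
        (by rw [card_orth_qOddC hodd]; exact hdiv.mul_left 2)
      refine ⟨ι (oh, 1), ι (1, z), h1s, h1ne, ?_,
        (map_ne_one_iff ι hι).2 fun e => hz1 (congrArg Prod.snd e), ?_⟩
      · rw [← map_pow, Prod.pow_mk, hzr, one_pow]; exact map_one ι
      · exact (Commute.prod (Commute.one_right oh) (Commute.one_left z)).map ι
    · have oy1 : oy ≠ 1 := fun e => hyW (Subtype.ext (congrArg (fun g : orth QW => g.1) e))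
      have oyr : oy ^ r = 1 := by
        refine Subtype.ext ?_
        show (πW yy).1 ^ r = 1
        rw [← Subgroup.coe_pow, ← map_pow, hyy, map_one, Subgroup.coe_one]
      refine ⟨ι (oh, 1), ι (oy, 1), h1s, h1ne, ?_,
        (map_ne_one_iff ι hι).2 fun e => oy1 (congrArg Prod.fst e), ?_⟩
      · rw [← map_pow, Prod.pow_mk, oyr, one_pow]; exact map_one ι
      · exact (Commute.prod ohy (Commute.one_left 1)).map ι
  · suffices ∃ u : orth QW × orth R, orthGlue QW R u ∈ commutator (orth (QW.prod R)) ∧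
        u * u = 1 ∧ u ≠ 1 ∧ Commute (oh, 1) u by
      obtain ⟨u, hu, huu, hu1, huc⟩ := this
      exact ⟨ι (oh, 1), ι u, h1s, h1ne, huc.map ι, map_mem_commutator Θ.toMonoidHom hu,
        by rw [← map_mul, huu]; exact map_one ι, (map_ne_one_iff ι hι).2 hu1⟩
    by_cases hm0 : 1 ≤ m
    · obtain ⟨z, hz, hzz, hz1⟩ := exists_omega_involution (F := F) hodd hm0
      exact ⟨(1, z), map_mem_commutator ((orthGlue QW R).comp (MonoidHom.inr _ _)) hz,
        Prod.ext (one_mul 1) hzz, fun e => hz1 (congrArg Prod.snd e),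
        Commute.prod (Commute.one_right oh) (Commute.one_left z)⟩
    · have hKbot : K = ⊥ := Submodule.finrank_eq_zero.1 (by omega)
      haveI : Subsingleton K := by rw [hKbot]; infer_instance
      have hKsub : ∀ g : Isom (restr B K), g = 1 := fun g =>
        Subtype.ext (LinearEquiv.ext fun x => Subsingleton.elim _ _)
      have hnegW : ∀ g : C, (∀ x ∈ W, g.1 x = -x) → ∀ x, g.1 x = -x := fun g hg x => by
        have hx : x ∈ K ⊔ W := by rw [hKW.sup_eq_top]; trivial
        rw [hKbot, bot_sup_eq] at hx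
        exact hg x hx
      have hn2 : 2 ≤ finrank F (W × (Unit ⊕ (Fin m ⊕ Fin m) → F)) := by omega
      let ng : orth QW := ⟨LinearEquiv.neg F, fun x => QuadraticMap.map_neg QW x⟩
      have hngc : Commute oh ng :=
        Subtype.ext (LinearEquiv.ext fun x => map_neg hW.1 x)
      have hngy : Commute ng oy :=
        Subtype.ext (LinearEquiv.ext fun x => (map_neg (πW yy).1 x).symm)
      have hng1 : ng ≠ 1 := by
        intro e
        obtain ⟨x, hx⟩ := exists_ne (0 : W)
        have hxx : -x = x := LinearEquiv.congr_fun (congrArg Subtype.val e) x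
        have : (2 : F) • x = 0 := by rw [two_smul]; nth_rw 1 [← hxx]; exact neg_add_cancel x
        exact hx ((smul_eq_zero.1 this).resolve_left h2)
      have hngng : ng * ng = 1 := Subtype.ext (LinearEquiv.ext fun x => neg_neg x)
      rcases hy2 with hy2 | hy2
      · -- a non-scalar involution
        have oyy : oy * oy = 1 := by
          refine Subtype.ext ?_
          show (πW yy).1 * (πW yy).1 = 1
          rw [← Subgroup.coe_mul, ← map_mul,
            show yy * yy = 1 from Subtype.ext (val_eq hy2 :), map_one, Subgroup.coe_one]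
        have oy1 : oy ≠ 1 := fun e => hy1 (Subtype.ext (val_eq
          (hsep yy (Subtype.ext (congrArg (fun g : orth QW => g.1) e)) (hKsub _)) :))
        have oyn : oy ≠ ng := fun e => hyn (Subtype.ext (LinearEquiv.ext
          (hnegW yy fun x hx => congrArg Subtype.val
            (LinearEquiv.congr_fun (congrArg Subtype.val e) (⟨x, hx⟩ : W)))))
        have dick : ∀ g : orth QW, g.1 ∈ Isom (restr B W) → g * g = 1 →
            dickson (QW.prod R) (orthGlue QW R (g, 1)) = 0 := by
          intro g hgB hgg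
          have hgg' : ∀ x, g.1 (g.1 x) = x := fun x =>
            LinearEquiv.congr_fun (congrArg Subtype.val hgg) x
          have hev := even_finrank_range_dev h2 hBW hgB hgg'
          have e : LinearMap.range (dev (orthGlue QW R (g, 1)).1) =
              (LinearMap.range (dev g.1)).map (LinearMap.inl F W _) := by
            ext x
            simp only [LinearMap.mem_range, Submodule.mem_map, exists_exists_eq_and]
            constructor
            · rintro ⟨z, rfl⟩
              exact ⟨z.1, Prod.ext rfl (sub_self z.2).symm⟩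
            · rintro ⟨z, rfl⟩
              exact ⟨(z, 0), Prod.ext rfl (sub_self 0)⟩
          rw [dickson, e, LinearEquiv.finrank_eq
            (Submodule.equivMapOfInjective _ LinearMap.inl_injective _).symm]
          exact (ZMod.natCast_eq_zero_iff_even).2 hev
        have hmemiff : ∀ g : orth QW, g.1 ∈ Isom (restr B W) → g * g = 1 →
            (orthGlue QW R (g, 1) ∈ commutator (orth (QW.prod R)) ↔
              Orth52.spinHom hT h2 hn2 (orthGlue QW R (g, 1)) = 1) := fun g hgB hgg => by
          rw [Orth52.mem_commutator_iff_spin hT h2 hn2, dick g hgB hgg]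
          simp
        have hoyB : oy.1 ∈ Isom (restr B W) := (πW yy).2
        have hngB : ng.1 ∈ Isom (restr B W) := fun a b => by simp [ng]
        have hgy : oy * ng * (oy * ng) = 1 := by
          rw [mul_assoc, ← mul_assoc ng oy ng, hngy.eq, mul_assoc oy ng ng, hngng, mul_one, oyy]
        by_cases c1 : orthGlue QW R (oy, 1) ∈ commutator (orth (QW.prod R))
        · exact ⟨(oy, 1), c1, Prod.ext oyy (one_mul 1), fun e => oy1 (congrArg Prod.fst e),
            Commute.prod ohy (Commute.one_left 1)⟩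
        · by_cases c2 : orthGlue QW R (oy * ng, 1) ∈ commutator (orth (QW.prod R))
          · refine ⟨(oy * ng, 1), c2, Prod.ext hgy (one_mul 1), fun e => oyn ?_,
              Commute.prod (ohy.mul_right hngc) (Commute.one_left 1)⟩
            have e' : oy * ng = 1 := congrArg Prod.fst e
            rw [eq_inv_of_mul_eq_one_left e']
            exact inv_eq_of_mul_eq_one_left hngng
          · refine ⟨(ng, 1), (hmemiff ng hngB hngng).2 ?_, Prod.ext hngng (one_mul 1),
              fun e => hng1 (congrArg Prod.fst e), Commute.prod hngc (Commute.one_left 1)⟩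
            rw [hmemiff oy hoyB oyy] at c1
            rw [hmemiff (oy * ng) (Subgroup.mul_mem _ hoyB hngB) hgy,
              show ((oy * ng, 1) : orth QW × orth R) = (oy, 1) * (ng, 1) from
                Prod.ext rfl (one_mul 1).symm, map_mul, map_mul,
              (Int.units_eq_one_or _).resolve_left c1] at c2
            rcases Int.units_eq_one_or (Orth52.spinHom hT h2 hn2 (orthGlue QW R (ng, 1))) with e | e
            · exact e
            · exact absurd (by rw [e]; exact Int.units_mul_self _) c2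
      · -- a square root of -1
        have oyy : oy * oy = ng := by
          refine Subtype.ext (LinearEquiv.ext fun x => Subtype.ext ?_)
          exact LinearEquiv.congr_fun (congrArg Subtype.val hy2) (x : Fin n ⊕ Fin n → F)
        refine ⟨(ng, 1), ?_, Prod.ext hngng (one_mul 1), fun e => hng1 (congrArg Prod.fst e),
          Commute.prod hngc (Commute.one_left 1)⟩
        rw [show ((ng, 1) : orth QW × orth R) = (oy, 1) * (oy, 1) from
          Prod.ext oyy.symm (one_mul 1).symm, map_mul]
        exact sq_mem_commutator hT h2 hn2 _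

end SpSide

/-! ### From `O` to `Sp` -/

section OSide

variable {n : ℕ} {Q : QuadraticForm F (Unit ⊕ (Fin n ⊕ Fin n) → F)}

theorem orth_to_sp (hodd : Odd (Fintype.card F)) (hQ : Nondeg Q) (hn : 1 ≤ n) {s : ℕ}
    (hsp : s.Prime) (hso : Odd s) (hs0 : (s : F) ≠ 0) (h y : orth Q) (hs : h ^ s = 1) (h1 : h ≠ 1)
    (hc : Commute h y) :
    (∀ r : ℕ, r.Prime → Odd r → y ^ r = 1 → y ≠ 1 → PrPair (Isom (stdForm n F)) r s) ∧
    (y ∈ commutator (orth Q) → y * y = 1 → y ≠ 1 → SpTwo n s F) := by
  classical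
  have h2 := two_ne_zero' hodd
  have hV2 : 2 ≤ finrank F (Unit ⊕ (Fin n ⊕ Fin n) → F) := by rw [finrank_qOddC]; omega
  haveI : Finite (Unit ⊕ (Fin n ⊕ Fin n) → F) := Module.finite_of_finite F
  have hs' : h.1 ^ s = 1 := congrArg Subtype.val hs
  have h1' : h.1 ≠ 1 := fun e => h1 (Subtype.ext e)
  set W := LinearMap.range (dev h.1) with hWdef
  set K := fixSpace h.1 with hKdef
  have hKW : IsCompl K W := isCompl_fix_range hs0 hs'
  have hperp : ∀ k ∈ K, ∀ w ∈ W, polar Q k w = 0 := fun k hk w hw => polar_fix_range h.2 hk hw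
  obtain ⟨hQW, hQK⟩ := nondeg_res_compl hQ hKW hperp
  let C : Subgroup ((Unit ⊕ (Fin n ⊕ Fin n) → F) ≃ₗ[F] (Unit ⊕ (Fin n ⊕ Fin n) → F)) :=
    Subgroup.centralizer {h.1} ⊓ orth Q
  have hC : ∀ g ∈ C, g * h.1 = h.1 * g := fun g hg => Subgroup.mem_centralizer_singleton_iff.1 hg.1
  have hWinv : ∀ g ∈ C, ∀ x ∈ W, g x ∈ W := fun g hg x hx => range_dev_invariant (hC g hg) hx
  have hKinv : ∀ g ∈ C, ∀ x ∈ K, g x ∈ K := fun g hg x hx => fixSpace_invariant (hC g hg) hx
  let πW := orthRes C inf_le_right W hWinv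
  let πK := orthRes C inf_le_right K hKinv
  let hh : C := ⟨h.1, Subgroup.mem_centralizer_singleton_iff.2 rfl, h.2⟩
  let yy : C := ⟨y.1, Subgroup.mem_centralizer_singleton_iff.2 (val_eq hc.eq :).symm, y.2⟩
  have hcc : Commute hh yy := Subtype.ext (val_eq hc.eq :)
  have hsep : ∀ g : C, πW g = 1 → πK g = 1 → g = 1 := fun g gW gK =>
    Subtype.ext (ext_isCompl hKW
      (fun x hx => (resHom_eq_one_iff C K hKinv g).1 (congrArg Subtype.val gK) x hx)
      (fun x hx => (resHom_eq_one_iff C W hWinv g).1 (congrArg Subtype.val gW) x hx))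
  set hW := πW hh with hhW
  have hWs : hW ^ s = 1 := by
    rw [hhW, ← map_pow, show hh ^ s = 1 from Subtype.ext hs', map_one]
  have hWs' : hW.1 ^ s = 1 := congrArg Subtype.val hWs
  have hWf : FPF hW.1 := fun x hx =>
    Subtype.ext (fpf_range hs0 hs' x.2 (congrArg Subtype.val hx))
  haveI : Nontrivial W := Submodule.nontrivial_iff_ne_bot.2 (fpf_range_ne_bot h1')
  let BW := sympOfQ (res Q W) hW.1
  have hBW : IsSympForm BW := isSymp_sympOfQ hQW hW.2 hso hWs' hWf
  obtain ⟨k, hk⟩ := even_finrank hBW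
  have hdim : finrank F K + finrank F W = 2 * n + 1 := by
    rw [Submodule.finrank_add_eq_of_isCompl hKW, finrank_qOddC]
  obtain ⟨m, hm⟩ : ∃ m, finrank F K = 2 * m + 1 := ⟨n - k, by omega⟩
  have hT : IsSympForm (prodForm BW (stdForm m F)) := isSymp_prodForm hBW (isSympForm_stdForm m F)
  have hTdim : finrank F (W × (Fin m ⊕ Fin m → F)) = 2 * n := by
    rw [finrank_prod, finrank_std]; omega
  obtain ⟨e, he⟩ := exists_isometry hT (isSympForm_stdForm n F) (by rw [hTdim, finrank_std])
  let Θ := isomCongr e he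
  let ι : Isom BW × Isom (stdForm m F) →* Isom (stdForm n F) :=
    Θ.toMonoidHom.comp (spGlue BW (stdForm m F))
  have hι : Function.Injective ι := Θ.injective.comp (spGlue_injective BW _)
  have hιneg : ι (negIsom BW, negIsom (stdForm m F)) = negIsom (stdForm n F) := by
    refine isom_ext fun x => ?_
    obtain ⟨z, rfl⟩ := e.surjective x
    exact (isomCongr_smul e he _ z).trans (by
      show e (glueHom ((negIsom BW).1, (negIsom (stdForm m F)).1) z) = -e z
      rw [← map_neg]; rfl)
  let sh : Isom BW := ⟨hW.1, mem_isom_sympOfQ hW.2 rfl⟩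
  let sy : Isom BW := ⟨(πW yy).1,
    mem_isom_sympOfQ (πW yy).2 (congrArg Subtype.val (hcc.map πW).eq).symm⟩
  have shs : sh ^ s = 1 := Subtype.ext hWs'
  have sh1 : sh ≠ 1 := by
    intro e0
    obtain ⟨x, hx⟩ := exists_ne (0 : W)
    exact hx (hWf x (LinearEquiv.congr_fun (congrArg Subtype.val e0) x))
  have shy : Commute sh sy := Subtype.ext (val_eq (hcc.map πW).eq :)
  have h1s : (ι (sh, 1)) ^ s = 1 := by
    rw [← map_pow, Prod.pow_mk, shs, one_pow]; exact map_one ι
  have h1ne : ι (sh, 1) ≠ 1 := (map_ne_one_iff ι hι).2 fun e0 => sh1 (congrArg Prod.fst e0)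
  refine ⟨fun r hr hro hyr hy1 => ?_, fun hyΩ hyy hy1 => ?_⟩
  · have hyy : yy ^ r = 1 := Subtype.ext (val_eq hyr :)
    by_cases hyW : πW yy = 1
    · have hyK : πK yy ≠ 1 := fun e0 => hy1 (Subtype.ext (val_eq (hsep yy hyW e0) :))
      have hdiv := dvd_card_of_pow hr hyK (by rw [← map_pow, hyy, map_one])
      obtain ⟨Φ⟩ := nonempty_orth_mulEquiv_odd hQK hm
      rw [Nat.card_congr Φ.toEquiv, card_orth_qOddC hodd] at hdiv
      have hr2 : ¬ r ∣ 2 := fun hd => by
        obtain ⟨t, rfl⟩ := hro
        have := (Nat.prime_dvd_prime_iff_eq hr Nat.prime_two).1 hd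
        omega
      obtain ⟨z, hz1, hzr⟩ := exists_pow_of_dvd (G := Isom (stdForm m F)) hr
        (by rw [card_isom_model (isSympForm_stdForm m F) (finrank_std m F)]
            exact (hr.dvd_mul.1 hdiv).resolve_left hr2)
      refine ⟨ι (sh, 1), ι (1, z), h1s, h1ne, ?_,
        (map_ne_one_iff ι hι).2 fun e0 => hz1 (congrArg Prod.snd e0), ?_⟩
      · rw [← map_pow, Prod.pow_mk, hzr, one_pow]; exact map_one ι
      · exact (Commute.prod (Commute.one_right sh) (Commute.one_left z)).map ι
    · have sy1 : sy ≠ 1 := fun e0 => hyW (Subtype.ext (congrArg (fun g : Isom BW => g.1) e0))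
      have syr : sy ^ r = 1 := by
        refine Subtype.ext ?_
        show (πW yy).1 ^ r = 1
        rw [← Subgroup.coe_pow, ← map_pow, hyy, map_one, Subgroup.coe_one]
      refine ⟨ι (sh, 1), ι (sy, 1), h1s, h1ne, ?_,
        (map_ne_one_iff ι hι).2 fun e0 => sy1 (congrArg Prod.fst e0), ?_⟩
      · rw [← map_pow, Prod.pow_mk, syr, one_pow]; exact map_one ι
      · exact (Commute.prod shy (Commute.one_left 1)).map ι
  · have hW0 : negIsom BW ≠ 1 := fun e0 => h2 (negIsom_eq_one_iff.1 e0)
    suffices ∃ u : Isom BW × Isom (stdForm m F),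
        (u * u = 1 ∨ u * u = (negIsom BW, negIsom (stdForm m F))) ∧ u ≠ 1 ∧
        u ≠ (negIsom BW, negIsom (stdForm m F)) ∧ Commute (sh, 1) u by
      obtain ⟨u, huu, hu1, hun, huc⟩ := this
      refine ⟨ι (sh, 1), ι u, h1s, h1ne, huc.map ι, ?_, (map_ne_one_iff ι hι).2 hu1,
        fun e0 => hun (hι (e0.trans hιneg.symm))⟩
      rcases huu with huu | huu
      · left; rw [← map_mul, huu]; exact map_one ι
      · right; rw [← map_mul, huu, hιneg]
    by_cases hm0 : 1 ≤ m
    · have hm1 : negIsom (stdForm m F) ≠ 1 := by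
        haveI : Nonempty (Fin m ⊕ Fin m) := ⟨Sum.inl ⟨0, hm0⟩⟩
        exact fun e0 => h2 (negIsom_eq_one_iff.1 e0)
      exact ⟨(1, negIsom _), Or.inl (Prod.ext (one_mul 1) (isom_ext fun x => by simp [mul_smul])),
        fun e0 => hm1 (congrArg Prod.snd e0), fun e0 => hW0 (congrArg Prod.fst e0).symm,
        Commute.prod (Commute.one_right sh) (Commute.one_left _)⟩
    · have hm00 : m = 0 := by omega
      subst hm00
      have hsub : ∀ g : Isom (stdForm 0 F), g = 1 := fun g =>
        Subtype.ext (LinearEquiv.ext fun x => Subsingleton.elim _ _)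
      suffices ∃ u : Isom BW, (u * u = 1 ∨ u * u = negIsom BW) ∧ u ≠ 1 ∧ u ≠ negIsom BW ∧
          Commute sh u by
        obtain ⟨u, huu, hu1, hun, huc⟩ := this
        refine ⟨(u, 1), ?_, fun e0 => hu1 (congrArg Prod.fst e0),
          fun e0 => hun (congrArg Prod.fst e0), Commute.prod huc (Commute.one_left 1)⟩
        rcases huu with huu | huu
        · exact Or.inl (Prod.ext huu (one_mul 1))
        · exact Or.inr (Prod.ext huu ((one_mul 1).trans (hsub _).symm))
      by_cases hgood : sy ≠ 1 ∧ sy ≠ negIsom BW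
      · refine ⟨sy, Or.inl (Subtype.ext ?_), hgood.1, hgood.2, shy⟩
        show (πW yy).1 * (πW yy).1 = 1
        rw [← Subgroup.coe_mul, ← map_mul,
          show yy * yy = 1 from Subtype.ext (val_eq hyy :), map_one, Subgroup.coe_one]
      simp only [ne_eq, not_and_or, not_not] at hgood
      obtain ⟨w, hw0, hw⟩ := (finrank_eq_one_iff' (K := F) (V := K)).1 (by omega)
      have hyinv : ∀ x, y.1 (y.1 x) = x := fun x =>
        LinearEquiv.congr_fun (congrArg Subtype.val hyy) x
      have hcK : ∀ x ∈ K, y.1 x = x ∨ y.1 x = -x := by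
        intro x hx
        obtain ⟨c, hcw⟩ := hw ⟨y.1 w, hKinv _ yy.2 _ w.2⟩
        obtain ⟨d, hdx⟩ := hw ⟨x, hx⟩
        have hyw : y.1 (w : Unit ⊕ (Fin n ⊕ Fin n) → F) = c • (w : Unit ⊕ (Fin n ⊕ Fin n) → F) :=
          (congrArg Subtype.val hcw).symm
        have hxw : x = d • (w : Unit ⊕ (Fin n ⊕ Fin n) → F) := (congrArg Subtype.val hdx).symm
        have hcc2 : c * c = 1 := by
          have h3 := hyinv (w : Unit ⊕ (Fin n ⊕ Fin n) → F)
          rw [hyw, map_smul, hyw, smul_smul] at h3
          exact smul_left_injective F (fun e0 => hw0 (Subtype.ext e0)) (h3.trans (one_smul F _).symm)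
        rcases mul_self_eq_one_iff.1 hcc2 with hc1 | hc1
        · left; rw [hxw, map_smul, hyw, hc1, one_smul]
        · right; rw [hxw, map_smul, hyw, hc1, neg_one_smul, smul_neg]
      have hKall : (∀ x ∈ K, y.1 x = x) ∨ (∀ x ∈ K, y.1 x = -x) := by
        rcases hcK w w.2 with e0 | e0
        · left
          intro x hx
          obtain ⟨d, hdx⟩ := hw ⟨x, hx⟩
          rw [show x = d • (w : Unit ⊕ (Fin n ⊕ Fin n) → F) from (congrArg Subtype.val hdx).symm,
            map_smul, e0]
        · right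
          intro x hx
          obtain ⟨d, hdx⟩ := hw ⟨x, hx⟩
          rw [show x = d • (w : Unit ⊕ (Fin n ⊕ Fin n) → F) from (congrArg Subtype.val hdx).symm,
            map_smul, e0, smul_neg]
      have hdick := ((Orth52.mem_commutator_iff_spin hQ h2 hV2 y).1 hyΩ).1
      rw [dickson, ZMod.natCast_eq_zero_iff_even] at hdick
      have hneg2 : ∀ x : Unit ⊕ (Fin n ⊕ Fin n) → F, y.1 x = -x → x ∈ LinearMap.range (dev y.1) := by
        intro x hx
        refine ⟨(-(2⁻¹ : F)) • x, ?_⟩
        rw [dev_apply, map_smul, hx, ← smul_sub, show -x - x = (-(2 : F)) • x by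
          rw [neg_smul, two_smul]; abel, smul_smul, show -(2⁻¹ : F) * -2 = 1 by field_simp, one_smul]
      rcases hgood with hg | hg
      · -- trivial on `W`
        have hyW : ∀ x ∈ W, y.1 x = x := fun x hx =>
          congrArg Subtype.val (LinearEquiv.congr_fun (congrArg Subtype.val hg) (⟨x, hx⟩ : W))
        rcases hKall with hK | hK
        · exact absurd (Subtype.ext (ext_isCompl hKW hK hyW)) hy1
        · exfalso
          have e0 : LinearMap.range (dev y.1) = K := by
            refine le_antisymm ?_ fun x hx => hneg2 x (hK x hx)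
            rintro _ ⟨x, rfl⟩
            have hx : x ∈ K ⊔ W := by rw [hKW.sup_eq_top]; trivial
            obtain ⟨a, ha, b, hb, rfl⟩ := Submodule.mem_sup.1 hx
            rw [dev_apply, map_add, hK a ha, hyW b hb, show -a + b - (a + b) = -a - a by abel]
            exact K.sub_mem (K.neg_mem ha) ha
          rw [e0, hm] at hdick
          exact absurd hdick (by decide)
      · have hyW : ∀ x ∈ W, y.1 x = -x := fun x hx =>
          congrArg Subtype.val (LinearEquiv.congr_fun (congrArg Subtype.val hg) (⟨x, hx⟩ : W))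
        rcases hKall with hK | hK
        · -- the discriminant of `W` is a square
          by_contra hcon
          let b := Module.finBasis F W
          have hsq := isSquare_disc_of_neg_mem hQ h2 hV2 hKW hperp ⟨k, hk⟩ hyΩ hyW hK b
          obtain ⟨⟨t, ht⟩, ht0⟩ := isSquare_det_symp hBW b
          rw [show BW = (polarBilin (res Q W)).comp (skew hW.1) from rfl, det_comp_left] at ht ht0
          have hdd : IsSquare (LinearMap.det (skew hW.1)) := by
            obtain ⟨u, hu⟩ := hsq
            have hu0 : u ≠ 0 := fun e0 => (mul_ne_zero_iff.1 ht0).2 (by rw [hu, e0, mul_zero])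
            refine ⟨t / u, ?_⟩
            rw [hu] at ht
            field_simp
            linear_combination ht
          refine not_isSquare_det_skew h2 hBW (sh.2) hsp hso hs0 hWs' hWf (fun z hz hzc hzz => ?_) ?_ hdd
          · by_contra hno
            simp only [not_or] at hno
            exact hcon ⟨⟨z, hz⟩, Or.inl (Subtype.ext (LinearEquiv.ext hzz)),
              fun e0 => hno.1 (congrArg Subtype.val e0),
              fun e0 => hno.2 (LinearEquiv.congr_fun (congrArg Subtype.val e0)),
              Subtype.ext hzc.symm⟩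
          · rintro ⟨z, hz, hzc, hzz⟩
            refine hcon ⟨⟨z, hz⟩, Or.inr (Subtype.ext (LinearEquiv.ext hzz)), ?_, ?_,
              Subtype.ext hzc.symm⟩
            · intro e0
              obtain ⟨x, hx⟩ := exists_ne (0 : W)
              have hxx := hzz x
              rw [show z = 1 from congrArg Subtype.val e0] at hxx
              have hxx' : x = -x := hxx
              have : (2 : F) • x = 0 := by rw [two_smul]; nth_rw 1 [hxx']; exact neg_add_cancel x
              exact hx ((smul_eq_zero.1 this).resolve_left h2)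
            · intro e0
              obtain ⟨x, hx⟩ := exists_ne (0 : W)
              have hz1 : ∀ u, z u = -u := LinearEquiv.congr_fun (congrArg Subtype.val e0)
              have hxx := hzz x
              rw [hz1, hz1, neg_neg] at hxx
              have : (2 : F) • x = 0 := by rw [two_smul]; nth_rw 1 [hxx]; exact neg_add_cancel x
              exact hx ((smul_eq_zero.1 this).resolve_left h2)
        · exfalso
          have e0 : LinearMap.range (dev y.1) = ⊤ := by
            rw [Submodule.eq_top_iff']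
            intro x
            refine hneg2 x ?_
            have hx : x ∈ K ⊔ W := by rw [hKW.sup_eq_top]; trivial
            obtain ⟨a, ha, b, hb, rfl⟩ := Submodule.mem_sup.1 hx
            rw [map_add, hK a ha, hyW b hb, neg_add]
          rw [e0, finrank_top, finrank_qOddC] at hdick
          exact (Nat.not_even_iff_odd.2 ⟨n, rfl⟩) hdick

end OSide

end Cfsg.Agent.Lib.BCGraph
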